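import Cfsg.Agent.TwoGroups.ExtSub
import Mathlib.GroupTheory.PGroup
import Mathlib.GroupTheory.Abelianization.Defs
import Mathlib.RingTheory.Coprime.Lemmas
import Mathlib.Tactic.Group
import Mathlib.Tactic.Linarith

/-!
Nonabelian 2-groups with a cyclic subgroup of index two, and 2-groups whose derived subgroup has
index at most four.
-/

set_option autoImplicit false

namespace Cfsg.Agent.Screen.CyclicIndexTwo

open Subgroup

/-- The four square roots of one modulo a power of two. -/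
theorem sq_one_cases {m : ℕ} (hm : 2 ≤ m) {u : ℤ} (h : (2 : ℤ) ^ m ∣ u * u - 1) :
    (2 : ℤ) ^ m ∣ u - 1 ∨ (2 : ℤ) ^ m ∣ u + 1 ∨ (2 : ℤ) ^ m ∣ u - 1 - 2 ^ (m - 1) ∨
      (2 : ℤ) ^ m ∣ u + 1 - 2 ^ (m - 1) := by
  obtain ⟨k, rfl⟩ : ∃ k, m = k + 2 := ⟨m - 2, by omega⟩
  rcases Int.even_or_odd u with ⟨t, rfl⟩ | ⟨t, rfl⟩
  · exfalso
    have h2 : (2 : ℤ) ∣ (t + t) * (t + t) - 1 := (dvd_pow_self 2 (by omega)).trans h
    have : (2 : ℤ) ∣ 1 := by
      have h3 : (2 : ℤ) ∣ (t + t) * (t + t) := Dvd.intro (t * (t + t)) (by ring)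
      simpa using Int.dvd_sub h3 h2
    norm_num at this
  have hd : (2 : ℤ) ^ k ∣ t * (t + 1) := by
    rw [pow_add, show (2 * t + 1) * (2 * t + 1) - 1 = t * (t + 1) * 4 by ring] at h
    exact Int.dvd_of_mul_dvd_mul_right (by norm_num : (4 : ℤ) ≠ 0) (by simpa using h)
  rw [show k + 2 - 1 = k + 1 from rfl, pow_add, pow_succ]
  rcases Int.even_or_odd t with ⟨e, he⟩ | ⟨e, he⟩
  · have hc : IsCoprime ((2 : ℤ) ^ k) (t + 1) := IsCoprime.pow_left ⟨-e, 1, by rw [he]; ring⟩
    obtain ⟨f, hf⟩ := hc.dvd_of_dvd_mul_right hd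
    rcases Int.even_or_odd f with ⟨g, rfl⟩ | ⟨g, rfl⟩
    · left; exact ⟨g, by rw [hf]; ring⟩
    · right; right; left; exact ⟨g, by rw [hf]; ring⟩
  · have hc : IsCoprime ((2 : ℤ) ^ k) t := IsCoprime.pow_left ⟨-e, 1, by rw [he]; ring⟩
    obtain ⟨f, hf⟩ := hc.dvd_of_dvd_mul_left hd
    rcases Int.even_or_odd f with ⟨g, rfl⟩ | ⟨g, rfl⟩
    · right; left; exact ⟨g, by linear_combination (2 : ℤ) * hf⟩
    · right; right; right; exact ⟨g, by linear_combination (2 : ℤ) * hf⟩

/-- Standard generators. -/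
theorem exists_gens {G : Type*} [Group G] [Finite G] (n : ℕ) (hn : 3 ≤ n) (hG : Nat.card G = 2 ^ n)
    (C : Subgroup G) (hC : IsCyclic C) (hCi : C.index = 2) (hna : ∃ x y : G, x * y ≠ y * x) :
    ∃ a b : G, orderOf a = 2 ^ (n - 1) ∧ b ∉ zpowers a ∧
      ((b ^ 2 = 1 ∧ b * a * b⁻¹ = a⁻¹) ∨ (b ^ 2 = a ^ (2 ^ (n - 2)) ∧ b * a * b⁻¹ = a⁻¹) ∨
        (4 ≤ n ∧ b ^ 2 = 1 ∧ b * a * b⁻¹ = a ^ (1 + 2 ^ (n - 2))) ∨
        (4 ≤ n ∧ b ^ 2 = 1 ∧ b * a * b⁻¹ = a ^ (2 ^ (n - 2) - 1))) := by
  obtain ⟨m, rfl⟩ : ∃ m, n = m + 1 := ⟨n - 1, by omega⟩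
  obtain ⟨a, rfl⟩ := (Subgroup.isCyclic_iff_exists_zpowers_eq_top C).1 hC
  simp only [Nat.add_sub_cancel, show m + 1 - 2 = m - 1 by omega]
  have ha : orderOf a = 2 ^ m := by
    have h := (zpowers a).card_mul_index
    rw [hCi, hG, Nat.card_zpowers, pow_succ] at h
    omega
  obtain ⟨b, hb⟩ : ∃ b, b ∉ zpowers a := by
    by_contra hcon
    push Not at hcon
    rw [show zpowers a = ⊤ from eq_top_iff.2 fun g _ => hcon g, index_top] at hCi
    omega
  have heq : ∀ i j : ℤ, a ^ i = a ^ j ↔ (2 : ℤ) ^ m ∣ i - j := fun i j => by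
    rw [zpow_eq_zpow_iff_modEq, ha, Int.modEq_iff_dvd, ← dvd_neg, neg_sub]
    push_cast; rfl
  have hn' : (zpowers a).Normal := Subgroup.normal_of_index_eq_two hCi
  obtain ⟨u, hu⟩ := mem_zpowers_iff.1 (hn'.conj_mem a (mem_zpowers a) b)
  obtain ⟨s, hs⟩ := mem_zpowers_iff.1 ((mul_mem_iff_of_index_two hCi).2 (iff_of_false hb hb) : b * b ∈ zpowers a)
  have hconj : ∀ i : ℤ, b * a ^ i * b⁻¹ = a ^ (u * i) := fun i => by
    rw [← conj_zpow, ← hu, ← zpow_mul]
  have hus : (2 : ℤ) ^ m ∣ u * s - s := by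
    rw [← heq, ← hconj, hs]; group
  have huu : (2 : ℤ) ^ m ∣ u * u - 1 := by
    rw [← heq, ← hconj u, hu, show b * (b * a * b⁻¹) * b⁻¹ = b * b * a * (b * b)⁻¹ by group, ← hs,
      zpow_one]
    group
  have hsq : ∀ j : ℤ, (b * a ^ j) * (b * a ^ j) = a ^ (u * j + s + j) := fun j => by
    rw [zpow_add, zpow_add, ← hconj, hs]; group
  have hconj' : ∀ j : ℤ, (b * a ^ j) * a * (b * a ^ j)⁻¹ = a ^ u := fun j => by
    rw [hu]; group
  have hnot : ∀ j : ℤ, b * a ^ j ∉ zpowers a := fun j h =>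
    hb ((Subgroup.mul_mem_cancel_right _ (zpow_mem (mem_zpowers a) j)).1 h)
  have habel : (2 : ℤ) ^ m ∣ u - 1 → False := by
    intro h
    obtain ⟨x, y, hxy⟩ := hna
    apply hxy
    have hab : b * a = a * b := by
      have e : a ^ u = a ^ (1 : ℤ) := (heq _ _).2 h
      rw [hu, zpow_one] at e
      exact mul_inv_eq_iff_eq_mul.1 e
    have hgen : ∀ g : G, g ∈ zpowers a ∨ ∃ i : ℤ, g = b * a ^ i := fun g => by
      by_cases hg : g ∈ zpowers a
      · exact Or.inl hg
      · obtain ⟨i, hi⟩ := mem_zpowers_iff.1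
          ((mul_mem_iff_of_index_two hCi).2 (iff_of_false (by simpa using hb) hg) : b⁻¹ * g ∈ zpowers a)
        exact Or.inr ⟨i, by rw [hi, mul_inv_cancel_left]⟩
    have hcb : ∀ g : G, Commute b g := fun g => by
      rcases hgen g with h | ⟨i, rfl⟩
      · obtain ⟨i, rfl⟩ := mem_zpowers_iff.1 h; exact Commute.zpow_right hab i
      · exact (Commute.refl b).mul_right (Commute.zpow_right hab i)
    have hca : ∀ g : G, Commute a g := fun g => by
      rcases hgen g with h | ⟨i, rfl⟩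
      · obtain ⟨i, rfl⟩ := mem_zpowers_iff.1 h; exact Commute.self_zpow a i
      · exact (hcb a).symm.mul_right (Commute.self_zpow a i)
    rcases hgen x with h | ⟨i, rfl⟩
    · obtain ⟨i, rfl⟩ := mem_zpowers_iff.1 h; exact (hca y).zpow_left i
    · exact (hcb y).mul_left ((hca y).zpow_left i)
  have hinvcase : (2 : ℤ) ^ m ∣ u + 1 → ∃ a b : G, orderOf a = 2 ^ m ∧ b ∉ zpowers a ∧
      ((b ^ 2 = 1 ∧ b * a * b⁻¹ = a⁻¹) ∨ (b ^ 2 = a ^ (2 ^ (m - 1)) ∧ b * a * b⁻¹ = a⁻¹) ∨
        (4 ≤ m + 1 ∧ b ^ 2 = 1 ∧ b * a * b⁻¹ = a ^ (1 + 2 ^ (m - 1))) ∨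
        (4 ≤ m + 1 ∧ b ^ 2 = 1 ∧ b * a * b⁻¹ = a ^ (2 ^ (m - 1) - 1))) := by
    intro h
    have hinv : b * a * b⁻¹ = a⁻¹ := by
      rw [← hu, ← zpow_neg_one, heq]; simpa using h
    have h2s : (2 : ℤ) ^ m ∣ s * 2 := by
      have e := Int.dvd_sub (h.mul_left s) hus
      rwa [show s * (u + 1) - (u * s - s) = s * 2 by ring] at e
    have hd : (2 : ℤ) ^ (m - 1) ∣ s := by
      rw [show m = m - 1 + 1 by omega, pow_succ] at h2s
      exact Int.dvd_of_mul_dvd_mul_right (by norm_num) h2s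
    obtain ⟨e, he⟩ := hd
    refine ⟨a, b, ha, hb, ?_⟩
    rw [pow_two, ← hs, ← zpow_natCast]
    push_cast
    rcases Int.even_or_odd e with ⟨g, rfl⟩ | ⟨g, rfl⟩
    · left
      refine ⟨?_, hinv⟩
      rw [← zpow_zero a, heq]
      exact ⟨g, by rw [he, sub_zero]; nth_rw 2 [show m = m - 1 + 1 by omega]; rw [pow_succ]; ring⟩
    · right; left
      refine ⟨?_, hinv⟩
      rw [heq]
      exact ⟨g, by rw [he]; nth_rw 3 [show m = m - 1 + 1 by omega]; rw [pow_succ]; ring⟩
  rcases sq_one_cases (by omega) huu with h | h | h | h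
  · exact (habel h).elim
  · exact hinvcase h
  · -- modular
    rcases (by omega : m = 2 ∨ 3 ≤ m) with hm2 | hm3
    · subst hm2
      exact hinvcase (by norm_num at h ⊢; omega)
    obtain ⟨k, rfl⟩ : ∃ k, m = k + 3 := ⟨m - 3, by omega⟩
    simp only [show k + 3 - 1 = k + 2 from rfl] at h ⊢
    obtain ⟨e, he⟩ := h
    have hu' : u = 1 + 2 ^ (k + 2) + 2 ^ (k + 3) * e := by linear_combination he
    obtain ⟨s', rfl⟩ : (2 : ℤ) ∣ s := by
      rw [hu', show (1 + 2 ^ (k + 2) + (2 : ℤ) ^ (k + 3) * e) * s - s = 2 ^ (k + 2) * (s * (1 + 2 * e)) by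
        rw [pow_succ]; ring, pow_succ (2 : ℤ) (k + 2)] at hus
      have h2 : (2 : ℤ) ∣ s * (1 + 2 * e) := Int.dvd_of_mul_dvd_mul_left (by positivity) hus
      have h3 := Int.dvd_sub h2 (Dvd.intro (s * e) rfl : (2 : ℤ) ∣ 2 * (s * e))
      rwa [show s * (1 + 2 * e) - 2 * (s * e) = s by ring] at h3
    obtain ⟨x, y, hxy⟩ : IsCoprime ((1 : ℤ) + 2 ^ (k + 1) + 2 ^ (k + 2) * e) (2 ^ (k + 2)) :=
      IsCoprime.pow_right ⟨1, -(2 ^ k + 2 ^ (k + 1) * e), by rw [pow_succ, pow_succ]; ring⟩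
    refine ⟨a, b * a ^ (-s' * x), ha, hnot _, Or.inr (Or.inr (Or.inl ⟨by omega, ?_, ?_⟩))⟩
    · rw [pow_two, hsq, ← zpow_zero a, heq]
      refine ⟨y * s', ?_⟩
      rw [hu', sub_zero]
      linear_combination (-2 * s') * hxy
    · rw [hconj', ← zpow_natCast, heq]
      exact ⟨e, by rw [hu']; push_cast; ring⟩
  · -- semidihedral
    rcases (by omega : m = 2 ∨ 3 ≤ m) with hm2 | hm3
    · subst hm2
      exact (habel (by norm_num at h ⊢; omega)).elim
    obtain ⟨k, rfl⟩ : ∃ k, m = k + 3 := ⟨m - 3, by omega⟩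
    simp only [show k + 3 - 1 = k + 2 from rfl] at h ⊢
    obtain ⟨e, he⟩ := h
    have hu' : u = -1 + 2 ^ (k + 2) + 2 ^ (k + 3) * e := by linear_combination he
    obtain ⟨f, hf⟩ : (2 : ℤ) ^ (k + 2) ∣ s := by
      rw [hu', show (-1 + 2 ^ (k + 2) + (2 : ℤ) ^ (k + 3) * e) * s - s =
        s * (-1 + 2 ^ (k + 1) + 2 ^ (k + 2) * e) * 2 by simp only [pow_succ]; ring, pow_succ] at hus
      have hc : IsCoprime ((2 : ℤ) ^ (k + 2)) (-1 + 2 ^ (k + 1) + 2 ^ (k + 2) * e) :=
        IsCoprime.pow_left ⟨2 ^ k + 2 ^ (k + 1) * e, -1, by rw [pow_succ, pow_succ]; ring⟩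
      exact hc.dvd_of_dvd_mul_right (Int.dvd_of_mul_dvd_mul_right (by norm_num) hus)
    have hcast : ((2 ^ (k + 2) - 1 : ℕ) : ℤ) = 2 ^ (k + 2) - 1 := by
      rw [Nat.cast_sub Nat.one_le_two_pow]; push_cast; rfl
    rcases Int.even_or_odd f with ⟨g, rfl⟩ | ⟨g, rfl⟩
    · refine ⟨a, b, ha, hb, Or.inr (Or.inr (Or.inr ⟨by omega, ?_, ?_⟩))⟩
      · rw [pow_two, ← hs, ← zpow_zero a, heq]
        exact ⟨g, by rw [hf, pow_succ (2 : ℤ) (k + 2)]; ring⟩
      · rw [← hu, ← zpow_natCast, heq, hcast]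
        exact ⟨e, by rw [hu']; ring⟩
    · refine ⟨a, b * a ^ (1 : ℤ), ha, hnot 1, Or.inr (Or.inr (Or.inr ⟨by omega, ?_, ?_⟩))⟩
      · rw [pow_two, hsq, ← zpow_zero a, heq]
        exact ⟨e + g + 1, by rw [hu', hf, pow_succ (2 : ℤ) (k + 2)]; ring⟩
      · rw [hconj', ← zpow_natCast, heq, hcast]
        exact ⟨e, by rw [hu']; ring⟩

/-- For an abelian normal subgroup `A` of index two and `b ∉ A`, commutators lie in `[b, A]`. -/
theorem card_commutator_mul_le {S : Type*} [Group S] [Finite S] (A : Subgroup S) (hA : A.index = 2)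
    (hc : ∀ x ∈ A, ∀ y ∈ A, x * y = y * x) {b : S} (hb : b ∉ A) (t : Finset S)
    (ht : ∀ x ∈ t, x ∈ A ∧ b * x = x * b) :
    Nat.card (commutator S) * t.card ≤ Nat.card A := by
  have hn : A.Normal := Subgroup.normal_of_index_eq_two hA
  have hAc : ∀ x ∈ A, b * x * b⁻¹ ∈ A := fun x hx => hn.conj_mem x hx b
  let δ : A →* S :=
    { toFun := fun x => b * x * b⁻¹ * (x : S)⁻¹
      map_one' := by simp
      map_mul' := fun x y => by
        show b * ((x : S) * y) * b⁻¹ * ((x : S) * y)⁻¹ = _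
        have e := hc _ (A.mul_mem (hAc y y.2) (A.inv_mem y.2)) _ (A.inv_mem x.2)
        calc b * ((x : S) * y) * b⁻¹ * ((x : S) * y)⁻¹
            = b * x * b⁻¹ * ((b * y * b⁻¹ * (y : S)⁻¹) * (x : S)⁻¹) := by group
          _ = _ := by rw [e]; group }
  set R := δ.range
  have hRA : R ≤ A := by
    rintro _ ⟨x, rfl⟩; exact A.mul_mem (hAc x x.2) (A.inv_mem x.2)
  have hgen : ∀ g : S, g ∈ A ∨ ∃ x ∈ A, g = b * x := fun g => by
    by_cases hg : g ∈ A
    · exact Or.inl hg
    · exact Or.inr ⟨b⁻¹ * g, (mul_mem_iff_of_index_two hA).2 (iff_of_false (by simpa using hb) hg),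
        (mul_inv_cancel_left b g).symm⟩
  have hRn : R.Normal := by
    refine ⟨fun r hr g => ?_⟩
    have hb' : b * r * b⁻¹ ∈ R := by
      obtain ⟨x, rfl⟩ := hr
      refine ⟨⟨b * x * b⁻¹, hAc x x.2⟩, ?_⟩
      show b * (b * x * b⁻¹) * b⁻¹ * (b * x * b⁻¹)⁻¹ = b * (b * x * b⁻¹ * (x : S)⁻¹) * b⁻¹
      group
    rcases hgen g with h | ⟨x, hx, rfl⟩
    · rwa [hc g h r (hRA hr), mul_inv_cancel_right]
    · rwa [show b * x * r * (b * x)⁻¹ = b * (x * r * x⁻¹) * b⁻¹ by group, hc x hx r (hRA hr),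
        mul_inv_cancel_right]
  have hle : commutator S ≤ R := by
    let π := QuotientGroup.mk' R
    have hπb : ∀ x ∈ A, Commute (π b) (π x) := fun x hx => by
      have h1 : π (b * x * b⁻¹ * x⁻¹) = 1 := (QuotientGroup.eq_one_iff _).2 ⟨⟨x, hx⟩, rfl⟩
      rw [map_mul, map_mul, map_mul, map_inv, map_inv, mul_inv_eq_one, mul_inv_eq_iff_eq_mul] at h1
      exact h1
    have hπA : ∀ x ∈ A, ∀ g, Commute (π x) (π g) := fun x hx g => by
      rcases hgen g with h | ⟨y, hy, rfl⟩
      · exact (show Commute x g from hc x hx g h).map π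
      · rw [map_mul]
        exact (hπb x hx).symm.mul_right ((show Commute x y from hc x hx y hy).map π)
    have hall : ∀ g h, Commute (π g) (π h) := fun g h => by
      rcases hgen g with hg | ⟨y, hy, rfl⟩
      · exact hπA g hg h
      · rw [map_mul]
        refine Commute.mul_left ?_ (hπA y hy h)
        rcases hgen h with hh | ⟨z, hz, rfl⟩
        · exact hπb h hh
        · rw [map_mul]; exact (Commute.refl _).mul_right (hπb z hz)
    rw [_root_.commutator_def, Subgroup.commutator_le]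
    intro g _ h _
    rw [← QuotientGroup.eq_one_iff, ← QuotientGroup.mk'_apply, map_commutatorElement]
    exact commutatorElement_eq_one_iff_commute.2 (hall g h)
  have hker : t.card ≤ Nat.card δ.ker := by
    rw [← Nat.card_eq_finsetCard]
    refine Nat.card_le_card_of_injective
      (fun x => (⟨⟨x.1, (ht x.1 x.2).1⟩, by
        show b * x.1 * b⁻¹ * x.1⁻¹ = 1
        rw [(ht x.1 x.2).2]; group⟩ : δ.ker))
      fun x y h => Subtype.ext (congrArg (fun z : δ.ker => ((z : A) : S)) h)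
  calc Nat.card (commutator S) * t.card ≤ Nat.card R * Nat.card δ.ker :=
        Nat.mul_le_mul (Subgroup.card_le_of_le hle) hker
    _ = Nat.card A := by
        rw [← δ.ker.card_mul_index, Subgroup.index_ker, Nat.mul_comm]

/-- A 2-group whose derived subgroup has index at most four has order at most four or a cyclic
subgroup of index two. -/
theorem exists_cyclic_of_index_le_four {S : Type*} [Group S] [Finite S] (hS : IsPGroup 2 S)
    (hi : (commutator S).index ≤ 4) (h4 : 4 < Nat.card S) :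
    ∃ C : Subgroup S, IsCyclic C ∧ C.index = 2 := by
  haveI : Fact (Nat.Prime 2) := ⟨Nat.prime_two⟩
  induction hk : Nat.card S using Nat.strong_induction_on generalizing S with
  | _ k ih =>
    subst hk
    have hne : commutator S ≠ ⊥ := fun e => by
      rw [e, index_bot] at hi; omega
    have hnt : Nontrivial (commutator S) := (Subgroup.nontrivial_iff_ne_bot _).2 hne
    -- a central involution in the derived subgroup
    obtain ⟨z, hz2, hzS, hzc⟩ : ∃ z : S, orderOf z = 2 ∧ z ∈ commutator S ∧ z ∈ center S := by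
      have hdvd : 2 ∣ Nat.card (commutator S) := by
        obtain ⟨j, hj, hc⟩ := (hS.to_subgroup (commutator S)).nontrivial_iff_card.1 hnt
        rw [hc]; exact dvd_pow_self 2 hj.ne'
      obtain ⟨w, hw, hw1⟩ := (hS.of_equiv ConjAct.toConjAct).exists_fixed_point_of_prime_dvd_card_of_fixed_point
        (commutator S) hdvd (a := 1) (fun g => smul_one g)
      have hwc : (w : S) ∈ center S := Subgroup.mem_center_iff.2 fun g => by
        have h : ConjAct.toConjAct g • (w : S) = w := congrArg Subtype.val (hw (ConjAct.toConjAct g))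
        rw [ConjAct.toConjAct_smul, mul_inv_eq_iff_eq_mul] at h
        exact h
      have hw1' : (w : S) ≠ 1 := fun e => hw1 (Subtype.ext e.symm)
      obtain ⟨j, hj⟩ := IsPGroup.iff_orderOf.1 hS (w : S)
      cases j with
      | zero => rw [pow_zero, orderOf_eq_one_iff] at hj; exact absurd hj hw1'
      | succ j =>
        refine ⟨(w : S) ^ 2 ^ j, ?_, pow_mem w.2 _, pow_mem hwc _⟩
        rw [orderOf_pow' _ (by positivity), hj, Nat.gcd_eq_right (pow_dvd_pow 2 j.le_succ),
          pow_succ, Nat.mul_div_cancel_left _ (by positivity)]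
    have hz1 : z ≠ 1 := fun e => by simp [e] at hz2
    set Z := zpowers z
    have hZn : Z.Normal := ⟨fun g hg k => by
      have : g ∈ center S := (zpowers_le.2 hzc) hg
      rwa [Subgroup.mem_center_iff.1 this k, mul_inv_cancel_right]⟩
    have hcardS : Nat.card S = Nat.card (S ⧸ Z) * 2 := by
      rw [Subgroup.card_eq_card_quotient_mul_card_subgroup Z, Nat.card_zpowers, hz2]
    obtain ⟨j, hj⟩ := IsPGroup.iff_card.1 hS
    by_cases h8 : Nat.card S = 8
    · by_contra hcon
      push Not at hcon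
      have hexp : ∀ g : S, g * g = 1 := by
        intro g
        by_contra hg
        obtain ⟨i, hi'⟩ := IsPGroup.iff_orderOf.1 hS g
        have hdvd : orderOf g ∣ 8 := h8 ▸ orderOf_dvd_natCard g
        have hi3 : i ≤ 3 := (Nat.pow_dvd_pow_iff_le_right (by norm_num)).1 (by
          rw [← hi']; simpa using hdvd : 2 ^ i ∣ 2 ^ 3)
        have h01 : ∀ i, i ≤ 1 → orderOf g = 2 ^ i → False := fun i hi0 he => hg (by
          rw [← pow_two, ← orderOf_dvd_iff_pow_eq_one, he]
          simpa using pow_dvd_pow 2 hi0)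
        rcases (by omega : i ≤ 1 ∨ i = 2 ∨ i = 3) with h | rfl | rfl
        · exact h01 i h hi'
        · refine hcon (zpowers g) inferInstance ?_
          have := (zpowers g).card_mul_index
          rw [Nat.card_zpowers, hi', h8] at this
          omega
        · refine hcon (zpowers (g * g)) inferInstance ?_
          have := (zpowers (g * g)).card_mul_index
          have ho : orderOf (g * g) = 4 := by rw [← pow_two, orderOf_pow, hi']; norm_num
          rw [Nat.card_zpowers, ho, h8] at this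
          omega
      apply hne
      rw [_root_.eq_bot_iff, _root_.commutator_def, Subgroup.commutator_le]
      intro g _ h _
      rw [Subgroup.mem_bot, commutatorElement_eq_one_iff_commute]
      have hinv : ∀ g : S, g⁻¹ = g := fun g => inv_eq_of_mul_eq_one_right (hexp g)
      show g * h = h * g
      rw [← hinv (g * h), mul_inv_rev, hinv, hinv]
    have hj4 : 4 ≤ j := by
      by_contra hc
      rcases (by omega : j ≤ 2 ∨ j = 3) with hc | rfl
      · have := Nat.pow_le_pow_right (n := 2) two_pos hc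
        omega
      · exact h8 (by rw [hj]; norm_num)
    have h16 : 16 ≤ Nat.card S := by
      have := Nat.pow_le_pow_right (n := 2) two_pos hj4
      omega
    set π := QuotientGroup.mk' Z
    have hπ : Function.Surjective π := QuotientGroup.mk'_surjective Z
    have hZk : π.ker = Z := QuotientGroup.ker_mk' Z
    have hiq : (commutator (S ⧸ Z)).index = (commutator S).index := by
      have e : commutator (S ⧸ Z) = (commutator S).map π := by
        rw [_root_.commutator_def, _root_.commutator_def, Subgroup.map_commutator, Subgroup.map_top_of_surjective π hπ]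
      rw [e, Subgroup.index_map_eq _ hπ (by rw [hZk]; exact zpowers_le.2 hzS)]
    obtain ⟨Cb, hCb, hCbi⟩ := ih _ (by omega) (hS.to_quotient Z) (hiq ▸ hi) (by omega) rfl
    set A := Cb.comap π
    have hAi : A.index = 2 := by rw [Subgroup.index_comap_of_surjective Cb hπ, hCbi]
    obtain ⟨cb, hcb⟩ := (Subgroup.isCyclic_iff_exists_zpowers_eq_top Cb).1 hCb
    obtain ⟨a, rfl⟩ := hπ cb
    have haA : a ∈ A := by show π a ∈ Cb; rw [← hcb]; exact mem_zpowers _
    have hform : ∀ x ∈ A, ∃ i : ℤ, x = a ^ i ∨ x = a ^ i * z := by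
      intro x hx
      have hx' : π x ∈ Cb := hx
      rw [← hcb] at hx'
      obtain ⟨i, hi'⟩ := mem_zpowers_iff.1 hx'
      have h1 : (a ^ i)⁻¹ * x ∈ Z := by
        rw [← hZk, MonoidHom.mem_ker, map_mul, map_inv, map_zpow, hi', inv_mul_cancel]
      obtain ⟨e, he⟩ := mem_zpowers_iff.1 h1
      refine ⟨i, ?_⟩
      have hzz : z ^ (2 : ℤ) = 1 := by rw [zpow_two, ← pow_two, ← hz2, pow_orderOf_eq_one]
      rcases Int.even_or_odd' e with ⟨f, rfl | rfl⟩
      · left
        rw [zpow_mul, hzz, one_zpow] at he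
        exact (inv_mul_eq_one.1 he.symm).symm
      · right
        rw [zpow_add, zpow_mul, hzz, one_zpow, one_mul, zpow_one] at he
        rw [he, mul_inv_cancel_left]
    by_cases hza : z ∈ zpowers a
    · refine ⟨A, ?_, hAi⟩
      have : A = zpowers a := le_antisymm (fun x hx => by
        rcases hform x hx with ⟨i, rfl | rfl⟩
        · exact zpow_mem (mem_zpowers a) i
        · exact (zpowers a).mul_mem (zpow_mem (mem_zpowers a) i) hza) (zpowers_le.2 haA)
      rw [this]; infer_instance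
    exfalso
    have hcz : ∀ g, Commute g z := fun g => Subgroup.mem_center_iff.1 hzc g
    have hAc : ∀ x ∈ A, ∀ y ∈ A, x * y = y * x := by
      intro x hx y hy
      rcases hform x hx with ⟨i, rfl | rfl⟩ <;> rcases hform y hy with ⟨l, rfl | rfl⟩
      · exact (Commute.zpow_zpow_self a i l).eq
      · exact ((Commute.zpow_zpow_self a i l).mul_right (hcz _)).eq
      · exact ((Commute.zpow_zpow_self a i l).mul_left (hcz _).symm).eq
      · exact (((Commute.zpow_zpow_self a i l).mul_left (hcz _).symm).mul_right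
          ((hcz _).mul_left (Commute.refl z))).eq
    obtain ⟨b, hb⟩ : ∃ b, b ∉ A := by
      by_contra hcon
      push Not at hcon
      rw [show A = ⊤ from eq_top_iff.2 fun g _ => hcon g, index_top] at hAi
      omega
    have hAn : A.Normal := Subgroup.normal_of_index_eq_two hAi
    have hzA : z ∈ A := by
      show π z ∈ Cb
      rw [(QuotientGroup.eq_one_iff z).2 (mem_zpowers z) |> fun h => (h : π z = 1)]
      exact one_mem _
    have hcardA : Nat.card A * 2 = Nat.card S := by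
      have := A.card_mul_index
      rwa [hAi] at this
    have hAle : Nat.card A ≤ 2 * orderOf a := by
      classical
      have : Fintype S := Fintype.ofFinite S
      have hsub : Finset.univ.filter (· ∈ A) ⊆
          (Finset.univ.filter (· ∈ zpowers a)) ∪ (Finset.univ.filter (· ∈ zpowers a)).image (· * z) := by
        intro x hx
        rcases hform x (Finset.mem_filter.1 hx).2 with ⟨i, rfl | rfl⟩
        · exact Finset.mem_union_left _ (Finset.mem_filter.2 ⟨Finset.mem_univ _, zpow_mem (mem_zpowers a) i⟩)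
        · exact Finset.mem_union_right _ (Finset.mem_image.2
            ⟨a ^ i, Finset.mem_filter.2 ⟨Finset.mem_univ _, zpow_mem (mem_zpowers a) i⟩, rfl⟩)
      have := (Finset.card_le_card hsub).trans (Finset.card_union_le _ _)
      rw [← Nat.card_zpowers, Nat.card_eq_fintype_card, Fintype.card_subtype,
        Nat.card_eq_fintype_card, Fintype.card_subtype]
      exact this.trans (by
        have := Finset.card_image_le (s := Finset.univ.filter (· ∈ zpowers a)) (f := (· * z))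
        omega)
    obtain ⟨i₀, hi₀⟩ := IsPGroup.iff_orderOf.1 hS a
    obtain ⟨i₁, rfl⟩ : ∃ i₁, i₀ = i₁ + 2 := by
      refine ⟨i₀ - 2, ?_⟩
      by_contra hc
      have : 2 ^ i₀ ≤ 2 ^ 1 := Nat.pow_le_pow_right two_pos (by omega)
      omega
    set a' := a ^ 2 ^ (i₁ + 1) with ha'
    have ha'2 : orderOf a' = 2 := by
      rw [ha', orderOf_pow' _ (by positivity), hi₀, Nat.gcd_eq_right (pow_dvd_pow 2 (by omega)),
        pow_succ 2 (i₁ + 1), Nat.mul_div_cancel_left _ (by positivity)]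
    have ha'1 : a' ≠ 1 := fun e => by simp [e] at ha'2
    have hfix : b * a' = a' * b := by
      obtain ⟨i, hi'⟩ := hform _ (hAn.conj_mem a haA b)
      have h2 : b * a ^ 2 * b⁻¹ = (a ^ 2) ^ i := by
        rw [← zpow_natCast, ← conj_zpow, ← zpow_mul, mul_comm ((2 : ℕ) : ℤ), zpow_mul]
        rcases hi' with h | h
        · rw [h]
        · rw [h, (hcz _).mul_zpow, zpow_natCast z, ← hz2, pow_orderOf_eq_one, mul_one]
      have h3 : b * a' * b⁻¹ = a' ^ i := by
        rw [ha', show 2 ^ (i₁ + 1) = 2 * 2 ^ i₁ by rw [pow_succ]; ring, pow_mul, ← conj_pow, h2,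
          ← zpow_natCast ((a ^ 2) ^ i), ← zpow_mul, mul_comm, zpow_mul, zpow_natCast]
      have haa : a' ^ (2 : ℤ) = 1 := by rw [zpow_two, ← pow_two, ← ha'2, pow_orderOf_eq_one]
      rcases Int.even_or_odd' i with ⟨f, rfl | rfl⟩
      · rw [zpow_mul, haa, one_zpow, conj_eq_one_iff] at h3
        exact absurd h3 ha'1
      · rw [zpow_add, zpow_mul, haa, one_zpow, one_mul, zpow_one] at h3
        exact mul_inv_eq_iff_eq_mul.1 h3
    classical
    have hbound := card_commutator_mul_le A hAi hAc hb {1, z, a'} (by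
      intro x hx
      simp only [Finset.mem_insert, Finset.mem_singleton] at hx
      rcases hx with rfl | rfl | rfl
      · exact ⟨one_mem _, by simp⟩
      · exact ⟨hzA, hcz b⟩
      · exact ⟨A.pow_mem haA _, hfix⟩)
    have h3 : ({1, z, a'} : Finset S).card = 3 := by
      have : z ≠ a' := fun e => hza (e ▸ pow_mem (mem_zpowers a) _)
      simp [Finset.card_insert_of_notMem, hz1.symm, ha'1.symm, this]
    rw [h3] at hbound
    have hle : Nat.card S ≤ Nat.card (commutator S) * 4 := by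
      rw [← (commutator S).card_mul_index]
      exact Nat.mul_le_mul_left _ hi
    omega

/-- The shape of such groups. -/
theorem cases_of_index_le_four {S : Type*} [Group S] [Finite S] (hS : IsPGroup 2 S)
    (hi : (commutator S).index ≤ 4) (h4 : 4 < Nat.card S) :
    ∃ k : ℕ, ∃ a b : S, Nat.card S = 2 ^ (k + 3) ∧ orderOf a = 2 ^ (k + 2) ∧ b ∉ zpowers a ∧
      ((b ^ 2 = 1 ∧ b * a * b⁻¹ = a⁻¹) ∨ (b ^ 2 = a ^ (2 ^ (k + 1)) ∧ b * a * b⁻¹ = a⁻¹) ∨
        (1 ≤ k ∧ b ^ 2 = 1 ∧ b * a * b⁻¹ = a ^ (2 ^ (k + 1) - 1))) := by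
  haveI : Fact (Nat.Prime 2) := ⟨Nat.prime_two⟩
  obtain ⟨j, hj⟩ := IsPGroup.iff_card.1 hS
  obtain ⟨k, rfl⟩ : ∃ k, j = k + 3 := by
    refine ⟨j - 3, ?_⟩
    by_contra hc
    have : 2 ^ j ≤ 2 ^ 2 := Nat.pow_le_pow_right two_pos (by omega)
    omega
  obtain ⟨C, hC, hCi⟩ := exists_cyclic_of_index_le_four hS hi h4
  have hna : ∃ x y : S, x * y ≠ y * x := by
    by_contra hcon
    push Not at hcon
    have : commutator S = ⊥ := by
      rw [_root_.eq_bot_iff, _root_.commutator_def, Subgroup.commutator_le]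
      intro g _ h _
      rw [Subgroup.mem_bot, commutatorElement_eq_one_iff_commute]
      exact hcon g h
    rw [this, index_bot] at hi
    omega
  obtain ⟨a, b, ha, hb, h⟩ := exists_gens (k + 3) (by omega) hj C hC hCi hna
  simp only [show k + 3 - 1 = k + 2 from rfl, show k + 3 - 2 = k + 1 from rfl] at ha h
  refine ⟨k, a, b, hj, ha, hb, ?_⟩
  rcases h with h | h | ⟨h1, h2, h3⟩ | ⟨h1, h2, h3⟩
  · exact Or.inl h
  · exact Or.inr (Or.inl h)
  · exfalso
    -- the modular group has a small derived subgroup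
    have hidx : (zpowers a).index = 2 := by
      have := (zpowers a).card_mul_index
      rw [Nat.card_zpowers, ha, hj, pow_succ 2 (k + 2)] at this
      exact Nat.eq_of_mul_eq_mul_left (by positivity) this
    classical
    have : Fintype S := Fintype.ofFinite S
    have hconj : ∀ i : ℕ, b * a ^ (2 * i) * b⁻¹ = a ^ (2 * i) := fun i => by
      rw [← conj_pow, h3, ← pow_mul, add_mul, one_mul, pow_add,
        show 2 ^ (k + 1) * (2 * i) = 2 ^ (k + 2) * i by rw [pow_succ 2 (k + 1)]; ring, pow_mul a (2 ^ (k + 2)) i,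
        ← ha, pow_orderOf_eq_one, one_pow, mul_one]
    have hbound := card_commutator_mul_le (zpowers a) hidx (fun x hx y hy => by
      obtain ⟨i, rfl⟩ := mem_zpowers_iff.1 hx
      obtain ⟨l, rfl⟩ := mem_zpowers_iff.1 hy
      exact (Commute.zpow_zpow_self a i l).eq) hb
      (Finset.univ.filter (· ∈ zpowers (a ^ 2))) (fun x hx => by
      have hx' := (Finset.mem_filter.1 hx).2
      obtain ⟨i, rfl⟩ := (mem_powers_iff_mem_zpowers.2 hx' : _)
      refine ⟨(zpowers a).pow_mem ((zpowers a).pow_mem (mem_zpowers a) _) _, ?_⟩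
      show b * (a ^ 2) ^ i = (a ^ 2) ^ i * b
      rw [← pow_mul]
      exact mul_inv_eq_iff_eq_mul.1 (hconj i))
    rw [← Fintype.card_subtype, ← Nat.card_eq_fintype_card, Nat.card_zpowers, Nat.card_zpowers, ha,
      orderOf_pow' _ (by norm_num : (2 : ℕ) ≠ 0), ha, Nat.gcd_eq_right (dvd_pow_self 2 (by omega)),
      pow_succ 2 (k + 1), Nat.mul_div_cancel _ two_pos] at hbound
    have hle : Nat.card S ≤ Nat.card (commutator S) * 4 := by
      rw [← (commutator S).card_mul_index]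
      exact Nat.mul_le_mul_left _ hi
    have hc2 : Nat.card (commutator S) ≤ 2 :=
      Nat.le_of_mul_le_mul_right (hbound.trans_eq (Nat.mul_comm _ _)) (by positivity)
    have : 2 ^ 4 ≤ Nat.card S := hj ▸ Nat.pow_le_pow_right two_pos (by omega)
    omega
  · exact Or.inr (Or.inr ⟨by omega, h2, h3⟩)

end Cfsg.Agent.Screen.CyclicIndexTwo
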