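import Mathlib.Data.ZMod.Basic
import Mathlib.GroupTheory.Perm.Sign
import Mathlib.Algebra.Group.Subgroup.Basic
import Mathlib.Algebra.BigOperators.Group.Finset.Basic

/-!
The projective line over nine elements, as `(ZMod 3)² ∪ {∞}`, and the candidates for an element
exchanging `0` and `∞` in a group of order 360 acting on it.
-/

set_option autoImplicit false

namespace Cfsg.Agent.Screen.Simple360

/-- The affine plane of order three. -/
abbrev V := ZMod 3 × ZMod 3

/-- The ten points. -/
abbrev X := Option V

/-- Multiplication by a square root of `-1`. -/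
def rotV : Equiv.Perm V :=
  ⟨fun v => (-v.2, v.1), fun v => (v.2, -v.1), by decide +kernel, by decide +kernel⟩

/-- `rotV` on the ten points. -/
def rot : Equiv.Perm X := rotV.optionCongr

/-- Translation. -/
def transl (w : V) : Equiv.Perm X := (Equiv.addLeft w).optionCongr

/-- `rotV` or its inverse. -/
def rB : Bool → V → V
  | false => fun v => (-v.2, v.1)
  | true => fun v => (v.2, -v.1)

/-- The map exchanging `0` and `∞`, semilinear for `r`, with values `c` at `(1,0)` and `d` at `(1,1)`. -/
def kFun (r : V → V) (c d : V) : X → X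
  | none => some (0, 0)
  | some v =>
    if v = (0, 0) then none
    else if v = (1, 0) then some c
    else if v = (0, 1) then some (r c)
    else if v = (2, 0) then some (r (r c))
    else if v = (0, 2) then some (r (r (r c)))
    else if v = (1, 1) then some d
    else if v = (2, 1) then some (r d)
    else if v = (2, 2) then some (r (r d))
    else some (r (r (r d)))

/-- `σ`, after a translation, after a power of the rotation. -/
def word (σ : X → X) (w : V) (j : Fin 4) : X → X := fun x => σ (transl w (rot^[(j : ℕ)] x))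

/-- The tests satisfied by a candidate. -/
def Good (σ : X → X) : Prop :=
  Function.Injective σ ∧ ∀ (w : V) (j : Fin 4),
    ((Finset.univ.filter fun x => word σ w j x = x).card ≤ 2 ∨ ∀ x, word σ w j x = x) ∧
    ¬ ((∀ x, (word σ w j)^[8] x = x) ∧ ¬ ∀ x, (word σ w j)^[4] x = x)

instance decGood (σ : X → X) : Decidable (Good σ) := by unfold Good; infer_instance

theorem good_cases : ∀ (b : Bool) (c d : V), c = (1, 0) ∨ c = (1, 1) → Good (kFun (rB b) c d) →
    (b = true ∧ c = (1, 0) ∧ d = (2, 1)) ∨ (b = true ∧ c = (1, 1) ∧ d = (2, 0)) := by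
  decide +kernel

theorem normalise : ∀ (b : Bool) (c : V), c ≠ 0 →
    ∃ i : Fin 4, (rB b)^[(i : ℕ)] c = (1, 0) ∨ (rB b)^[(i : ℕ)] c = (1, 1) := by
  decide +kernel

theorem rot_fix : ∀ (i : Fin 4) (v : V), v ≠ 0 → rot^[(i : ℕ)] (some v) = some v → i = 0 := by
  decide +kernel

theorem ne_points : ¬ some ((1, 0) : V) = some 0 ∧ ¬ some ((1, 0) : V) = (none : X) ∧
    ¬ some ((1, 1) : V) = some (0, 0) := by
  decide +kernel

theorem point_cases : ∀ x : X, x = none ∨ x = some (0, 0) ∨ x = some (1, 0) ∨ x = rot (some (1, 0)) ∨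
    x = rot (rot (some (1, 0))) ∨ x = rot (rot (rot (some (1, 0)))) ∨ x = some (1, 1) ∨ x = rot (some (1, 1)) ∨
    x = rot (rot (some (1, 1))) ∨ x = rot (rot (rot (some (1, 1)))) := by
  decide +kernel

/-- The surviving candidate. -/
def flipPerm : Equiv.Perm X :=
  ⟨kFun (rB true) (1, 0) (2, 1), kFun (rB true) (1, 0) (2, 1), by decide +kernel, by decide +kernel⟩

/-- The odd candidate. -/
def oddPerm : Equiv.Perm X :=
  ⟨kFun (rB true) (1, 1) (2, 0), (kFun (rB true) (1, 1) (2, 0))^[3], by decide +kernel, by decide +kernel⟩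

theorem oddPerm_sign : Equiv.Perm.sign oddPerm = -1 := by decide +kernel

/-- The model group. -/
def model : Subgroup (Equiv.Perm X) :=
  Subgroup.closure {transl (1, 0), transl (0, 1), rot, flipPerm}

end Cfsg.Agent.Screen.Simple360
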