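import Cfsg.Agent.SmallOrder.Basic
import Cfsg.Agent.Screen.Simple360Model
import Mathlib.GroupTheory.Perm.Cycle.Type
import Mathlib.GroupTheory.Transfer

/-!
A simple group of order 360 acts on its ten Sylow 3-subgroups as the model group on the projective
line over nine elements.
-/

set_option autoImplicit false
set_option linter.style.haveILetI false

open scoped Classical

namespace Cfsg.Agent.Screen.Simple360

open Subgroup

variable {G : Type*} [Group G] [Finite G]

/-- An involution with exactly four fixed points on ten points is odd. -/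
theorem sign_of_four_fixed {α : Type*} [Fintype α] [DecidableEq α] {π : Equiv.Perm α}
    (hα : Fintype.card α = 10) (h2 : π * π = 1) (h4 : (Finset.univ.filter fun x => π x = x).card = 4) :
    Equiv.Perm.sign π = -1 := by
  have hs : π.support.card = 6 := by
    have : π.support = (Finset.univ.filter fun x => π x = x)ᶜ := by
      ext x; simp
    rw [this, Finset.card_compl, h4, hα]
  have hne : π ≠ 1 := fun h => by rw [h] at hs; simp at hs
  have ho : orderOf π = 2 := orderOf_eq_prime (by rw [pow_two, h2]) hne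
  obtain ⟨n, hn⟩ := Equiv.Perm.cycleType_prime_order (σ := π) (by rw [ho]; exact Nat.prime_two)
  have h6 := Equiv.Perm.sum_cycleType π
  rw [hn, ho, Multiset.sum_replicate, hs, smul_eq_mul] at h6
  rw [Equiv.Perm.sign_of_cycleType, hn, ho, show n + 1 = 3 by omega]
  decide

variable [IsSimpleGroup G]

theorem not_comm (h : Nat.card G = 360) : ¬ IsMulCommutative G :=
  SmallOrder.not_comm_of_not_prime (by rw [h]; norm_num)

theorem six_le_index (h : Nat.card G = 360) {H : Subgroup G} (hH : H ≠ ⊤) : 6 ≤ H.index := by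
  by_contra hc
  have h1 := Nat.le_of_dvd (Nat.factorial_pos _) (SmallOrder.two_mul_card_dvd_factorial (not_comm h) H hH)
  have : H.index.factorial ≤ 120 := (Nat.factorial_le (show H.index ≤ 5 by omega)).trans (by decide)
  omega

theorem sylow_three (h : Nat.card G = 360) :
    ∀ P : Sylow 3 G, Nat.card (P : Subgroup G) = 9 ∧ Nat.card (Sylow 3 G) = 10 ∧
      Nat.card (normalizer ((P : Subgroup G) : Set G)) = 36 := by
  intro P
  haveI : Fact (Nat.Prime 3) := ⟨Nat.prime_three⟩
  have hG := not_comm h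
  obtain ⟨hP, -, hd, hmod⟩ := SmallOrder.sylow_arith P (a := 2) (m := 40) (by rw [h]; norm_num) (by norm_num)
  have hne := SmallOrder.card_sylow_ne_one (p := 3) hG (by rw [h]; norm_num)
  have hN := SmallOrder.card_normalizer_mul_card_sylow P
  rw [h] at hN
  have hm : Nat.card (Sylow 3 G) ∈ Nat.divisors 40 := Nat.mem_divisors.2 ⟨hd, by norm_num⟩
  rcases (by decide : ∀ n ∈ Nat.divisors 40, n % 3 = 1 → n ≠ 1 → n = 4 ∨ n = 10 ∨ n = 40) _ hm hmod hne with
    e | e | e
  · have h1 := six_le_index h (SmallOrder.normalizer_ne_top hG (by rw [h]; norm_num) P)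
    rw [show (normalizer ((P : Subgroup G) : Set G)).index = 4 from P.card_eq_index_normalizer.symm.trans e] at h1
    omega
  · exact ⟨by rw [hP]; norm_num, e, by rw [e] at hN; omega⟩
  · exfalso
    rw [e] at hN
    have hPN : (P : Subgroup G) = normalizer ((P : Subgroup G) : Set G) :=
      eq_of_le_of_card_ge le_normalizer (by
        have : Nat.card (P : Subgroup G) = 9 := by rw [hP]; norm_num
        omega)
    refine SmallOrder.not_normalizer_le_centralizer (p := 3) hG (by rw [h]; norm_num) P ?_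
    rw [← hPN]
    intro x hx
    letI := IsPGroup.commGroupOfCardEqPrimeSq (G := (P : Subgroup G)) hP
    exact mem_centralizer_iff.2 fun y hy =>
      congrArg Subtype.val (mul_comm (⟨y, hy⟩ : (P : Subgroup G)) ⟨x, hx⟩)

theorem comm_three (h : Nat.card G = 360) (P : Sylow 3 G) {x y : G} (hx : x ∈ (P : Subgroup G))
    (hy : y ∈ (P : Subgroup G)) : x * y = y * x := by
  haveI : Fact (Nat.Prime 3) := ⟨Nat.prime_three⟩
  letI := IsPGroup.commGroupOfCardEqPrimeSq (G := (P : Subgroup G)) (p := 3)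
    (by rw [(sylow_three h P).1]; norm_num)
  exact congrArg Subtype.val (mul_comm (⟨x, hx⟩ : (P : Subgroup G)) ⟨y, hy⟩)

/-- The Sylow 3-subgroups meet trivially. -/
theorem inf_eq_bot (h : Nat.card G = 360) {P Q : Sylow 3 G} (hPQ : Q ≠ P) :
    (P : Subgroup G) ⊓ (Q : Subgroup G) = ⊥ := by
  haveI : Fact (Nat.Prime 3) := ⟨Nat.prime_three⟩
  haveI : Fact (Nat.Prime 2) := ⟨Nat.prime_two⟩
  by_contra hD
  set D := (P : Subgroup G) ⊓ (Q : Subgroup G) with hDdef
  set C := centralizer (D : Set G) with hC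
  have hPC : (P : Subgroup G) ≤ C := fun x hx =>
    mem_centralizer_iff.2 fun y hy => comm_three h P (inf_le_left (b := (Q : Subgroup G)) hy) hx
  have hQC : (Q : Subgroup G) ≤ C := fun x hx =>
    mem_centralizer_iff.2 fun y hy => comm_three h Q (inf_le_right (a := (P : Subgroup G)) hy) hx
  have hCtop : C ≠ ⊤ := by
    intro e
    have hDn : D.Normal := ⟨fun d hd g => by
      have := mem_centralizer_iff.1 (show g ∈ C by rw [e]; exact mem_top g) d hd
      rwa [← this, mul_inv_cancel_right]⟩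
    rcases hDn.eq_bot_or_eq_top with e1 | e1
    · exact hD e1
    · have h9 := card_le_of_le (H := D) (K := (P : Subgroup G)) inf_le_left
      rw [e1, Subgroup.card_top, h, (sylow_three h P).1] at h9
      omega
  have hidx := six_le_index h hCtop
  obtain ⟨m, hm⟩ : 9 ∣ Nat.card C := (sylow_three h P).1 ▸ card_dvd_of_le hPC
  have hmC := C.card_mul_index
  rw [hm, h] at hmC
  have hm6 : m ≤ 6 := by nlinarith
  let P' : Sylow 3 C := P.subtype hPC
  let Q' : Sylow 3 C := Q.subtype hQC
  have hP'c : Nat.card (P' : Subgroup C) = 9 := by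
    rw [← (sylow_three h P).1]
    exact Nat.card_congr (subgroupOfEquivOfLe hPC).toEquiv
  have hm3 : ¬ 3 ∣ m := fun h3 => by
    obtain ⟨j, rfl⟩ := h3
    apply P'.not_dvd_index
    have := (P' : Subgroup C).card_mul_index
    rw [hP'c, hm] at this
    exact ⟨j, by omega⟩
  obtain ⟨-, -, hd, hmod⟩ := SmallOrder.sylow_arith P' (a := 2) (m := m) (by rw [hm]; norm_num) hm3
  have hn1 : Nat.card (Sylow 3 C) ≠ 1 := by
    intro h1
    haveI := (Nat.card_eq_one_iff_unique.1 h1).1
    have e : P' = Q' := Subsingleton.elim _ _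
    apply hPQ
    refine Sylow.ext ?_
    have e1 := congrArg (fun S : Sylow 3 C => (S : Subgroup C).map C.subtype) e
    simp only [P', Q', Sylow.coe_subtype, subgroupOf_map_subtype, inf_eq_left.2 hPC, inf_eq_left.2 hQC] at e1
    exact e1.symm
  have hm4 : m = 4 ∧ Nat.card (Sylow 3 C) = 4 := by
    have h40 : m ∣ 40 := ⟨C.index, by nlinarith⟩
    have hle := Nat.le_of_dvd (Nat.pos_of_ne_zero fun e => by simp [e] at hmC) hd
    have : m = 1 ∨ m = 2 ∨ m = 4 ∨ m = 5 := by
      have := (by decide : ∀ m ≤ 6, m ∣ 40 → m = 1 ∨ m = 2 ∨ m = 4 ∨ m = 5) m hm6 h40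
      exact this
    rcases this with rfl | rfl | rfl | rfl <;> (have : Nat.card (Sylow 3 C) ≠ 0 := Nat.card_pos.ne') <;>
      interval_cases hn : Nat.card (Sylow 3 C) <;> omega
  obtain ⟨rfl, hn4⟩ := hm4
  have hN' : normalizer ((P' : Subgroup C) : Set C) ≤ centralizer ((P' : Subgroup C) : Set C) := by
    have h1 := SmallOrder.card_normalizer_mul_card_sylow P'
    rw [hn4, hm] at h1
    rw [← eq_of_le_of_card_ge (le_normalizer (H := (P' : Subgroup C))) (by omega)]
    intro x hx
    exact mem_centralizer_iff.2 fun y hy => Subtype.ext (comm_three h P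
      (show (y : G) ∈ (P : Subgroup G) from hy) (show (x : G) ∈ (P : Subgroup G) from hx))
  set W := (MonoidHom.transferSylow P' hN').ker with hW
  have hW4 : Nat.card W = 4 := by
    have := (MonoidHom.ker_transferSylow_isComplement' P' hN').card_mul
    rw [hP'c, hm, ← hW] at this
    omega
  set W' := W.map C.subtype with hW'
  have hW'4 : Nat.card W' = 4 := by
    rw [hW', card_map_of_injective C.subtype_injective, hW4]
  obtain ⟨S, hS⟩ := (IsPGroup.of_card (p := 2) (n := 2) (by rw [hW'4]; norm_num) : IsPGroup 2 W').exists_le_sylow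
  have hS8 : Nat.card (S : Subgroup G) = 8 := by
    rw [(SmallOrder.sylow_arith S (a := 3) (m := 45) (by rw [h]; norm_num) (by norm_num)).1]; norm_num
  have hCN : C ≤ normalizer (W' : Set G) := by
    have := Subgroup.le_normalizer_map (H := W) C.subtype
    rw [normalizer_eq_top, ← MonoidHom.range_eq_map, range_subtype] at this
    exact this
  have hSN : (S : Subgroup G) ≤ normalizer (W' : Set G) := by
    refine (normal_subgroupOf_iff_le_normalizer hS).1 (normal_of_index_eq_two ?_)
    have := (W'.subgroupOf (S : Subgroup G)).card_mul_index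
    rw [Nat.card_congr (subgroupOfEquivOfLe hS).toEquiv, hW'4, hS8] at this
    omega
  have h72 : 72 ∣ Nat.card (normalizer (W' : Set G)) := by
    refine Nat.Coprime.mul_dvd_of_dvd_of_dvd (by norm_num : Nat.Coprime 9 8) ?_ (hS8 ▸ card_dvd_of_le hSN)
    exact dvd_trans ⟨4, by rw [hm]⟩ (card_dvd_of_le hCN)
  have hNtop : normalizer (W' : Set G) ≠ ⊤ := by
    intro e
    rcases (normalizer_eq_top_iff.1 e).eq_bot_or_eq_top with e1 | e1
    · rw [e1, card_bot] at hW'4; omega
    · rw [e1, Subgroup.card_top, h] at hW'4; omega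
  have h6 := six_le_index h hNtop
  obtain ⟨j, hj⟩ := h72
  have := (normalizer (W' : Set G)).card_mul_index
  rw [hj, h] at this
  have : 0 < j := Nat.pos_of_ne_zero fun e => by simp [e] at this
  nlinarith

theorem equiv_model (h : Nat.card G = 360) : Nonempty (G ≃* model) := by
  haveI : Fact (Nat.Prime 3) := ⟨Nat.prime_three⟩
  haveI : Fact (Nat.Prime 2) := ⟨Nat.prime_two⟩
  have hG := not_comm h
  obtain ⟨P⟩ : Nonempty (Sylow 3 G) := inferInstance
  haveI := Fintype.ofFinite (Sylow 3 G)
  obtain ⟨hP9, h10, hN36⟩ := sylow_three h P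
  obtain ⟨Q, hQP⟩ : ∃ Q : Sylow 3 G, Q ≠ P := by
    haveI : Nontrivial (Sylow 3 G) := Finite.one_lt_card_iff_nontrivial.mp (by omega)
    exact exists_ne P
  have hfaith : ∀ g : G, (∀ R : Sylow 3 G, g • R = R) → g = 1 := fun g hg => by
    obtain ⟨g₀, hg₀⟩ := MulAction.exists_smul_eq G P Q
    exact SmallOrder.toPermHom_injective_of_moved (g := g₀) (a := P) (hg₀ ▸ hQP)
      (by rw [map_one]; exact Equiv.ext hg)
  have hxP : ∀ x ∈ (P : Subgroup G), x • P = P := fun x hx =>
    Sylow.smul_eq_iff_mem_normalizer.2 (le_normalizer hx)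
  -- the regular action of `P`
  have hfree : ∀ x ∈ (P : Subgroup G), ∀ R : Sylow 3 G, R ≠ P → x • R = R → x = 1 := by
    intro x hx R hR hfix
    have hp : IsPGroup 3 (zpowers x) := P.2.to_le (zpowers_le.2 hx)
    have h1 := hp.inf_normalizer_sylow R
    have hxR : x ∈ (R : Subgroup G) :=
      (h1.le ⟨mem_zpowers x, Sylow.smul_eq_iff_mem_normalizer.1 hfix⟩).2
    simpa [inf_eq_bot h hR] using (show x ∈ (P : Subgroup G) ⊓ (R : Subgroup G) from ⟨hx, hxR⟩)
  have hmovP : ∀ x ∈ (P : Subgroup G), x • Q ≠ P := fun x hx e =>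
    hQP (smul_left_cancel x (e.trans (hxP x hx).symm))
  let μ : Option (P : Subgroup G) → Sylow 3 G := fun o => o.elim P fun x => (x : G) • Q
  have hμi : Function.Injective μ := by
    rintro (_ | x) (_ | y) e
    · rfl
    · exact absurd e.symm (hmovP y y.2)
    · exact absurd e (hmovP x x.2)
    · refine congrArg some (Subtype.ext ?_)
      have : ((y : G)⁻¹ * x) • Q = Q := by rw [mul_smul]; exact inv_smul_eq_iff.2 e
      exact (inv_mul_eq_one.1 (hfree _ (mul_mem (inv_mem y.2) x.2) Q hQP this)).symm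
  have hμ : Function.Bijective μ := (Nat.bijective_iff_injective_and_card μ).2
    ⟨hμi, by rw [Finite.card_option, hP9, h10]⟩
  have htrans : ∀ R : Sylow 3 G, R ≠ P → ∃ x ∈ (P : Subgroup G), x • Q = R := by
    intro R hR
    obtain ⟨(_ | x), hx⟩ := hμ.2 R
    · exact absurd hx.symm hR
    · exact ⟨x, x.2, hx⟩
  set A := MulAction.stabilizer G P ⊓ MulAction.stabilizer G Q with hAdef
  have hA : ∀ g, g ∈ A ↔ g • P = P ∧ g • Q = Q := fun g => Iff.rfl
  have hdec : ∀ g : G, g • P = P → ∃ x ∈ (P : Subgroup G), x⁻¹ * g ∈ A := by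
    intro g hg
    have hne : g • Q ≠ P := fun e => hQP (smul_left_cancel g (e.trans hg.symm))
    obtain ⟨x, hx, hxQ⟩ := htrans _ hne
    refine ⟨x, hx, (hA _).2 ⟨?_, ?_⟩⟩
    · rw [mul_smul, hg]; exact inv_smul_eq_iff.2 (hxP x hx).symm
    · rw [mul_smul]; exact inv_smul_eq_iff.2 hxQ.symm
  have hA4 : Nat.card A = 4 := by
    have hinj : Function.Bijective (fun z : ↥(P : Subgroup G) × A =>
        (⟨(z.1 : G) * z.2, MulAction.mem_stabilizer_iff.2 (by
          rw [mul_smul, ((hA _).1 z.2.2).1, hxP _ z.1.2])⟩ : MulAction.stabilizer G P)) := by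
      constructor
      · rintro ⟨x, u⟩ ⟨y, v⟩ e
        have e' : (x : G) * u = y * v := congrArg Subtype.val e
        have hxy : (x : G) • Q = (y : G) • Q := by
          conv_lhs => rw [← ((hA _).1 u.2).2, ← mul_smul, e', mul_smul, ((hA _).1 v.2).2]
        have hxy' : x = y := Option.some_injective _ (hμi (a₁ := some x) (a₂ := some y) hxy)
        subst hxy'
        exact Prod.ext rfl (Subtype.ext (mul_left_cancel e'))
      · rintro ⟨g, hg⟩
        obtain ⟨x, hx, hx'⟩ := hdec g hg
        exact ⟨(⟨x, hx⟩, ⟨_, hx'⟩), Subtype.ext (mul_inv_cancel_left x g)⟩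
    have := Nat.card_congr (Equiv.ofBijective _ hinj)
    rw [Nat.card_prod, hP9, Sylow.stabilizer_eq_normalizer] at this
    have := this.trans hN36
    omega
  have hconj : ∀ u ∈ A, ∀ x ∈ (P : Subgroup G), u * x * u⁻¹ ∈ (P : Subgroup G) := fun u hu x hx =>
    (mem_normalizer_iff.1 (Sylow.smul_eq_iff_mem_normalizer.1 ((hA u).1 hu).1) x).1 hx
  have hpush : ∀ u ∈ A, ∀ x : G, u • x • Q = (u * x * u⁻¹) • Q := fun u hu x => by
    conv_rhs => rw [mul_smul, mul_smul, inv_smul_eq_iff.2 ((hA u).1 hu).2.symm]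
  have hcent : ∀ u ∈ A, (∀ x ∈ (P : Subgroup G), u * x * u⁻¹ = x) → u = 1 := by
    intro u hu hc
    refine hfaith u fun R => ?_
    by_cases hR : R = P
    · rw [hR]; exact ((hA u).1 hu).1
    · obtain ⟨x, hx, rfl⟩ := htrans R hR
      rw [hpush u hu, hc x hx]
  -- exponent three
  have hexp : ∀ x ∈ (P : Subgroup G), x ^ 3 = 1 := by
    intro x hx
    have hd : orderOf x ∣ 3 ^ 2 := by
      have := Subgroup.orderOf_dvd_natCard _ hx
      rwa [hP9] at this
    obtain ⟨i, hi, hxi⟩ := (Nat.dvd_prime_pow Nat.prime_three).1 hd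
    by_contra hne
    have hi2 : i = 2 := by
      interval_cases i
      · exact absurd (by rw [orderOf_eq_one_iff.1 hxi, one_pow]) hne
      · exact absurd (by rw [← pow_orderOf_eq_one x, hxi, pow_one]) hne
      · rfl
    haveI : IsCyclic (P : Subgroup G) := isCyclic_of_orderOf_eq_card (⟨x, hx⟩ : (P : Subgroup G))
      (by rw [Subgroup.orderOf_mk, hxi, hi2, hP9]; norm_num)
    let θ : A →* MulAut (P : Subgroup G) := (P : Subgroup G).normalizerMonoidHom.comp
      (Subgroup.inclusion fun u hu => Sylow.smul_eq_iff_mem_normalizer.1 ((hA u).1 hu).1)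
    have hθ : Function.Injective θ := (injective_iff_map_eq_one θ).2 fun u hu =>
      Subtype.ext (hcent u u.2 fun y hy => by
        have := congrArg (fun m : MulAut (P : Subgroup G) => ((m ⟨y, hy⟩ : (P : Subgroup G)) : G)) hu
        exact this)
    have := Subgroup.card_dvd_of_injective θ hθ
    rw [hA4, IsCyclic.card_mulAut, hP9, show Nat.totient 9 = 6 by decide] at this
    norm_num at this
  have hPtwo : ∀ x ∈ (P : Subgroup G), x * x = 1 → x = 1 := fun x hx h2 => by
    have := hexp x hx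
    rwa [pow_succ, pow_two, h2, one_mul] at this
  have hact : ∀ g : G, Equiv.Perm.sign (MulAction.toPermHom G (Sylow 3 G) g) = 1 := fun g =>
    SmallOrder.sign_eq_one hG _ g
  -- involutions of `A` invert `P`
  have hinv : ∀ u ∈ A, u * u = 1 → u ≠ 1 → ∀ x ∈ (P : Subgroup G), u * x * u⁻¹ = x⁻¹ := by
    intro u hu h2 hu1 x hx
    set y := x * (u * x * u⁻¹) with hy
    have hyP : y ∈ (P : Subgroup G) := mul_mem hx (hconj u hu x hx)
    have huinv : u⁻¹ = u := inv_eq_of_mul_eq_one_right h2
    have hyfix : u * y * u⁻¹ = y := by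
      rw [hy, show u * (x * (u * x * u⁻¹)) * u⁻¹ = u * x * u⁻¹ * ((u * u) * x * (u⁻¹ * u⁻¹)) by group, huinv, h2,
        one_mul, mul_one]
      exact comm_three h P (by simpa [huinv] using hconj u hu x hx) hx
    by_contra hne
    have hy1 : y ≠ 1 := fun e => hne (eq_inv_of_mul_eq_one_right e)
    let F : Subgroup G := (P : Subgroup G) ⊓ centralizer ({u} : Set G)
    have hFmem : ∀ z ∈ (P : Subgroup G), z ∈ F ↔ u * z * u⁻¹ = z := fun z hz => by
      rw [Subgroup.mem_inf, mem_centralizer_singleton_iff, mul_inv_eq_iff_eq_mul]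
      exact ⟨fun hh => hh.2.symm, fun hh => ⟨hz, hh.symm⟩⟩
    have hF3 : Nat.card F = 3 := by
      have hd : Nat.card F ∣ 3 ^ 2 := by
        have := card_dvd_of_le (H := F) (K := (P : Subgroup G)) inf_le_left
        rwa [hP9] at this
      obtain ⟨i, hi, hFi⟩ := (Nat.dvd_prime_pow Nat.prime_three).1 hd
      interval_cases i
      · rw [pow_zero, Subgroup.card_eq_one] at hFi
        exact absurd ((Subgroup.eq_bot_iff_forall _).1 hFi y ((hFmem y hyP).2 hyfix)) hy1
      · rw [hFi]; rfl
      · refine absurd (hcent u hu fun z hz => (hFmem z hz).1 ?_) hu1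
        rw [eq_of_le_of_card_ge (H := F) (K := (P : Subgroup G)) inf_le_left (by rw [hP9, hFi]; norm_num)]
        exact hz
    have hset : Nat.card {R : Sylow 3 G // u • R = R} = 4 := by
      let ν : Option F → {R : Sylow 3 G // u • R = R} := fun o => match o with
        | none => ⟨P, ((hA u).1 hu).1⟩
        | some z => ⟨(z : G) • Q, by rw [hpush u hu, (hFmem z z.2.1).1 z.2]⟩
      have hν : Function.Bijective ν := by
        constructor
        · rintro (_ | z) (_ | w) e <;> have e' := congrArg Subtype.val e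
          · rfl
          · exact absurd e'.symm (hmovP w w.2.1)
          · exact absurd e' (hmovP z z.2.1)
          · have := hμi (a₁ := some ⟨z, z.2.1⟩) (a₂ := some ⟨w, w.2.1⟩) e'
            exact congrArg some (Subtype.ext (congrArg Subtype.val (Option.some_injective _ this :) :))
        · rintro ⟨R, hR⟩
          by_cases hRP : R = P
          · exact ⟨none, Subtype.ext hRP.symm⟩
          · obtain ⟨z, hz, rfl⟩ := htrans R hRP
            rw [hpush u hu] at hR
            have := hμi (a₁ := some ⟨_, hconj u hu z hz⟩) (a₂ := some ⟨z, hz⟩) hR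
            exact ⟨some ⟨z, (hFmem z hz).2 (congrArg Subtype.val (Option.some_injective _ this))⟩, rfl⟩
      rw [← Nat.card_congr (Equiv.ofBijective ν hν), Finite.card_option, hF3]
    have hodd := sign_of_four_fixed (π := MulAction.toPermHom G (Sylow 3 G) u)
      (by rw [← Nat.card_eq_fintype_card, h10]) (by rw [← map_mul, h2, map_one])
      (by rw [← Fintype.card_subtype, ← Nat.card_eq_fintype_card]; exact hset)
    rw [hact] at hodd
    exact absurd hodd (by decide)
  have huniq : ∀ u ∈ A, ∀ v ∈ A, u * u = 1 → v * v = 1 → u ≠ 1 → v ≠ 1 → u = v := by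
    intro u hu v hv h2u h2v hu1 hv1
    refine (inv_mul_eq_one.1 (hcent _ (mul_mem (inv_mem hu) hv) fun x hx => ?_))
    have e1 := hinv u hu h2u hu1 _ (inv_mem hx)
    rw [inv_inv] at e1
    calc u⁻¹ * v * x * (u⁻¹ * v)⁻¹ = u⁻¹ * (v * x * v⁻¹) * u := by group
      _ = x := by rw [hinv v hv h2v hv1 x hx]; nth_rw 1 [← e1]; group
  obtain ⟨a, haA, ha4⟩ : ∃ a ∈ A, orderOf a = 4 := by
    by_contra hc
    push Not at hc
    have hsq : ∀ v ∈ A, v * v = 1 := by
      intro v hv
      have hd : orderOf v ∣ 2 ^ 2 := by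
        have := Subgroup.orderOf_dvd_natCard _ hv
        rwa [hA4] at this
      obtain ⟨i, hi, hvi⟩ := (Nat.dvd_prime_pow Nat.prime_two).1 hd
      interval_cases i
      · rw [orderOf_eq_one_iff.1 hvi, one_mul]
      · rw [← pow_two, ← pow_orderOf_eq_one v, hvi, pow_one]
      · exact absurd hvi (hc v hv)
    have h2 : Nat.card A ≤ 2 := by
      refine le_trans (Nat.card_le_card_of_injective (fun v : A => decide ((v : G) = 1)) fun v w e => ?_) (by simp)
      simp only [decide_eq_decide] at e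
      by_cases hv : (v : G) = 1
      · exact Subtype.ext (hv.trans (e.1 hv).symm)
      · exact Subtype.ext (huniq v v.2 w w.2 (hsq v v.2) (hsq w w.2) hv fun hw => hv (e.2 hw))
    omega
  have hzA : zpowers a = A := eq_of_le_of_card_ge (zpowers_le.2 haA) (by rw [Nat.card_zpowers, ha4, hA4])
  have ha2 : ∀ x ∈ (P : Subgroup G), a * a * x * (a * a)⁻¹ = x⁻¹ := by
    refine hinv (a * a) (mul_mem haA haA) ?_ ?_
    · rw [show a * a * (a * a) = a ^ 4 by simp only [pow_succ, pow_zero, one_mul, mul_assoc], ← ha4, pow_orderOf_eq_one]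
    · intro e
      have := orderOf_dvd_of_pow_eq_one (show a ^ 2 = 1 by rw [pow_two, e])
      rw [ha4] at this
      norm_num at this
  obtain ⟨⟨p, hp⟩, hpo⟩ := exists_prime_orderOf_dvd_card' (G := (P : Subgroup G)) 3 (by rw [hP9]; norm_num)
  rw [Subgroup.orderOf_mk] at hpo
  have hp1 : p ≠ 1 := fun e => by rw [e, orderOf_one] at hpo; omega
  set q := a * p * a⁻¹ with hqdef
  have hq : q ∈ (P : Subgroup G) := hconj a haA p hp
  have haq : a * q * a⁻¹ = p⁻¹ := by rw [← ha2 p hp, hqdef]; group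
  let φ : V → G := fun v => p ^ v.1.val * q ^ v.2.val
  have hφP : ∀ v, φ v ∈ (P : Subgroup G) := fun v => mul_mem (pow_mem hp _) (pow_mem hq _)
  have hc : ∀ i j : ℕ, Commute (p ^ i) (q ^ j) := fun i j => comm_three h P (pow_mem hp i) (pow_mem hq j)
  have hval : ∀ x ∈ (P : Subgroup G), ∀ i j : ZMod 3, x ^ (i + j).val = x ^ i.val * x ^ j.val := by
    intro x hx i j
    rw [← pow_add, ZMod.val_add]
    conv_rhs => rw [← Nat.mod_add_div (i.val + j.val) 3, pow_add, pow_mul, hexp x hx, one_pow, mul_one]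
  have hφadd : ∀ v w, φ (v + w) = φ v * φ w := by
    intro v w
    simp only [φ, Prod.fst_add, Prod.snd_add]
    rw [hval p hp, hval q hq]
    exact (hc _ _).mul_mul_mul_comm _ _
  have hφ0 : φ 0 = 1 := by simp [φ]
  have hφneg : ∀ v, φ (-v) = (φ v)⁻¹ := fun v =>
    eq_inv_of_mul_eq_one_right (by rw [← hφadd, add_neg_cancel, hφ0])
  have hqnot : q ≠ 1 ∧ q ≠ p ∧ q ≠ p * p := by
    refine ⟨fun e => hp1 (by simpa [hqdef] using e), fun e => ?_, fun e => ?_⟩
    · refine hp1 (hPtwo p hp ?_)
      have := haq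
      rw [e] at this
      rw [hqdef] at e
      exact mul_eq_one_iff_eq_inv.2 (e.symm.trans this)
    · refine hp1 (hPtwo p hp ?_)
      have h3 := hexp p hp
      have h1 : q = p⁻¹ := by
        rw [e]; exact eq_inv_of_mul_eq_one_left (by rw [← h3]; simp only [pow_succ, pow_zero, one_mul, mul_assoc])
      have h2 : a * q * a⁻¹ = p := by
        rw [h1, show a * p⁻¹ * a⁻¹ = q⁻¹ by rw [hqdef]; group, h1, inv_inv]
      exact mul_eq_one_iff_eq_inv.2 (h2.symm.trans haq)
  have hφinj : Function.Injective φ := by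
    intro v w e
    have e1 : φ (v - w) = 1 := by rw [sub_eq_add_neg, hφadd, hφneg, e, mul_inv_cancel]
    rw [← sub_eq_zero]
    generalize v - w = u at e1
    obtain ⟨i, j⟩ := u
    have h3p : p ^ 3 = 1 := hexp p hp
    have h3q : q ^ 3 = 1 := hexp q hq
    have hq2 : ∀ r : G, p ^ 3 = 1 → r * (q * q) = 1 → r = q := fun r _ e2 => by
      have : r = (q * q)⁻¹ := eq_inv_of_mul_eq_one_left e2
      rw [this]; exact inv_eq_of_mul_eq_one_right (by rw [← h3q]; simp only [pow_succ, pow_zero, one_mul, mul_assoc])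
    have hpp : p * p ≠ 1 := fun e2 => hp1 (hPtwo p hp e2)
    obtain ⟨hq1, hqp, hqpp⟩ := hqnot
    fin_cases i <;> fin_cases j <;>
      simp only [φ, Fin.zero_eta, Fin.mk_one, ZMod.val, Fin.val_zero, Fin.val_one, pow_zero, pow_one, one_mul,
        mul_one, pow_two, Fin.val_two, Fin.reduceFinMk] at e1 <;> first
      | rfl
      | exact absurd e1 hq1
      | exact absurd (hPtwo q hq e1) hq1
      | exact absurd e1 hp1
      | exact absurd e1 hpp
      | exact absurd (hq2 _ h3p e1).symm hqp
      | exact absurd (hq2 _ h3p e1).symm hqpp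
      | (refine absurd ?_ hqpp
         rw [show q = p⁻¹ from eq_inv_of_mul_eq_one_right e1]
         exact inv_eq_of_mul_eq_one_right (by rw [← h3p]; simp only [pow_succ, pow_zero, one_mul, mul_assoc]))
      | (refine absurd ?_ hqp
         rw [show q = (p * p)⁻¹ from eq_inv_of_mul_eq_one_right e1]
         exact inv_eq_of_mul_eq_one_right (by rw [← h3p]; simp only [pow_succ, pow_zero, one_mul, mul_assoc]))
  let φ' : V → (P : Subgroup G) := fun v => ⟨φ v, hφP v⟩
  have hφ' : Function.Bijective φ' := (Nat.bijective_iff_injective_and_card φ').2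
    ⟨fun v w e => hφinj (congrArg Subtype.val e), by
      rw [hP9, Nat.card_eq_fintype_card, Fintype.card_prod, ZMod.card]⟩
  -- the labelling
  let lab : X → Sylow 3 G := fun o => o.elim P fun v => φ v • Q
  have hlab : Function.Bijective lab := by
    have : lab = μ ∘ Option.map φ' := by funext o; cases o <;> rfl
    rw [this]
    exact hμ.comp ((Equiv.ofBijective φ' hφ').optionCongr.bijective)
  let e : X ≃ Sylow 3 G := Equiv.ofBijective lab hlab
  let f : G →* Equiv.Perm X := e.symm.permCongrHom.toMonoidHom.comp (MulAction.toPermHom G (Sylow 3 G))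
  have hfapp : ∀ (g : G) (o o' : X), g • lab o = lab o' → f g o = o' := by
    intro g o o' ho
    show e.symm (g • e o) = o'
    rw [show g • e o = e o' from ho, Equiv.symm_apply_apply]
  have hfapp' : ∀ (g : G) (o o' : X), f g o = o' → g • lab o = lab o' := fun g o o' ho =>
    (Equiv.symm_apply_eq e).1 ho
  have hf : Function.Injective f := (injective_iff_map_eq_one f).2 fun g hg => hfaith g fun R => by
    obtain ⟨o, rfl⟩ := hlab.2 R
    exact hfapp' g o o (by rw [hg]; rfl)
  have hf0 : lab (some 0) = Q := by show φ 0 • Q = Q; rw [hφ0, one_smul]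
  have hft : ∀ w, f (φ w) = transl w := by
    intro w
    refine Equiv.ext fun o => hfapp _ _ _ ?_
    cases o with
    | none => exact hxP _ (hφP w)
    | some v =>
      show φ w • φ v • Q = φ (w + v) • Q
      rw [smul_smul, hφadd]
  have hfa : f a = rot := by
    refine Equiv.ext fun o => hfapp _ _ _ ?_
    cases o with
    | none => exact ((hA a).1 haA).1
    | some v =>
      show a • φ v • Q = φ (-v.2, v.1) • Q
      rw [hpush a haA]
      congr 1
      have e1 : a * φ v * a⁻¹ = q ^ v.1.val * (p⁻¹) ^ v.2.val := by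
        show a * (p ^ v.1.val * q ^ v.2.val) * a⁻¹ = _
        calc a * (p ^ v.1.val * q ^ v.2.val) * a⁻¹ = (a * p ^ v.1.val * a⁻¹) * (a * q ^ v.2.val * a⁻¹) := by group
          _ = _ := by rw [← conj_pow, ← conj_pow, ← hqdef, haq]
      have e2 : φ (-v.2, v.1) = φ (-(v.2, 0)) * φ (0, v.1) := by rw [← hφadd]; simp
      rw [e1, e2, hφneg]
      simp only [φ, ZMod.val_zero, pow_zero, mul_one, one_mul, inv_pow]
      exact ((hc _ _).inv_left).eq.symm
  have hfpow : ∀ (n : ℕ) (o : X), f (a ^ n) o = rot^[n] o := fun n o => by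
    rw [map_pow, hfa, Equiv.Perm.coe_pow]
  have hAgen : ∀ g ∈ A, ∃ i : Fin 4, g = a ^ (i : ℕ) := by
    intro g hg
    rw [← hzA] at hg
    obtain ⟨i, rfl⟩ := mem_zpowers_iff.1 hg
    refine ⟨⟨(i % 4).toNat, by omega⟩, ?_⟩
    show a ^ i = a ^ ((i % 4).toNat)
    rw [← zpow_natCast, Int.toNat_of_nonneg (Int.emod_nonneg _ (by norm_num))]
    conv_lhs => rw [← zpow_mod_orderOf, ha4]
    rfl
  -- two-transitivity
  have h2t : ∀ R S : Sylow 3 G, R ≠ S → ∃ g : G, g • R = P ∧ g • S = Q := by
    intro R S hRS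
    obtain ⟨g, hg⟩ := MulAction.exists_smul_eq G R P
    obtain ⟨x, hx, hxS⟩ := htrans (g • S) fun e => hRS (smul_left_cancel g (hg.trans e.symm))
    refine ⟨x⁻¹ * g, ?_, ?_⟩
    · rw [mul_smul, hg]; exact inv_smul_eq_iff.2 (hxP x hx).symm
    · rw [mul_smul]; exact inv_smul_eq_iff.2 hxS.symm
  have hthree : ∀ (g : G) (R S T : Sylow 3 G), R ≠ S → R ≠ T → S ≠ T → g • R = R → g • S = S → g • T = T →
      g = 1 := by
    intro g R S T hRS hRT hST hR hS hT
    obtain ⟨c, hcR, hcS⟩ := h2t R S hRS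
    have key : ∀ Y : Sylow 3 G, g • Y = Y → (c * g * c⁻¹) • c • Y = c • Y := fun Y hY => by
      rw [mul_smul, mul_smul, inv_smul_smul, hY]
    obtain ⟨i, hi⟩ := hAgen (c * g * c⁻¹) ((hA _).2 ⟨hcR ▸ key R hR, hcS ▸ key S hS⟩)
    obtain ⟨o, ho⟩ := hlab.2 (c • T)
    cases o with
    | none => exact absurd (smul_left_cancel c (hcR.trans ho)) hRT
    | some v =>
      have hv : v ≠ 0 := fun e => hST (smul_left_cancel c (by rw [hcS, ← ho, e, hf0]))
      have h1 := hfapp _ _ _ (show (a ^ (i : ℕ)) • lab (some v) = lab (some v) by rw [← hi, ho]; exact key T hT)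
      rw [hfpow] at h1
      rw [rot_fix i v hv h1] at hi
      simpa using hi
  have hord8 : ∀ g : G, orderOf g ≠ 8 := by
    intro g hg
    obtain ⟨S, hS⟩ := (IsPGroup.of_card (p := 2) (n := 3)
      (by rw [Nat.card_zpowers, hg]; norm_num) : IsPGroup 2 (zpowers g)).exists_le_sylow
    have hS8 := (SmallOrder.sylow_arith S (a := 3) (m := 45) (by rw [h]; norm_num) (by norm_num)).1
    have he : zpowers g = (S : Subgroup G) := eq_of_le_of_card_ge hS (by rw [Nat.card_zpowers, hg, hS8]; norm_num)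
    have hcyc : IsCyclic (S : Subgroup G) := he ▸ inferInstance
    exact SmallOrder.not_isCyclic_minFac (p := 2) hG (by rw [h]; norm_num) S hcyc
  -- an element exchanging `P` and `Q`
  obtain ⟨k₀, hk₀P, hk₀Q⟩ : ∃ k : G, k • P = Q ∧ k • Q = P := by
    obtain ⟨g, hg1, hg2⟩ := h2t Q P hQP
    exact ⟨g, hg2, hg1⟩
  have hk₀A : k₀ * a * k₀⁻¹ ∈ A := (hA _).2
    ⟨by rw [mul_smul, mul_smul, inv_smul_eq_iff.2 hk₀Q.symm, ((hA a).1 haA).2, hk₀Q],
     by rw [mul_smul, mul_smul, inv_smul_eq_iff.2 hk₀P.symm, ((hA a).1 haA).1, hk₀P]⟩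
  obtain ⟨b, hb⟩ : ∃ b : Bool, ∀ o v, f k₀ o = some v → f k₀ (rot o) = some (rB b v) := by
    obtain ⟨i, hi⟩ := hAgen _ hk₀A
    have ho4 : orderOf (a ^ (i : ℕ)) = 4 := by
      rw [← hi, ← MulAut.conj_apply, MulEquiv.orderOf_eq, ha4]
    have hi13 : (i : ℕ) = 1 ∨ (i : ℕ) = 3 := by
      have hlt := i.2
      interval_cases hv : (i : ℕ)
      · rw [pow_zero, orderOf_one] at ho4; omega
      · exact Or.inl rfl
      · rw [orderOf_pow_of_dvd (by norm_num) (by rw [ha4]; norm_num), ha4] at ho4; omega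
      · exact Or.inr rfl
    have hrel : ∀ o, f k₀ (rot o) = rot^[(i : ℕ)] (f k₀ o) := fun o => by
      rw [show f k₀ (rot o) = f (k₀ * a) o by rw [map_mul, hfa]; rfl, ← hfpow, ← Equiv.Perm.mul_apply, ← map_mul,
        ← hi, inv_mul_cancel_right]
    rcases hi13 with hi' | hi' <;> rw [hi'] at hrel
    · exact ⟨false, fun o v hov => by rw [hrel, hov]; rfl⟩
    · refine ⟨true, fun o v hov => ?_⟩
      rw [hrel, hov]
      exact (by decide +kernel : ∀ v : V, rot^[3] (some v) = some (rB true v)) v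
  -- normalisation
  obtain ⟨c₀, hc₀⟩ : ∃ c, f k₀ (some (1, 0)) = some c := by
    cases h1 : f k₀ (some (1, 0)) with
    | some c => exact ⟨c, rfl⟩
    | none =>
      have := (f k₀).injective (h1.trans (hfapp k₀ (some 0) none (by rw [hf0]; exact hk₀Q)).symm)
      exact absurd this ne_points.1
  have hc₀0 : c₀ ≠ 0 := fun e0 => by
    have := (f k₀).injective ((e0 ▸ hc₀).trans (hfapp k₀ none (some 0) (by rw [hf0]; exact hk₀P)).symm)
    exact absurd this ne_points.2.1
  have hiter : ∀ (n : ℕ) (o : X) (v : V), f k₀ o = some v → f k₀ (rot^[n] o) = some ((rB b)^[n] v) := by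
    intro n
    induction n with
    | zero => intro o v hov; exact hov
    | succ n ih =>
      intro o v hov
      rw [Function.iterate_succ_apply', Function.iterate_succ_apply']
      exact hb _ _ (ih o v hov)
  obtain ⟨i, hic⟩ := normalise b c₀ hc₀0
  set k := k₀ * a ^ (i : ℕ) with hk
  have hkrot : ∀ o v, f k o = some v → f k (rot o) = some (rB b v) := by
    intro o v hov
    rw [hk, map_mul, Equiv.Perm.mul_apply, hfpow] at hov ⊢
    rw [← Function.iterate_succ_apply, Function.iterate_succ_apply']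
    exact hb _ _ hov
  obtain ⟨c, hkc, hcv⟩ : ∃ c, f k (some (1, 0)) = some c ∧ (c = (1, 0) ∨ c = (1, 1)) := by
    refine ⟨_, ?_, hic⟩
    rw [hk, map_mul, Equiv.Perm.mul_apply, hfpow]
    exact hiter i _ _ hc₀
  have haiP : (a ^ (i : ℕ)) • P = P ∧ (a ^ (i : ℕ)) • Q = Q := (hA _).1 (pow_mem haA _)
  have hkP : k • P = Q := by rw [hk, mul_smul, haiP.1, hk₀P]
  have hkQ : k • Q = P := by rw [hk, mul_smul, haiP.2, hk₀Q]
  have hk0 : f k none = some (0, 0) := hfapp k none (some 0) (by rw [hf0]; exact hkP)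
  have hkz : f k (some (0, 0)) = none := hfapp k (some 0) none (by rw [hf0]; exact hkQ)
  obtain ⟨d, hkd⟩ : ∃ d, f k (some (1, 1)) = some d := by
    cases h1 : f k (some (1, 1)) with
    | some d => exact ⟨d, rfl⟩
    | none =>
      have := (f k).injective (h1.trans hkz.symm)
      exact absurd this ne_points.2.2
  have hσ : ∀ x, f k x = kFun (rB b) c d x := by
    have e1 := hkrot _ _ hkc
    have e2 := hkrot _ _ e1
    have e3 := hkrot _ _ e2
    have d1 := hkrot _ _ hkd
    have d2 := hkrot _ _ d1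
    have d3 := hkrot _ _ d2
    intro x
    rcases point_cases x with rfl | rfl | rfl | rfl | rfl | rfl | rfl | rfl | rfl | rfl
    exacts [hk0, hkz.trans rfl, hkc.trans rfl, e1.trans rfl, e2.trans rfl, e3.trans rfl, hkd.trans rfl,
      d1.trans rfl, d2.trans rfl, d3.trans rfl]
  have hword : ∀ (w : V) (j : Fin 4) (x : X), f (k * φ w * a ^ (j : ℕ)) x = word (kFun (rB b) c d) w j x := by
    intro w j x
    rw [map_mul, map_mul, Equiv.Perm.mul_apply, Equiv.Perm.mul_apply, hfpow, hft, hσ]
    rfl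
  have hgood : Good (kFun (rB b) c d) := by
    refine ⟨fun x y exy => (f k).injective (by rw [hσ, hσ, exy]), fun w j => ⟨?_, ?_⟩⟩
    · rw [or_iff_not_imp_left, not_le]
      intro hlt x
      obtain ⟨u, v, z, hu, hv, hz, huv, huz, hvz⟩ := Finset.two_lt_card_iff.1 hlt
      simp only [Finset.mem_filter, Finset.mem_univ, true_and, ← hword] at hu hv hz
      rw [← hword, hthree _ _ _ _ (hlab.1.ne huv) (hlab.1.ne huz) (hlab.1.ne hvz) (hfapp' _ _ _ hu)
        (hfapp' _ _ _ hv) (hfapp' _ _ _ hz), map_one]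
      rfl
    · rintro ⟨h8, h4⟩
      set g := k * φ w * a ^ (j : ℕ)
      have hit : ∀ (n : ℕ) (x : X), f (g ^ n) x = (word (kFun (rB b) c d) w j)^[n] x := fun n x => by
        rw [map_pow, Equiv.Perm.coe_pow, show ⇑(f g) = word (kFun (rB b) c d) w j from funext (hword w j)]
      refine hord8 g (orderOf_eq_prime_pow (p := 2) (n := 2) (fun e4 => h4 fun x => ?_) (hf ?_))
      · rw [← hit, show (4 : ℕ) = 2 ^ 2 by norm_num, e4, map_one]; rfl
      · rw [map_one]
        exact Equiv.ext fun x => by rw [hit]; exact h8 x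
  rcases good_cases b c d hcv hgood with ⟨rfl, rfl, rfl⟩ | ⟨rfl, rfl, rfl⟩
  swap
  · exfalso
    have e1 : f k = oddPerm := Equiv.ext hσ
    have := SmallOrder.sign_eq_one hG f k
    rw [e1, oddPerm_sign] at this
    exact absurd this (by decide)
  have hfk : f k = flipPerm := Equiv.ext hσ
  set H := closure ({φ (1, 0), φ (0, 1), a, k} : Set G) with hH
  have hPH : ∀ x ∈ (P : Subgroup G), x ∈ H := by
    intro x hx
    obtain ⟨v, hv⟩ := hφ'.2 ⟨x, hx⟩
    obtain rfl : φ v = x := congrArg Subtype.val hv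
    have e1 : φ (1, 0) = p := by simp [φ, ZMod.val_one]
    have e2 : φ (0, 1) = q := by simp [φ, ZMod.val_one]
    exact mul_mem (pow_mem (e1 ▸ subset_closure (by simp)) _) (pow_mem (e2 ▸ subset_closure (by simp)) _)
  have haH : a ∈ H := subset_closure (by simp)
  have hkH : k ∈ H := subset_closure (by simp)
  have hHtop : H = ⊤ := by
    refine eq_top_iff.2 fun g _ => ?_
    obtain ⟨y, hyH, hy⟩ : ∃ y ∈ H, y • P = g • P := by
      by_cases hg : g • P = P
      · exact ⟨1, one_mem _, by rw [one_smul, hg]⟩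
      · obtain ⟨x, hx, hxQ⟩ := htrans _ hg
        exact ⟨x * k, mul_mem (hPH x hx) hkH, by rw [mul_smul, hkP, hxQ]⟩
    obtain ⟨x, hx, hxA⟩ := hdec (y⁻¹ * g) (by rw [mul_smul, ← hy, inv_smul_smul])
    rw [← hzA] at hxA
    have hm : x⁻¹ * (y⁻¹ * g) ∈ H := zpowers_le.2 haH hxA
    have := mul_mem hyH (mul_mem (hPH x hx) hm)
    simpa using this
  have hrange : f.range = model := by
    rw [MonoidHom.range_eq_map, ← hHtop, hH, MonoidHom.map_closure, Set.image_insert_eq, Set.image_insert_eq,
      Set.image_insert_eq, Set.image_singleton, hft, hft, hfa, hfk]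
    rfl
  exact ⟨(MonoidHom.ofInjective hf).trans (MulEquiv.subgroupCongr hrange)⟩

end Cfsg.Agent.Screen.Simple360
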