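import Cfsg.Prelude
import Cfsg.Agent.Core.PPrimeP
import Cfsg.Agent.Core.PiSeparable
import Cfsg.Agent.PLocal.Constrained

/-!
# The weakly closed elements form a direct factor of the centre of a Sylow subgroup
(norm map into a normalizer controlling weak closure)
-/

set_option autoImplicit false
open Cfsg

namespace Cfsg.Agent.Screen.WeakDirect

variable {G : Type*} [Group G] [Finite G] {p : ℕ} [Fact p.Prime]

/-- The conclusion for one Sylow subgroup. -/
def Good (S : Sylow p G) : Prop :=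
  ∃ W K : Subgroup G, (∀ x : G, x ∈ W ↔ (x ∈ (S : Subgroup G) ∧ ∀ g : G, g * x * g⁻¹ ∈ (S : Subgroup G) → g * x * g⁻¹ = x)) ∧
    K ≤ ((S : Subgroup G) ⊓ Subgroup.centralizer ((S : Subgroup G) : Set G)) ∧ W ⊓ K = ⊥ ∧
      W ⊔ K = ((S : Subgroup G) ⊓ Subgroup.centralizer ((S : Subgroup G) : Set G))

/-- The core construction. -/
theorem good_of_control (S : Sylow p G) (N K : Subgroup G) (hSN : (S : Subgroup G) ≤ N)
    (hK : K ≤ (S : Subgroup G)) (hKn : ∀ n ∈ N, ∀ k ∈ K, n * k * n⁻¹ ∈ K)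
    (hZK : (S : Subgroup G) ⊓ Subgroup.centralizer ((S : Subgroup G) : Set G) ≤ K)
    (hwc : ∀ x ∈ (S : Subgroup G), (∀ n ∈ N, n * x = x * n) →
      ∀ g : G, g * x * g⁻¹ ∈ (S : Subgroup G) → g * x * g⁻¹ = x) : Good S := by
  classical
  set Z := (S : Subgroup G) ⊓ Subgroup.centralizer ((S : Subgroup G) : Set G) with hZdef
  set W := (S : Subgroup G) ⊓ Subgroup.centralizer (N : Set G) with hWdef
  have hWZ : W ≤ Z := fun x hx => Subgroup.mem_inf.2 ⟨hx.1,
    Subgroup.mem_centralizer_iff.2 fun s hs => Subgroup.mem_centralizer_iff.1 hx.2 s (hSN hs)⟩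
  have hWiff : ∀ x : G, x ∈ W ↔ (x ∈ (S : Subgroup G) ∧ ∀ g : G, g * x * g⁻¹ ∈ (S : Subgroup G) → g * x * g⁻¹ = x) := by
    refine fun x => ⟨fun hx => ⟨hx.1, hwc x hx.1 fun n hn => Subgroup.mem_centralizer_iff.1 hx.2 n hn⟩, ?_⟩
    rintro ⟨hxS, hx⟩
    have hxZ : x ∈ Z := Subgroup.mem_inf.2 ⟨hxS, Subgroup.mem_centralizer_iff.2 fun s hs => by
      have := hx s ((S : Subgroup G).mul_mem ((S : Subgroup G).mul_mem hs hxS) ((S : Subgroup G).inv_mem hs))
      exact mul_inv_eq_iff_eq_mul.1 this⟩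
    refine Subgroup.mem_inf.2 ⟨hxS, Subgroup.mem_centralizer_iff.2 fun n hn => ?_⟩
    exact mul_inv_eq_iff_eq_mul.1 (hx n (hK (hKn n hn x (hZK hxZ))))
  -- the abelian normal subgroup
  set A := K ⊓ Subgroup.centralizer (K : Set G) with hAdef
  letI : CommGroup A := { (inferInstance : Group A) with
    mul_comm := fun a b => Subtype.ext ((Subgroup.mem_centralizer_iff.1 a.2.2 b b.2.1).symm) }
  have hAn : ∀ n ∈ N, ∀ a ∈ A, n * a * n⁻¹ ∈ A := by
    intro n hn a ha
    refine Subgroup.mem_inf.2 ⟨hKn n hn a ha.1, Subgroup.mem_centralizer_iff.2 fun k hk => ?_⟩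
    have h := Subgroup.mem_centralizer_iff.1 ha.2 _ (hKn n⁻¹ (N.inv_mem hn) k hk)
    rw [inv_inv] at h
    calc k * (n * a * n⁻¹) = n * ((n⁻¹ * k * n) * a) * n⁻¹ := by group
      _ = n * (a * (n⁻¹ * k * n)) * n⁻¹ := by rw [h]
      _ = n * a * n⁻¹ * k := by group
  have hZA : Z ≤ A := fun z hz => Subgroup.mem_inf.2 ⟨hZK hz, Subgroup.mem_centralizer_iff.2 fun k hk =>
    Subgroup.mem_centralizer_iff.1 hz.2 k (hK hk)⟩
  let φ : N → A →* A := fun n =>
    { toFun := fun a => ⟨(n : G) * a * (n : G)⁻¹, hAn n n.2 a a.2⟩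
      map_one' := Subtype.ext (by show (n : G) * 1 * (n : G)⁻¹ = 1; group)
      map_mul' := fun a b => Subtype.ext (by
        show (n : G) * ((a : G) * b) * (n : G)⁻¹ = ((n : G) * a * (n : G)⁻¹) * ((n : G) * b * (n : G)⁻¹)
        group) }
  haveI := Fintype.ofFinite (↥N ⧸ (S : Subgroup G).subgroupOf N)
  let ι : Z →* A := Subgroup.inclusion hZA
  let f : Z →* A := ∏ q : ↥N ⧸ (S : Subgroup G).subgroupOf N, (φ q.out).comp ι
  have hf : ∀ z : Z, f z = ∏ q : ↥N ⧸ (S : Subgroup G).subgroupOf N, φ q.out (ι z) := fun z => by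
    simp [f, MonoidHom.finset_prod_apply]
  have hfix : ∀ (n : N) (z : Z), φ n (f z) = f z := by
    intro n z
    rw [hf, map_prod]
    refine Fintype.prod_equiv (MulAction.toPerm n) _ _ fun q => Subtype.ext ?_
    show (n : G) * ((q.out : G) * z * (q.out : G)⁻¹) * (n : G)⁻¹ =
      ((n • q).out : G) * z * ((n • q).out : G)⁻¹
    obtain ⟨s, hs⟩ : ∃ s : (S : Subgroup G).subgroupOf N, (n • q).out = n * q.out * s := by
      have h : ((n * q.out : N) : ↥N ⧸ (S : Subgroup G).subgroupOf N) = n • q := by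
        conv_rhs => rw [← Quotient.out_eq q]
        rfl
      rw [← h]
      obtain ⟨s, hs⟩ := QuotientGroup.mk_out_eq_mul ((S : Subgroup G).subgroupOf N) (n * q.out)
      exact ⟨s, hs⟩
    rw [hs, Subgroup.coe_mul, Subgroup.coe_mul]
    have hsz : ((s : N) : G) * z * ((s : N) : G)⁻¹ = z := by
      rw [Subgroup.mem_centralizer_iff.1 z.2.2 ((s : N) : G) (Subgroup.mem_subgroupOf.1 s.2), mul_inv_cancel_right]
    calc (n : G) * ((q.out : G) * z * (q.out : G)⁻¹) * (n : G)⁻¹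
        = (n : G) * (q.out : G) * (z : G) * ((n : G) * (q.out : G))⁻¹ := by group
      _ = (n : G) * (q.out : G) * (((s : N) : G) * z * ((s : N) : G)⁻¹) * ((n : G) * (q.out : G))⁻¹ := by rw [hsz]
      _ = _ := by group
  have hfW : ∀ z : Z, (f z : G) ∈ W := fun z => Subgroup.mem_inf.2 ⟨hK (f z).2.1,
    Subgroup.mem_centralizer_iff.2 fun n hn => mul_inv_eq_iff_eq_mul.1 (congrArg Subtype.val (hfix ⟨n, hn⟩ z))⟩
  set m := (S : Subgroup G).relIndex N with hm
  have hpow : ∀ z : Z, (z : G) ∈ W → (f z : G) = (z : G) ^ m := by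
    intro z hz
    rw [hf, Finset.prod_congr rfl (g := fun _ => ι z) fun q _ => Subtype.ext (by
      show (q.out : G) * z * (q.out : G)⁻¹ = z
      rw [Subgroup.mem_centralizer_iff.1 hz.2 (q.out : G) q.out.2, mul_inv_cancel_right]), Finset.prod_const,
      Finset.card_univ, ← Nat.card_eq_fintype_card]
    rfl
  have hcop : (Nat.card W).Coprime m := by
    obtain ⟨k, hk⟩ := IsPGroup.iff_card.1 (S.isPGroup'.to_le (inf_le_left : W ≤ (S : Subgroup G)))
    rw [hk]
    refine Nat.Coprime.pow_left k ((Nat.Prime.coprime_iff_not_dvd Fact.out).2 fun h => S.not_dvd_index ?_)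
    exact h.trans (Subgroup.relIndex_dvd_index_of_le hSN)
  refine ⟨W, f.ker.map Z.subtype, hWiff, Subgroup.map_subtype_le _, ?_, ?_⟩
  · rw [eq_bot_iff]
    rintro _ ⟨hxW, z, hz, rfl⟩
    have h := hpow z hxW
    rw [MonoidHom.mem_ker.1 hz] at h
    have h1 : (z : G) ^ Nat.card W = 1 := congrArg Subtype.val (pow_card_eq_one' (x := (⟨_, hxW⟩ : W)))
    have h2 : orderOf (z : G) ∣ Nat.gcd (Nat.card W) m :=
      Nat.dvd_gcd (orderOf_dvd_of_pow_eq_one h1) (orderOf_dvd_of_pow_eq_one h.symm)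
    rw [hcop.gcd_eq_one, Nat.dvd_one, orderOf_eq_one_iff] at h2
    exact h2
  · refine le_antisymm (sup_le hWZ (Subgroup.map_subtype_le _)) fun z hz => ?_
    obtain ⟨w, hw⟩ : ∃ w : W, w ^ m = ⟨_, hfW ⟨z, hz⟩⟩ :=
      ⟨(powCoprime hcop).symm _, (powCoprime hcop).apply_symm_apply _⟩
    have hwz : ((w : G))⁻¹ * z ∈ Z := Z.mul_mem (Z.inv_mem (hWZ w.2)) hz
    have hker : (⟨_, hwz⟩ : Z) ∈ f.ker := by
      rw [MonoidHom.mem_ker, show (⟨_, hwz⟩ : Z) = (⟨w, hWZ w.2⟩ : Z)⁻¹ * ⟨z, hz⟩ from rfl, map_mul, map_inv,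
        inv_mul_eq_one]
      apply Subtype.ext
      rw [hpow ⟨w, hWZ w.2⟩ w.2]
      exact congrArg Subtype.val hw
    have := Subgroup.mul_mem_sup (S := W) (T := f.ker.map Z.subtype) w.2 ⟨_, hker, rfl⟩
    simpa using this

/-- Transport along conjugation. -/
theorem good_transfer {T : Sylow p G} (h : Good T) (S : Sylow p G) : Good S := by
  obtain ⟨c, rfl⟩ := MulAction.exists_smul_eq G T S
  obtain ⟨W, K, hW, hK, hinf, hsup⟩ := h
  set C := (MulAut.conj c).toMonoidHom with hC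
  have hCi : Function.Injective C := (MulAut.conj c).injective
  have hmem : ∀ (H : Subgroup G) (y : G), y ∈ H.map C ↔ c⁻¹ * y * c ∈ H := by
    intro H y
    constructor
    · rintro ⟨x, hx, rfl⟩
      show c⁻¹ * (c * x * c⁻¹) * c ∈ H
      rwa [show c⁻¹ * (c * x * c⁻¹) * c = x by group]
    · exact fun hy => ⟨_, hy, show c * (c⁻¹ * y * c) * c⁻¹ = y by group⟩
  have hS : ((c • T : Sylow p G) : Subgroup G) = (T : Subgroup G).map C := rfl
  have hZ : ((c • T : Sylow p G) : Subgroup G) ⊓ Subgroup.centralizer (((c • T : Sylow p G) : Subgroup G) : Set G) =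
      ((T : Subgroup G) ⊓ Subgroup.centralizer ((T : Subgroup G) : Set G)).map C := by
    ext y
    rw [hmem, Subgroup.mem_inf, Subgroup.mem_inf, hS, hmem]
    refine and_congr Iff.rfl ⟨fun h => Subgroup.mem_centralizer_iff.2 fun t ht => ?_,
      fun h => Subgroup.mem_centralizer_iff.2 fun s hs => ?_⟩
    · have h' := Subgroup.mem_centralizer_iff.1 h (c * t * c⁻¹) ⟨t, ht, rfl⟩
      calc t * (c⁻¹ * y * c) = c⁻¹ * ((c * t * c⁻¹) * y) * c := by group
        _ = c⁻¹ * (y * (c * t * c⁻¹)) * c := by rw [h']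
        _ = c⁻¹ * y * c * t := by group
    · obtain ⟨t, ht, rfl⟩ := hs
      have h' := Subgroup.mem_centralizer_iff.1 h t ht
      show c * t * c⁻¹ * y = y * (c * t * c⁻¹)
      calc c * t * c⁻¹ * y = c * (t * (c⁻¹ * y * c)) * c⁻¹ := by group
        _ = c * (c⁻¹ * y * c * t) * c⁻¹ := by rw [h']
        _ = _ := by group
  refine ⟨W.map C, K.map C, fun y => ?_, ?_, ?_, ?_⟩
  · rw [hmem, hW, hS, hmem]
    refine and_congr Iff.rfl ⟨fun h g hg => ?_, fun h g hg => ?_⟩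
    · rw [hmem] at hg
      have e : c⁻¹ * g * c * (c⁻¹ * y * c) * (c⁻¹ * g * c)⁻¹ = c⁻¹ * (g * y * g⁻¹) * c := by group
      have h' := h (c⁻¹ * g * c) (by rwa [e])
      rw [e] at h'
      exact mul_left_cancel (mul_right_cancel h')
    · have e : c * g * c⁻¹ * y * (c * g * c⁻¹)⁻¹ = c * (g * (c⁻¹ * y * c) * g⁻¹) * c⁻¹ := by group
      have h' := h (c * g * c⁻¹) (by rw [e]; exact ⟨_, hg, rfl⟩)
      rw [e] at h'
      calc g * (c⁻¹ * y * c) * g⁻¹ = c⁻¹ * (c * (g * (c⁻¹ * y * c) * g⁻¹) * c⁻¹) * c := by group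
        _ = c⁻¹ * y * c := by rw [h']
  · rw [hZ]; exact Subgroup.map_mono hK
  · rw [← Subgroup.map_inf _ _ _ hCi, hinf, Subgroup.map_bot]
  · rw [hZ, ← Subgroup.map_sup, hsup]

/-- The solvable case. -/
theorem good_of_isSolvable [Group.IsSolvable G] (S : Sylow p G) : Good S := by
  obtain ⟨P⟩ : Nonempty (Sylow p (pPrimePCore p G)) := inferInstance
  set R := pPrimePCore p G with hR
  set Q := (P : Subgroup R).map R.subtype with hQdef
  obtain ⟨T, hQT⟩ := (P.isPGroup'.map R.subtype).exists_le_sylow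
  refine good_transfer (T := T) ?_ S
  have hcons : IsPConstrained p G :=
    PLocal.isPConstrained_of_isPSolvable_centralizer P
      (Core.isPSolvable_subgroup Core.isPSolvable_of_isSolvable _)
  have hQR : Q ≤ R := Subgroup.map_subtype_le _
  have hQeq : ∀ x ∈ (T : Subgroup G), x ∈ R → x ∈ Q := by
    intro x hxT hxR
    have hp' : IsPGroup p ((T : Subgroup G).subgroupOf R) := T.isPGroup'.comap_subtype
    have h := P.is_maximal' hp' (fun y hy => Subgroup.mem_subgroupOf.2 (hQT ⟨y, hy, rfl⟩))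
    exact ⟨⟨x, hxR⟩, h ▸ Subgroup.mem_subgroupOf.2 hxT, rfl⟩
  haveI hRn : R.Normal := inferInstance
  set N := Subgroup.normalizer (Q : Set G) with hN
  have hTN : (T : Subgroup G) ≤ N := by
    intro t ht
    rw [hN, Subgroup.mem_normalizer_iff]
    intro x
    constructor
    · intro hx
      exact hQeq _ ((T : Subgroup G).mul_mem ((T : Subgroup G).mul_mem ht (hQT hx)) ((T : Subgroup G).inv_mem ht))
        (hRn.conj_mem x (hQR hx) t)
    · intro hx
      rw [show x = t⁻¹ * (t * x * t⁻¹) * t by group]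
      have h := hRn.conj_mem _ (hQR hx) t⁻¹
      rw [inv_inv] at h
      exact hQeq _ ((T : Subgroup G).mul_mem ((T : Subgroup G).mul_mem ((T : Subgroup G).inv_mem ht) (hQT hx)) ht) h
  have hZQ : (T : Subgroup G) ⊓ Subgroup.centralizer ((T : Subgroup G) : Set G) ≤ Q := by
    intro x hx
    refine hQeq x hx.1 (hcons P ?_)
    exact Subgroup.mem_centralizer_iff.2 fun q hq => Subgroup.mem_centralizer_iff.1 hx.2 q (hQT hq)
  refine good_of_control T N Q hTN hQT (fun n hn k hk => (Subgroup.mem_normalizer_iff.1 hn k).1 hk) hZQ ?_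
  intro x hxT hxN g hg
  set O := pPrimeCore p G with hO
  have hxQ : x ∈ Q := hZQ (Subgroup.mem_inf.2 ⟨hxT, Subgroup.mem_centralizer_iff.2 fun s hs => hxN s (hTN hs)⟩)
  have htop : N ⊔ O = ⊤ := by
    have h1 : N ⊔ R = ⊤ := Sylow.normalizer_sup_eq_top P
    have h2 : O ⊔ Q = R := Core.pPrimeCore_sup_sylow P
    rw [← h2, sup_comm O, ← sup_assoc, sup_eq_left.2 (show Q ≤ N from Subgroup.le_normalizer)] at h1
    exact h1
  have hgm : g ∈ O ⊔ N := by rw [sup_comm, htop]; exact Subgroup.mem_top g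
  haveI : O.Normal := inferInstance
  obtain ⟨o, ho, n, hn, rfl⟩ := Subgroup.mem_sup_of_normal_left.1 hgm
  have e1 : o * n * x * (o * n)⁻¹ = o * x * o⁻¹ := by
    rw [show o * n * x * (o * n)⁻¹ = o * (n * x * n⁻¹) * o⁻¹ by group, hxN n hn, mul_inv_cancel_right]
  rw [e1] at hg ⊢
  have hc1 : o * x * o⁻¹ * x⁻¹ ∈ O := by
    rw [show o * x * o⁻¹ * x⁻¹ = o * (x * o⁻¹ * x⁻¹) by group]
    exact O.mul_mem ho ((inferInstance : O.Normal).conj_mem _ (O.inv_mem ho) x)
  have hc2 : o * x * o⁻¹ * x⁻¹ ∈ (T : Subgroup G) := (T : Subgroup G).mul_mem hg ((T : Subgroup G).inv_mem hxT)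
  obtain ⟨k, hk⟩ := IsPGroup.iff_card.1 T.isPGroup'
  have hd := Nat.dvd_gcd (Subgroup.orderOf_dvd_natCard _ hc1) (Subgroup.orderOf_dvd_natCard _ hc2)
  rw [hk, (Nat.Coprime.pow_right k (Core.card_pPrimeCore_coprime p G)).gcd_eq_one, Nat.dvd_one,
    orderOf_eq_one_iff, mul_inv_eq_one] at hd
  exact hd

end Cfsg.Agent.Screen.WeakDirect
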