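import Cfsg.Agent.Screen.DihedralOrder
import Cfsg.Agent.TwoGroups.DihedralFusion
import Cfsg.Agent.Chars2.KleinBlock
import Cfsg.Agent.FGS4.Kazarin

/-!
An involution with dihedral centralizer of order eight: with one class of involutions the group has
order 168 or 360.
-/

set_option autoImplicit false
set_option linter.style.haveILetI false

namespace Cfsg.Agent.Screen.DihedralEight

open Cfsg Cfsg.Agent Subgroup

universe u

theorem center_eq : ∀ x : DihedralGroup 4, (∀ y, x * y = y * x) → x = 1 ∨ x = DihedralGroup.r 2 := by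
  decide

theorem card_comm_sr : ∀ i : ZMod 4,
    (Finset.univ.filter fun x : DihedralGroup 4 => x * DihedralGroup.sr i = DihedralGroup.sr i * x).card = 4 := by
  decide

section

variable {G : Type u} [Group G] [Finite G] {t : G}

theorem exists_setup (ht : orderOf t = 2) (e : centralizer ({t} : Set G) ≃* DihedralGroup 4) :
    ∃ (P : Sylow 2 G) (σ τ : G), (P : Subgroup G) = centralizer ({t} : Set G) ∧
      DihedralOrder.Setup P σ τ 1 ∧ σ ^ 2 = t ∧ TwoGroups.DihIn P σ τ 2 ∧
      Nat.card (centralizer ({t, τ} : Set G)) = 4 ∧ Nat.card (centralizer ({t, σ * τ} : Set G)) = 4 := by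
  classical
  haveI := Fintype.ofFinite G
  haveI : Fact (Nat.Prime 2) := ⟨Nat.prime_two⟩
  set C := centralizer ({t} : Set G) with hC
  have hC8 : Nat.card C = 8 := by rw [Nat.card_congr e.toEquiv, DihedralGroup.nat_card]
  have htC : t ∈ C := mem_centralizer_singleton_iff.2 rfl
  have ht1 : t ≠ 1 := fun h => by rw [h, orderOf_one] at ht; norm_num at ht
  have hcen : ∀ c : C, c ≠ 1 → (∀ d : C, c * d = d * c) → e c = DihedralGroup.r 2 := by
    intro c hc hcc
    refine (center_eq _ fun y => ?_).resolve_left fun h => hc ?_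
    · obtain ⟨d, rfl⟩ := e.surjective y
      rw [← map_mul, ← map_mul, hcc]
    · exact e.injective (by rw [h, map_one])
  have het : e ⟨t, htC⟩ = DihedralGroup.r 2 := hcen _ (fun h => ht1 (congrArg Subtype.val h))
    (fun d => Subtype.ext (mem_centralizer_singleton_iff.1 d.2).symm)
  obtain ⟨Q, hQ⟩ := (IsPGroup.of_card (p := 2) (n := 3) (by rw [hC8]; norm_num) : IsPGroup 2 C).exists_le_sylow
  have hQC : (Q : Subgroup G) = C := by
    refine le_antisymm ?_ hQ
    haveI : Nontrivial (Q : Subgroup G) :=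
      ⟨⟨⟨t, hQ htC⟩, 1, fun h => ht1 (congrArg Subtype.val h)⟩⟩
    haveI := Q.2.center_nontrivial
    obtain ⟨n, hn⟩ := IsPGroup.iff_card.1 (Q.2.to_subgroup (Subgroup.center (Q : Subgroup G)))
    have hn0 : n ≠ 0 := fun h => by
      rw [h, pow_zero] at hn
      exact (Finite.one_lt_card (α := Subgroup.center (Q : Subgroup G))).ne' hn
    obtain ⟨⟨z, hz⟩, hzo⟩ := exists_prime_orderOf_dvd_card' 2 (G := Subgroup.center (Q : Subgroup G))
      (by rw [hn]; exact dvd_pow_self 2 hn0)
    rw [Subgroup.orderOf_mk] at hzo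
    have hzc : ∀ g ∈ (Q : Subgroup G), g * (z : G) = z * g := fun g hg =>
      congrArg Subtype.val (Subgroup.mem_center_iff.1 hz ⟨g, hg⟩)
    have hzC : (z : G) ∈ C := mem_centralizer_singleton_iff.2 (hzc t (hQ htC)).symm
    have hz1 : (⟨(z : G), hzC⟩ : C) ≠ 1 := fun h => by
      have h' : z = 1 := Subtype.ext (congrArg Subtype.val h :)
      rw [h', orderOf_one] at hzo
      norm_num at hzo
    have hzt : (z : G) = t := congrArg Subtype.val (e.injective ((hcen _ hz1
      (fun d => Subtype.ext (hzc d (hQ d.2)).symm)).trans het.symm))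
    exact fun g hg => mem_centralizer_singleton_iff.2 (by rw [← hzt]; exact hzc g hg)
  set σ : G := (e.symm (DihedralGroup.r 1) : G) with hσ
  set τ : G := (e.symm (DihedralGroup.sr 0) : G) with hτ
  have hσt : σ ^ 2 = t := by
    have : e.symm (DihedralGroup.r 1) ^ 2 = ⟨t, htC⟩ := e.injective (by
      rw [map_pow, e.apply_symm_apply, het, pow_two, DihedralGroup.r_mul_r]; rfl)
    rw [hσ, ← Subgroup.coe_pow, this]
  have hoσ : orderOf σ = 2 * 2 ^ 1 := by
    rw [hσ, Subgroup.orderOf_coe, e.symm.orderOf_eq, DihedralGroup.orderOf_r_one]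
    rfl
  have hoτ : orderOf τ = 2 := by
    rw [hτ, Subgroup.orderOf_coe, e.symm.orderOf_eq, DihedralGroup.orderOf_sr]
  have hrel : τ * σ * τ⁻¹ = σ⁻¹ := by
    rw [hσ, hτ, ← Subgroup.coe_inv, ← Subgroup.coe_mul, ← Subgroup.coe_mul, ← Subgroup.coe_inv, ← map_inv,
      ← map_mul, ← map_mul, ← map_inv]
    congr 2
  have hgen : closure ({σ, τ} : Set G) = (Q : Subgroup G) := by
    rw [hQC]
    refine le_antisymm ((closure_le _).2 (Set.insert_subset_iff.2 ⟨Subtype.prop _,
      Set.singleton_subset_iff.2 (Subtype.prop _)⟩)) fun g hg => ?_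
    have key : ∀ y : DihedralGroup 4, ∃ i : ℕ,
        y = DihedralGroup.r 1 ^ i ∨ y = DihedralGroup.sr 0 * DihedralGroup.r 1 ^ i := by
      intro y
      cases y with
      | r i => exact ⟨i.val, Or.inl (by rw [DihedralGroup.r_one_pow, ZMod.natCast_zmod_val])⟩
      | sr i => exact ⟨i.val, Or.inr (by
          rw [DihedralGroup.r_one_pow, ZMod.natCast_zmod_val, DihedralGroup.sr_mul_r, zero_add])⟩
    obtain ⟨i, hi⟩ := key (e ⟨g, hg⟩)
    have hσm : σ ∈ closure ({σ, τ} : Set G) := subset_closure (Set.mem_insert _ _)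
    have hτm : τ ∈ closure ({σ, τ} : Set G) := subset_closure (Set.mem_insert_of_mem _ (Set.mem_singleton _))
    rcases hi with hi | hi
    · have := congrArg (fun x => ((e.symm x : C) : G)) hi
      simp only [e.symm_apply_apply, map_pow, Subgroup.coe_pow] at this
      rw [show g = σ ^ i from this]
      exact pow_mem hσm i
    · have := congrArg (fun x => ((e.symm x : C) : G)) hi
      simp only [e.symm_apply_apply, map_mul, map_pow, Subgroup.coe_mul, Subgroup.coe_pow] at this
      rw [show g = τ * σ ^ i from this]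
      exact mul_mem hτm (pow_mem hσm i)
  have hS : DihedralOrder.Setup Q σ τ 1 :=
    ⟨le_rfl, hQC ▸ Subtype.prop _, hQC ▸ Subtype.prop _, hoσ, hoτ, hrel, hgen⟩
  have hD : TwoGroups.DihIn Q σ τ 2 :=
    ⟨by norm_num, hS.sP, hS.tP, by rw [hoσ]; norm_num, hS.tt, fun h => by
      obtain ⟨i, hi⟩ := mem_zpowers_iff.1 h
      exact hS.tau_notMem i hi.symm, hrel, by rw [hS.card_P]; norm_num⟩
  have hfour : ∀ (a : G) (ha : a ∈ C) (i : ZMod 4), e ⟨a, ha⟩ = DihedralGroup.sr i →
      Nat.card (centralizer ({t, a} : Set G)) = 4 := by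
    intro a ha i hai
    let f : centralizer ({t, a} : Set G) ≃
        {x : DihedralGroup 4 // x * DihedralGroup.sr i = DihedralGroup.sr i * x} :=
      { toFun := fun w => ⟨e ⟨w.1, mem_centralizer_singleton_iff.2
          (mem_centralizer_iff.1 w.2 t (Set.mem_insert _ _)).symm⟩, by
            rw [← hai, ← map_mul, ← map_mul]
            exact congrArg e (Subtype.ext
              (mem_centralizer_iff.1 w.2 a (Set.mem_insert_of_mem _ (Set.mem_singleton _))).symm)⟩
        invFun := fun x => ⟨(e.symm x.1 : G), mem_centralizer_iff.2 (by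
          rintro y (rfl | rfl)
          · exact (mem_centralizer_singleton_iff.1 (e.symm x.1).2).symm
          · have := congrArg (fun w => ((e.symm w : C) : G)) x.2
            simp only [map_mul, Subgroup.coe_mul, ← hai, e.symm_apply_apply] at this
            exact this.symm)⟩
        left_inv := fun w => Subtype.ext (by simp)
        right_inv := fun x => Subtype.ext (by simp) }
    rw [Nat.card_congr f, Nat.card_eq_fintype_card, Fintype.card_subtype, card_comm_sr]
  refine ⟨Q, σ, τ, hQC, hS, hσt, hD, hfour τ (Subtype.prop _) 0 (by simp [hτ]),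
    hfour (σ * τ) (mul_mem (Subtype.prop _) (Subtype.prop _)) (0 - 1) ?_⟩
  rw [← DihedralGroup.r_mul_sr (1 : ZMod 4) 0, ← e.apply_symm_apply (DihedralGroup.r 1 * DihedralGroup.sr 0)]
  exact congrArg e (Subtype.ext (by rw [map_mul, Subgroup.coe_mul]))

theorem isConj_of_no_index_two (ht : orderOf t = 2) (e : centralizer ({t} : Set G) ≃* DihedralGroup 4)
    (hG : ∀ H : Subgroup G, H.index ≠ 2) {u : G} (hu : orderOf u = 2) : IsConj t u := by
  obtain ⟨P, σ, τ, -, -, hσt, hD, -, -⟩ := exists_setup ht e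
  have hx : ∀ U : Subgroup G, U ≤ P → IsKleinFour U → TwoGroups.Exotic U := by
    intro U hU hU4
    by_contra hne
    obtain ⟨i, rfl⟩ := hD.eq_four hU4 hU
    obtain ⟨H, -, hH⟩ := hD.exists_normal_index_two hne
    exact hG H hH
  have := hD.isConj_all hx hu
  rw [show ((2 : ℤ) ^ (2 - 1)) = ((2 : ℕ) : ℤ) by norm_num, zpow_natCast, hσt] at this
  exact this.symm

end

section

variable {G : Type u} [Group G] [Fintype G] {P : Sylow 2 G} {σ τ : G}

open scoped Classical in
/-- A nontrivial character of the principal block that is a sign on the nontrivial rotations. -/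
theorem exists_char (h : DihedralOrder.Setup P σ τ 1) {M : Ideal AlgInt} [M.IsMaximal]
    (h2M : ((2 : ℕ) : AlgInt) ∈ M) :
    ∃ (χ : IrrCharacter G) (δ : ℤ), χ ∈ principalBlock M G ∧ (χ : G → ℂ) ≠ (fun _ => 1) ∧
      (δ = 1 ∨ δ = -1) ∧ ∀ l : ℕ, 0 < l → l < 2 * 2 ^ 1 → (χ : G → ℂ) (σ ^ l) = δ := by
  obtain ⟨ζ, hζ⟩ : ∃ ζ : ℂ, IsPrimitiveRoot ζ (2 * 2 ^ 1) :=
    ⟨_, Complex.isPrimitiveRoot_exp _ (by positivity)⟩
  have hζ2 : ζ ^ 2 = -1 := by
    have h4 : ζ ^ 4 = 1 := hζ.pow_eq_one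
    have h2 : ζ ^ 2 ≠ 1 := fun e => absurd (Nat.le_of_dvd two_pos ((hζ.pow_eq_one_iff_dvd 2).1 e)) (by norm_num)
    exact (mul_self_eq_one_iff.1 (show ζ ^ 2 * ζ ^ 2 = 1 by rw [← pow_add]; exact h4)).resolve_left h2
  set J := σ ^ 2 with hJ
  have hJ2 : J ^ 2 = 1 := by
    rw [hJ, ← pow_mul]
    exact h.ord ▸ pow_orderOf_eq_one σ
  choose A hA using h.coef_int hζ
  choose j hj using fun χ : IrrCharacter G => Chars2.int_value_involution χ hJ2
  have h3 : ∀ χ : IrrCharacter G, (χ : G → ℂ) (σ ^ 3) = (χ : G → ℂ) σ := fun χ => by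
    rw [show (3 : ℕ) = 2 * 2 ^ 1 - 1 by norm_num, h.zpow_sub_nat (l := 1) (by norm_num), pow_one,
      ← zpow_neg_one, h.char_symm, zpow_one]
  have hA2 : ∀ χ : IrrCharacter G, 2 * (A χ : ℂ) = (χ : G → ℂ) σ + (j χ : ℂ) := by
    intro χ
    rw [← hA, DihedralOrder.Setup.coef]
    simp only [show (2 * 2 ^ 1 : ℕ) = 4 by norm_num, Finset.sum_range_succ, Finset.sum_range_zero, zero_add,
      pow_zero, pow_one, h3, ← hJ, hj, sub_self, zero_mul]
    push_cast
    rw [show ζ ^ 3 = ζ ^ 2 * ζ from pow_succ ζ 2, hζ2]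
    ring
  set S := Finset.univ.filter (· ∈ principalBlock M G) with hSdef
  have c22 := h.column (M := M) h2M (m := 2) (l := 2) two_pos (by norm_num) two_pos (by norm_num)
  have c11 := h.column (M := M) h2M (m := 1) (l := 1) one_pos (by norm_num) one_pos (by norm_num)
  have c21 := h.column (M := M) h2M (m := 2) (l := 1) two_pos (by norm_num) one_pos (by norm_num)
  norm_num [← hJ, hj] at c22 c11 c21
  rw [← hSdef] at c22 c11 c21
  have n1 : ∑ χ ∈ S, A χ * A χ = 3 := by
    have : (4 : ℂ) * ∑ χ ∈ S, (A χ : ℂ) * (A χ : ℂ) = 4 * 3 := by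
      rw [Finset.mul_sum, Finset.sum_congr rfl (g := fun (χ : IrrCharacter G) => (χ : G → ℂ) σ * (χ : G → ℂ) σ +
        2 * ((j χ : ℂ) * (χ : G → ℂ) σ) + (j χ : ℂ) * j χ) fun χ _ => by
          linear_combination (2 * (A χ : ℂ) + ((χ : G → ℂ) σ + j χ)) * hA2 χ,
        Finset.sum_add_distrib, Finset.sum_add_distrib, ← Finset.mul_sum, c11, c21, c22]
      norm_num
    exact_mod_cast mul_left_cancel₀ (by norm_num) this
  have n2 : ∑ χ ∈ S, A χ * j χ = 4 := by
    have : (2 : ℂ) * ∑ χ ∈ S, (A χ : ℂ) * (j χ : ℂ) = 2 * 4 := by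
      rw [Finset.mul_sum, Finset.sum_congr rfl (g := fun (χ : IrrCharacter G) => (j χ : ℂ) * (χ : G → ℂ) σ + (j χ : ℂ) * j χ)
        fun χ _ => by linear_combination (j χ : ℂ) * hA2 χ, Finset.sum_add_distrib, c21, c22]
      norm_num
    exact_mod_cast mul_left_cancel₀ (by norm_num) this
  have n3 : ∑ χ ∈ S, j χ * j χ = 8 := by exact_mod_cast c22
  set one := Blocks.oneChar G with hone
  have hj1 : j one = 1 := by
    have := hj one
    simp only [hone, Blocks.coe_oneChar] at this ⊢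
    exact_mod_cast this.symm
  have hA1 : A one = 1 := by
    have := hA2 one
    rw [hj1, Blocks.coe_oneChar] at this
    push_cast at this
    exact_mod_cast (show (A one : ℂ) = 1 by linear_combination this / 2)
  have honeS : one ∈ S := Finset.mem_filter.2 ⟨Finset.mem_univ _, Blocks.one_mem_principal⟩
  rw [← Finset.add_sum_erase S _ honeS, hA1] at n1 n2
  rw [← Finset.add_sum_erase S _ honeS, hj1] at n3
  rw [hj1] at n2
  set F := (S.erase one).filter fun χ => A χ ≠ 0 with hF
  have hzero : ∀ χ ∈ S.erase one, χ ∉ F → A χ = 0 := fun χ hχ hn =>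
    not_not.1 fun h0 => hn (Finset.mem_filter.2 ⟨hχ, h0⟩)
  have e1 : ∑ χ ∈ F, A χ * A χ = 2 := by
    rw [Finset.sum_subset (Finset.filter_subset _ _) fun χ hχ hn => by rw [hzero χ hχ hn, zero_mul]]
    linarith
  have e2 : ∑ χ ∈ F, A χ * j χ = 3 := by
    rw [Finset.sum_subset (Finset.filter_subset _ _) fun χ hχ hn => by rw [hzero χ hχ hn, zero_mul]]
    linarith
  have e3 : ∑ χ ∈ F, j χ * j χ ≤ 7 :=
    le_trans (Finset.sum_le_sum_of_subset_of_nonneg (Finset.filter_subset _ _) fun χ _ _ => mul_self_nonneg _)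
      (by linarith)
  have hpos : ∀ χ ∈ F, 1 ≤ A χ * A χ := fun χ hχ => by
    have := mul_self_pos.2 (Finset.mem_filter.1 hχ).2
    omega
  have hle := Finset.sum_le_sum hpos
  rw [e1, Finset.sum_const, nsmul_eq_mul, mul_one] at hle
  obtain ⟨α, β, hne, hFab⟩ : ∃ α β, α ≠ β ∧ F = {α, β} := by
    refine Finset.card_eq_two.1 ?_
    by_contra hc
    rcases (show F.card = 0 ∨ F.card = 1 by omega) with h0 | h0
    · rw [Finset.card_eq_zero.1 h0, Finset.sum_empty] at e1; norm_num at e1
    · obtain ⟨a, ha⟩ := Finset.card_eq_one.1 h0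
      rw [ha, Finset.sum_singleton] at e1
      have h2 : -2 ≤ A a ∧ A a ≤ 2 := ⟨by nlinarith, by nlinarith⟩
      rcases h2 with ⟨h2, h2'⟩
      generalize A a = z at e1 h2 h2'
      interval_cases z <;> norm_num at e1
  rw [hFab, Finset.sum_pair hne] at e1 e2 e3
  have haF : α ∈ F := by rw [hFab]; exact Finset.mem_insert_self _ _
  have hbF : β ∈ F := by rw [hFab]; exact Finset.mem_insert_of_mem (Finset.mem_singleton_self _)
  have ha := hpos α haF
  have hb := hpos β hbF
  have ha1 : A α * A α = 1 := by omega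
  have hb1 : A β * A β = 1 := by omega
  have hu : (A α * j α = 1 ∨ A β * j β = 1) := by
    have hlo : 0 < A α * j α := by
      by_contra hle'
      have hsq : (A β * j β) * (A β * j β) = j β * j β := by rw [mul_mul_mul_comm, hb1, one_mul]
      nlinarith [mul_self_nonneg (j α)]
    have hhi : A α * j α < 3 := by
      by_contra hle'
      have hsq : (A α * j α) * (A α * j α) = j α * j α := by rw [mul_mul_mul_comm, ha1, one_mul]
      nlinarith [mul_self_nonneg (j β)]
    omega
  have key : ∀ χ ∈ F, A χ * A χ = 1 → A χ * j χ = 1 → ∃ (χ : IrrCharacter G) (δ : ℤ),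
      χ ∈ principalBlock M G ∧ (χ : G → ℂ) ≠ (fun _ => 1) ∧ (δ = 1 ∨ δ = -1) ∧
      ∀ l : ℕ, 0 < l → l < 2 * 2 ^ 1 → (χ : G → ℂ) (σ ^ l) = δ := by
    intro χ hχ hsq hprod
    obtain ⟨hχS, -⟩ := Finset.mem_filter.1 hχ
    obtain ⟨hχne, hχS⟩ := Finset.mem_erase.1 hχS
    have hjA : j χ = A χ := by
      calc j χ = A χ * A χ * j χ := by rw [hsq, one_mul]
        _ = A χ * (A χ * j χ) := mul_assoc _ _ _
        _ = A χ := by rw [hprod, mul_one]
    refine ⟨χ, A χ, (Finset.mem_filter.1 hχS).2, fun he => hχne (Subtype.ext he),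
      mul_self_eq_one_iff.1 hsq, fun l hl0 hl => ?_⟩
    have hσ : (χ : G → ℂ) σ = (A χ : ℂ) := by
      have := hA2 χ
      rw [hjA] at this
      linear_combination -this
    norm_num at hl
    interval_cases l
    · rw [pow_one, hσ]
    · rw [← hJ, hj, hjA]
    · rw [h3, hσ]
  rcases hu with hu | hu
  · exact key α haF ha1 hu
  · exact key β hbF hb1 hu

end

/-- The order of a group with one class of involutions and centralizer dihedral of order eight. -/
theorem card_eq {G : Type u} [Group G] [Finite G] {t : G} (ht : orderOf t = 2)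
    (e : centralizer ({t} : Set G) ≃* DihedralGroup 4) (hone : ∀ u : G, orderOf u = 2 → IsConj t u) :
    Nat.card G = 168 ∨ Nat.card G = 360 := by
  classical
  haveI := Fintype.ofFinite G
  haveI : Fact (Nat.Prime 2) := ⟨Nat.prime_two⟩
  obtain ⟨P, σ, τ, hPC, h, hσt, -, hc1, hc2⟩ := exists_setup ht e
  obtain ⟨M, hM, h2M⟩ := FGS4.Kazarin.exists_maximal_mem 2 Nat.prime_two
  haveI := hM
  obtain ⟨χ, δ, hχ, hne, hδ, hval⟩ := exists_char h h2M
  have hJ : σ ^ 2 ^ 1 = t := by rw [pow_one, hσt]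
  obtain ⟨hxne, hform⟩ := h.formula h2M (fun u hu => hJ.symm ▸ hone u hu) hχ hne hδ hval
  have hC8 : Nat.card (centralizer ({t} : Set G)) = 8 := by
    rw [Nat.card_congr e.toEquiv, DihedralGroup.nat_card]
  rw [hJ, hC8, hc1, hc2] at hform
  obtain ⟨g, hg, hgodd⟩ : ∃ g : ℕ, Nat.card G = 8 * g ∧ ¬ 2 ∣ g := by
    have hP8 : Nat.card (P : Subgroup G) = 8 := by rw [hPC, hC8]
    refine ⟨(P : Subgroup G).index, ?_, P.not_dvd_index⟩
    rw [← (P : Subgroup G).card_mul_index, hP8]
  set x := charDegree (χ : G → ℂ) with hxdef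
  have hxpos : 0 < x := (Blocks.charDegree_eq χ.2).2
  rw [hg] at hform ⊢
  push_cast at hform
  norm_num at hform
  have heqQ : (g : ℚ) * ((x : ℚ) - δ) ^ 2 = 32 * ((x : ℚ) * (x + δ)) := by linear_combination hform / 8
  have heq : (g : ℤ) * ((x : ℤ) - δ) ^ 2 = 32 * ((x : ℤ) * (x + δ)) := by exact_mod_cast heqQ
  set d := (x : ℤ) - δ with hd
  have hx' : (x : ℤ) = d + δ := by rw [hd]; ring
  rw [hx'] at heq
  have hd64 : d ∣ 64 := ⟨g * d - 32 * d - 96 * δ, by
    rcases hδ with hh | hh <;> rw [hh] at heq ⊢ <;> linear_combination -heq⟩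
  have hd0 : 0 < d := by rcases hδ with hh | hh <;> omega
  have hdn : d.toNat ∈ Nat.divisors 64 := Nat.mem_divisors.2 ⟨by
    rw [← Int.natCast_dvd_natCast, Int.toNat_of_nonneg hd0.le]; exact hd64, by norm_num⟩
  have hcases : d = 1 ∨ d = 2 ∨ d = 4 ∨ d = 8 ∨ d = 16 ∨ d = 32 ∨ d = 64 := by
    have := (by decide : ∀ n ∈ Nat.divisors 64, n = 1 ∨ n = 2 ∨ n = 4 ∨ n = 8 ∨ n = 16 ∨ n = 32 ∨ n = 64) _ hdn
    omega
  rcases hδ with hh | hh <;> rw [hh] at heq hx' <;>
    rcases hcases with hk | hk | hk | hk | hk | hk | hk <;> rw [hk] at heq hx' <;>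
    norm_num at heq <;> omega

end Cfsg.Agent.Screen.DihedralEight

namespace Cfsg.Agent.Screen.DihedralEight

open Subgroup

universe v

/-- A fixed-point-free involution inverts. -/
theorem conj_eq_inv {G : Type v} [Group G] [Finite G] (N : Subgroup G) [N.Normal] {u : G} (hu : u * u = 1)
    (hfix : ∀ n ∈ N, u * n * u⁻¹ = n → n = 1) : ∀ n ∈ N, u * n * u⁻¹ = n⁻¹ := by
  let f : N → N := fun x => ⟨(x : G)⁻¹ * (u * x * u⁻¹), N.mul_mem (N.inv_mem x.2) (Normal.conj_mem inferInstance _ x.2 u)⟩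
  have hf : Function.Injective f := by
    rintro ⟨x, hx⟩ ⟨y, hy⟩ e
    have e' : x⁻¹ * (u * x * u⁻¹) = y⁻¹ * (u * y * u⁻¹) := congrArg Subtype.val e
    refine Subtype.ext (mul_inv_eq_one.1 (hfix (x * y⁻¹) (N.mul_mem hx (N.inv_mem hy)) ?_))
    calc u * (x * y⁻¹) * u⁻¹ = x * (x⁻¹ * (u * x * u⁻¹)) * (u * y * u⁻¹)⁻¹ := by group
      _ = x * y⁻¹ := by rw [e']; group
  intro n hn
  obtain ⟨⟨x, hx⟩, hxn⟩ := (Finite.injective_iff_surjective.1 hf) ⟨n, hn⟩
  have e : x⁻¹ * (u * x * u⁻¹) = n := congrArg Subtype.val hxn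
  have hui : u⁻¹ = u := inv_eq_of_mul_eq_one_right hu
  rw [← e, hui]
  calc u * (x⁻¹ * (u * x * u)) * u = u * x⁻¹ * u * x * (u * u) := by group
    _ = (x⁻¹ * (u * x * u))⁻¹ := by
      rw [hu, mul_one, mul_inv_rev, mul_inv_rev, mul_inv_rev, hui, inv_inv]
      group

/-- With one class of involutions the group is simple. -/
theorem isSimple {G : Type v} [Group G] [Finite G] {t : G} (ht : orderOf t = 2)
    (e : centralizer ({t} : Set G) ≃* DihedralGroup 4) (hone : ∀ u : G, orderOf u = 2 → IsConj t u) :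
    IsSimpleGroup G := by
  classical
  haveI := Fintype.ofFinite G
  haveI : Fact (Nat.Prime 2) := ⟨Nat.prime_two⟩
  have ht1 : t ≠ 1 := fun h => by rw [h, orderOf_one] at ht; norm_num at ht
  haveI : Nontrivial G := ⟨⟨t, 1, ht1⟩⟩
  obtain ⟨P, σ, τ, hPC, h, hσt, -, -, -⟩ := exists_setup ht e
  refine ⟨fun N hN => ?_⟩
  haveI := hN
  have htau2 : τ * τ = 1 := h.tt
  by_cases h2 : 2 ∣ Nat.card N
  · refine Or.inr ?_
    obtain ⟨⟨u, hu⟩, huo⟩ := exists_prime_orderOf_dvd_card' (G := N) 2 h2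
    rw [Subgroup.orderOf_mk] at huo
    have htN : t ∈ N := by
      obtain ⟨c, hc⟩ := isConj_iff.1 (hone u huo).symm
      exact hc ▸ hN.conj_mem u hu c
    have hall : ∀ v : G, orderOf v = 2 → v ∈ N := by
      intro v hv
      obtain ⟨c, hc⟩ := isConj_iff.1 (hone v hv)
      exact hc ▸ hN.conj_mem t htN c
    have hτ : τ ∈ N := hall τ h.tord
    have hστ : σ * τ ∈ N := hall _ (orderOf_eq_prime (by
      rw [pow_two]; simpa using h.refl_sq 1) (fun e1 => h.refl_ne 1 0 (by rw [zpow_one, e1, zpow_zero])))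
    have hσ : σ ∈ N := by
      have := N.mul_mem hστ hτ
      rwa [mul_assoc, htau2, mul_one] at this
    have hPN : (P : Subgroup G) ≤ N := by
      rw [← h.gen, closure_le]
      exact Set.insert_subset_iff.2 ⟨hσ, Set.singleton_subset_iff.2 hτ⟩
    have hfr := Sylow.normalizer_sup_eq_top (P.subtype hPN)
    rw [Sylow.coe_subtype, subgroupOf_map_subtype, inf_eq_left.2 hPN] at hfr
    have hle : normalizer ((P : Subgroup G) : Set G) ≤ N := by
      refine le_trans ?_ hPN
      intro g hg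
      rw [hPC]
      have htP : t ∈ (P : Subgroup G) := hσt ▸ Subgroup.pow_mem _ h.sP 2
      have hgt : g * t * g⁻¹ ∈ centralizer ({t} : Set G) := hPC ▸ (mem_normalizer_iff.1 hg t).1 htP
      have hcen : ∀ c : centralizer ({t} : Set G), c ≠ 1 → (∀ d : centralizer ({t} : Set G), c * d = d * c) →
          e c = DihedralGroup.r 2 := by
        intro c hc hcc
        refine (center_eq _ fun y => ?_).resolve_left fun h' => hc ?_
        · obtain ⟨d, rfl⟩ := e.surjective y
          rw [← map_mul, ← map_mul, hcc]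
        · exact e.injective (by rw [h', map_one])
      have e1 : e ⟨g * t * g⁻¹, hgt⟩ = DihedralGroup.r 2 := by
        refine hcen _ (fun h' => ht1 ?_) fun d => Subtype.ext ?_
        · exact conj_eq_one_iff.1 (congrArg Subtype.val h')
        · have hd : g⁻¹ * (d : G) * g ∈ (P : Subgroup G) := by
            refine (mem_normalizer_iff.1 hg _).2 ?_
            rw [show g * (g⁻¹ * (d : G) * g) * g⁻¹ = d by group, hPC]; exact d.2
          have := mem_centralizer_singleton_iff.1 (hPC ▸ hd)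
          show g * t * g⁻¹ * d = d * (g * t * g⁻¹)
          calc g * t * g⁻¹ * d = g * (t * (g⁻¹ * d * g)) * g⁻¹ := by group
            _ = d * (g * t * g⁻¹) := by rw [← this]; group
      have e2 : e ⟨t, mem_centralizer_singleton_iff.2 rfl⟩ = DihedralGroup.r 2 :=
        hcen _ (fun h' => ht1 (congrArg Subtype.val h'))
          (fun d => Subtype.ext (mem_centralizer_singleton_iff.1 d.2).symm)
      have e3 : g * t * g⁻¹ = t := congrArg Subtype.val (e.injective (e1.trans e2.symm))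
      exact mem_centralizer_singleton_iff.2 (mul_inv_eq_iff_eq_mul.1 e3)
    exact top_le_iff.1 (hfr ▸ sup_le hle le_rfl)
  · refine Or.inl ((Subgroup.eq_bot_iff_forall _).2 fun n hn => ?_)
    have hfix : ∀ u : G, orderOf u = 2 → ∀ m ∈ N, u * m * u⁻¹ = m → m = 1 := by
      intro u hu m hm hum
      obtain ⟨c, hc⟩ := isConj_iff.1 (hone u hu)
      have hm' : c⁻¹ * m * c ∈ N := by simpa using hN.conj_mem m hm c⁻¹
      have hmC : c⁻¹ * m * c ∈ centralizer ({t} : Set G) := by
        refine mem_centralizer_singleton_iff.2 ?_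
        have e1 : u * m = m * u := mul_inv_eq_iff_eq_mul.1 hum
        calc c⁻¹ * m * c * t = c⁻¹ * (m * (c * t * c⁻¹)) * c := by group
          _ = c⁻¹ * (c * t * c⁻¹ * m) * c := by rw [hc, e1]
          _ = t * (c⁻¹ * m * c) := by group
      have h8 : Nat.card (centralizer ({t} : Set G)) = 2 ^ 3 := by
        rw [Nat.card_congr e.toEquiv, DihedralGroup.nat_card]; rfl
      have := orderOf_eq_one_iff.1 (Nat.eq_one_of_dvd_coprimes
        ((Nat.prime_two.coprime_iff_not_dvd.2 h2).pow_left 3) (h8 ▸ Subgroup.orderOf_dvd_natCard _ hmC)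
        (Subgroup.orderOf_dvd_natCard _ hm'))
      simpa using (conj_eq_one_iff (a := c⁻¹) (b := m)).1 (by simpa using this)
    have htτ : Commute t τ := by
      have := h.J_comm h.tP
      rw [pow_one, hσt] at this
      exact this.symm
    have htsq : t * t = 1 := by rw [← pow_two, ← ht, pow_orderOf_eq_one]
    have hto : orderOf (t * τ) = 2 := orderOf_eq_prime (by rw [htτ.mul_pow, pow_two, pow_two, htsq, htau2, one_mul])
      fun e1 => h.tau_notMem 2 (by rw [← inv_eq_of_mul_eq_one_right e1, inv_eq_of_mul_eq_one_right htsq, ← hσt, ← zpow_natCast]; rfl)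
    refine hfix _ hto n hn ?_
    rw [mul_inv_rev, show t * τ * n * (τ⁻¹ * t⁻¹) = t * (τ * n * τ⁻¹) * t⁻¹ by group,
      conj_eq_inv N htau2 (hfix τ h.tord) n hn, conj_eq_inv N htsq (hfix t ht) _ (N.inv_mem hn), inv_inv]

end Cfsg.Agent.Screen.DihedralEight
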