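import Cfsg.Agent.PLocal.Constrained
import Cfsg.Agent.FGS3.PGroupAut
import Cfsg.Agent.Linear.IsoA8
import Cfsg.Agent.S2551

/-!
A two-constrained group modulo a largest normal `2`-subgroup of sectional rank at most four embeds
in `A₈`.
-/

set_option autoImplicit false
set_option linter.style.haveILetI false
set_option linter.unusedSectionVars false

namespace Cfsg.Agent.Screen.ConstrainedRankFour

/-- The automorphisms of an elementary abelian group of order 16. -/
theorem exists_gl_hom {V : Type*} [Group V] [Finite V] (hc : ∀ a b : V, a * b = b * a)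
    (he : ∀ a : V, a ^ 2 = 1) (hcard : Nat.card V = 2 ^ 4) :
    ∃ Φ : MulAut V →* GL (Fin 4) (ZMod 2), Function.Injective Φ := by
  letI : CommGroup V := { (inferInstance : Group V) with mul_comm := hc }
  letI : Module (ZMod 2) (Additive V) := AddCommGroup.zmodModule (n := 2) fun x => he x.toMul
  have hfin : Module.finrank (ZMod 2) (Additive V) = 4 := by
    have h1 := Module.natCard_eq_pow_finrank (K := ZMod 2) (V := Additive V)
    have h2 : Nat.card (Additive V) = Nat.card V := Nat.card_congr Additive.toMul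
    rw [Nat.card_zmod, h2, hcard] at h1
    exact (Nat.pow_right_injective le_rfl h1).symm
  haveI : Module.Finite (ZMod 2) (Additive V) := Module.Finite.of_finite
  let e : Additive V ≃ₗ[ZMod 2] (Fin 4 → ZMod 2) := LinearEquiv.ofFinrankEq _ _ (by simp [hfin])
  let lin : MulAut V → (Fin 4 → ZMod 2) →ₗ[ZMod 2] (Fin 4 → ZMod 2) := fun a =>
    ((e : Additive V →ₗ[ZMod 2] _).comp ((MonoidHom.toAdditive a.toMonoidHom).toZModLinearMap 2)).comp
      (e.symm : (Fin 4 → ZMod 2) →ₗ[ZMod 2] Additive V)
  let f : MulAut V →* Matrix (Fin 4) (Fin 4) (ZMod 2) :=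
    { toFun := fun a => LinearMap.toMatrix' (lin a)
      map_one' := by
        rw [← LinearMap.toMatrix'_id]
        congr 1
        apply LinearMap.ext
        intro w
        exact e.apply_symm_apply w
      map_mul' := fun a b => by
        rw [← LinearMap.toMatrix'_comp]
        congr 1
        apply LinearMap.ext
        intro w
        simp [lin] }
  refine ⟨f.toHomUnits, fun a b h => ?_⟩
  have h1 : lin a = lin b := LinearMap.toMatrix'.injective (congrArg Units.val h)
  apply MulEquiv.ext
  intro x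
  have h2 := LinearMap.congr_fun h1 (e (Additive.ofMul x))
  simpa [lin] using h2

theorem main {X : Type*} [Group X] [Finite X] (hc : Cfsg.IsPConstrained 2 X)
    (hO : Cfsg.oddCore X = ⊥) (h4 : Cfsg.SectionalPRankLE 2 4 ↥(Cfsg.pCore 2 X)) :
    ∃ f : X ⧸ Cfsg.pCore 2 X →* ↥(alternatingGroup (Fin 8)), Function.Injective f := by
  haveI : Fact (Nat.Prime 2) := ⟨Nat.prime_two⟩
  set Q := Cfsg.pCore 2 X with hQdef
  have hQ : IsPGroup 2 Q := Core.isPGroup_pCore 2 X
  have hC : Subgroup.centralizer (Q : Set X) ≤ Q :=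
    (PLocal.isPConstrained_iff_of_pPrimeCore_eq_bot hO).1 hc
  have hcomm := FGS3.quotient_frattini_comm hQ
  have hpow := FGS3.quotient_frattini_pow hQ
  -- the Frattini quotient has order at most 16
  obtain ⟨r, hr⟩ := (IsPGroup.to_quotient hQ (frattini Q)).exists_card_eq
  have hr4 : r ≤ 4 := by
    let N : Subgroup (⊤ : Subgroup Q) := (frattini Q).subgroupOf ⊤
    let π : (⊤ : Subgroup Q) ⧸ N →* Q ⧸ frattini Q :=
      QuotientGroup.map _ _ (Subgroup.subtype ⊤) (fun _ h => h)
    have hπ : Function.Bijective π := by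
      refine ⟨?_, fun y => ?_⟩
      · rw [← MonoidHom.ker_eq_bot_iff, Subgroup.eq_bot_iff_forall]
        intro x hx
        obtain ⟨x, rfl⟩ := QuotientGroup.mk_surjective x
        exact (QuotientGroup.eq_one_iff x).2 ((QuotientGroup.eq_one_iff _).1 hx :)
      · obtain ⟨y, rfl⟩ := QuotientGroup.mk_surjective y
        exact ⟨QuotientGroup.mk ⟨y, trivial⟩, rfl⟩
    have hle := h4 ⊤ N ⊤
      (⟨⟨fun a b => Subtype.ext (hπ.1 (by simp only [map_mul, Subgroup.coe_mul]; exact hcomm _ _))⟩⟩)
      (fun a _ => hπ.1 (by rw [map_pow, map_one]; exact hpow _))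
    rw [Subgroup.card_top, Nat.card_eq_of_bijective _ hπ, hr] at hle
    exact (Nat.pow_le_pow_iff_right (by norm_num)).1 hle
  let W := Q ⧸ frattini Q
  let W' := W × Multiplicative (Fin (4 - r) → ZMod 2)
  have hW' : Nat.card W' = 2 ^ 4 := by
    rw [Nat.card_prod, hr, Nat.card_congr Multiplicative.toAdd, Nat.card_fun, Nat.card_zmod,
      Nat.card_fin, ← pow_add]
    congr 1
    omega
  obtain ⟨Φ, hΦ⟩ := exists_gl_hom (V := W')
    (fun a b => Prod.ext (hcomm _ _) (mul_comm _ _))
    (fun a => Prod.ext (hpow _) (by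
      show a.2 ^ 2 = 1
      rw [pow_two]
      exact Multiplicative.toAdd.injective (funext fun i => CharTwo.add_self_eq_zero _))) hW'
  let pad : MulAut W →* MulAut W' :=
    MonoidHom.mk' (fun a => a.prodCongr (MulEquiv.refl _)) (fun a b => MulEquiv.ext fun x => rfl)
  have hpad : Function.Injective pad := fun a b h => MulEquiv.ext fun x =>
    congrArg Prod.fst (DFunLike.congr_fun h (x, 1))
  let down : MulAut Q →* MulAut W :=
    MonoidHom.mk' (fun a => QuotientGroup.congr (frattini Q) (frattini Q) a
        (Subgroup.characteristic_iff_map_eq.1 inferInstance a))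
      (fun a b => MulEquiv.ext fun x => by
        obtain ⟨x, rfl⟩ := QuotientGroup.mk_surjective x
        rfl)
  let c : X →* MulAut Q := MulAut.conjNormal
  let F : X →* GL (Fin 4) (ZMod 2) := Φ.comp (pad.comp (down.comp c))
  have hker : F.ker = Q := by
    refine le_antisymm ?_ ?_
    · refine Core.le_pCore inferInstance ?_
      -- automorphisms trivial on the Frattini quotient form a two-group
      obtain ⟨k, hk⟩ := hQ.exists_card_eq
      have hd := FGS3.card_dvd_card_frattini_pow hQ (r := r) (by rw [Subgroup.index_eq_card, hr])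
        (F.ker.map c) (by
          rintro _ ⟨x, hx, rfl⟩ y
          have h1 : down (c x) = 1 := hpad (hΦ (by simpa [F] using hx))
          rw [← div_eq_mul_inv, ← QuotientGroup.eq_iff_div_mem]
          exact DFunLike.congr_fun h1 (QuotientGroup.mk y))
      obtain ⟨j, hj⟩ := (hQ.to_subgroup (frattini Q)).exists_card_eq
      rw [hj, ← pow_mul] at hd
      obtain ⟨i, -, hi⟩ := (Nat.dvd_prime_pow Nat.prime_two).1 hd
      have hK : IsPGroup 2 (F.ker.map c) := IsPGroup.of_card hi
      intro x
      obtain ⟨a, ha⟩ := hK ⟨c x.1, x.1, x.2, rfl⟩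
      have h1 : c (x.1 ^ 2 ^ a) = 1 := by rw [map_pow]; exact congrArg Subtype.val ha
      have h2 : x.1 ^ 2 ^ a ∈ Q := hC (by
        rw [Subgroup.mem_centralizer_iff]
        intro y hy
        have := congrArg Subtype.val (DFunLike.congr_fun h1 ⟨y, hy⟩)
        simp only [c, MulAut.conjNormal_apply, MulAut.one_apply] at this
        exact (mul_inv_eq_iff_eq_mul.1 this).symm)
      obtain ⟨b, hb⟩ := hQ ⟨_, h2⟩
      refine ⟨a + b, Subtype.ext ?_⟩
      have := congrArg Subtype.val hb
      simpa [pow_add, pow_mul] using this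
    · intro x hx
      have : down (c x) = 1 := MulEquiv.ext fun y => by
        obtain ⟨y, rfl⟩ := QuotientGroup.mk_surjective y
        show QuotientGroup.mk (c x y) = QuotientGroup.mk y
        rw [show c x y = ⟨x, hx⟩ * y * (⟨x, hx⟩ : Q)⁻¹ from Subtype.ext rfl, QuotientGroup.mk_mul,
          QuotientGroup.mk_mul, QuotientGroup.mk_inv, hcomm, inv_mul_cancel_left]
      rw [MonoidHom.mem_ker]
      simp [F, this]
  obtain ⟨i1⟩ := S2551.gl_equiv_psl (F := ZMod 2) (ZMod.card 2)
  obtain ⟨i2⟩ := Linear.PSL4_two_iso (F := ZMod 2) (ZMod.card 2)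
  exact ⟨(i1.trans i2).toMonoidHom.comp (QuotientGroup.lift Q F hker.ge), (i1.trans i2).injective.comp
    (by
      rw [← MonoidHom.ker_eq_bot_iff, Subgroup.eq_bot_iff_forall]
      intro x hx
      obtain ⟨x, rfl⟩ := QuotientGroup.mk_surjective x
      exact (QuotientGroup.eq_one_iff x).2 (hker.le (hx : x ∈ F.ker)))⟩

end Cfsg.Agent.Screen.ConstrainedRankFour
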