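import Cfsg.Agent.Screen.CTwoSFour
import Cfsg.Agent.Linear.IsoPSL27
import Cfsg.Agent.Linear.SLNormal
import Cfsg.Agent.S0495
import Cfsg.Agent.Blocks.ZStarFinal

/-!
# Identification of a group with a 2-central involution centralizer `Z₂ × S₄`
-/

set_option autoImplicit false
set_option maxRecDepth 100000
set_option maxHeartbeats 1000000
open Cfsg Equiv
open scoped Pointwise

namespace Cfsg.Agent.Screen.CTwoSFour

/-- A double three-cycle. -/
def x6 : Perm (Fin 6) := swap 0 1 * swap 1 2 * (swap 3 4 * swap 4 5)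
/-- An odd permutation commuting with it. -/
def tau6 : Perm (Fin 6) := swap 0 3 * swap 1 4 * swap 2 5

theorem x6_cycleType : x6.cycleType = {3, 3} := by decide

theorem tau6_spec : tau6 * x6 = x6 * tau6 ∧ Equiv.Perm.sign tau6 = -1 := by decide

theorem phi_count : (Finset.univ.filter fun q : Perm (Fin 4) => q * q = 1 ∧ q ≠ 1).card = 9 := by decide

theorem phi_r : ∃ x, phi x = r0 := ⟨DihedralGroup.r 1, by decide⟩

theorem r0_facts : r0 * a0 ≠ a0 * r0 ∧ r0 * r0 = z0 ∧ z0 ≠ 1 ∧ a0 ≠ 1 ∧ z0 * z0 = 1 ∧ a0 * a0 = 1 ∧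
    z0 * a0 = a0 * z0 := by decide

theorem noncentral_z0 : ∃ p : Perm (Fin 4), p * z0 ≠ z0 * p := ⟨swap 0 1, by decide⟩

/-- The two classes of elements of order three of the alternating group of degree six. -/
theorem three_type {x : Perm (Fin 6)} (hx : orderOf x = 3) : x.IsThreeCycle ∨ x.cycleType = {3, 3} := by
  obtain ⟨j, hj⟩ := Equiv.Perm.cycleType_prime_order (σ := x) (by rw [hx]; exact Nat.prime_three)
  rw [hx] at hj
  have hle : (j + 1) * 3 ≤ 6 := by
    have h := Finset.card_le_univ x.support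
    rwa [← Equiv.Perm.sum_cycleType, hj, Multiset.sum_replicate, Fintype.card_fin, smul_eq_mul] at h
  obtain rfl | rfl : j = 0 ∨ j = 1 := by omega
  · exact Or.inl hj
  · exact Or.inr hj

theorem conj_of_double (x y : alternatingGroup (Fin 6)) (hx : (x : Perm (Fin 6)).cycleType = {3, 3})
    (hy : (y : Perm (Fin 6)).cycleType = {3, 3}) : IsConj x y := by
  obtain ⟨ρ, hρ⟩ := isConj_iff.1 (Equiv.Perm.isConj_iff_cycleType_eq.2 (x6_cycleType.trans hx.symm))
  obtain ⟨π, hπ⟩ := isConj_iff.1 (Equiv.Perm.isConj_iff_cycleType_eq.2 (hx.trans hy.symm))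
  rcases Int.units_eq_one_or (Equiv.Perm.sign π) with h | h
  · exact isConj_iff.2 ⟨⟨π, Equiv.Perm.mem_alternatingGroup.2 h⟩, Subtype.ext hπ⟩
  · refine isConj_iff.2 ⟨⟨π * (ρ * tau6 * ρ⁻¹), Equiv.Perm.mem_alternatingGroup.2 ?_⟩, Subtype.ext ?_⟩
    · rw [map_mul, map_mul, map_mul, map_inv, tau6_spec.2, h, mul_comm (Equiv.Perm.sign ρ), mul_inv_cancel_right]
      rfl
    · show π * (ρ * tau6 * ρ⁻¹) * (x : Perm (Fin 6)) * (π * (ρ * tau6 * ρ⁻¹))⁻¹ = (y : Perm (Fin 6))
      have e : ρ * tau6 * ρ⁻¹ * (x : Perm (Fin 6)) * (ρ * tau6 * ρ⁻¹)⁻¹ = x := by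
        rw [← hρ, show ρ * tau6 * ρ⁻¹ * (ρ * x6 * ρ⁻¹) * (ρ * tau6 * ρ⁻¹)⁻¹ = ρ * (tau6 * x6) * tau6⁻¹ * ρ⁻¹ by group,
          tau6_spec.1]
        group
      rw [← hπ]
      calc π * (ρ * tau6 * ρ⁻¹) * (x : Perm (Fin 6)) * (π * (ρ * tau6 * ρ⁻¹))⁻¹
          = π * (ρ * tau6 * ρ⁻¹ * (x : Perm (Fin 6)) * (ρ * tau6 * ρ⁻¹)⁻¹) * π⁻¹ := by group
        _ = π * (x : Perm (Fin 6)) * π⁻¹ := by rw [e]

/-- An automorphism fixing an element of order three preserves three-cycles. -/
theorem preserves_three (θ : MulAut (alternatingGroup (Fin 6))) (c : alternatingGroup (Fin 6))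
    (hc : orderOf c = 3) (hθc : θ c = c) (x : alternatingGroup (Fin 6))
    (hx : (x : Perm (Fin 6)).IsThreeCycle) :
    ((θ x : alternatingGroup (Fin 6)) : Perm (Fin 6)).IsThreeCycle := by
  have hco : orderOf (c : Perm (Fin 6)) = 3 := by rw [Subgroup.orderOf_coe, hc]
  have hyo : orderOf ((θ x : alternatingGroup (Fin 6)) : Perm (Fin 6)) = 3 := by
    rw [Subgroup.orderOf_coe, MulEquiv.orderOf_eq, ← Subgroup.orderOf_coe, hx.orderOf]
  have hstable : ∀ u v : alternatingGroup (Fin 6), IsConj u v →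
      (u : Perm (Fin 6)).cycleType = (v : Perm (Fin 6)).cycleType := fun u v h => by
    obtain ⟨g, hg⟩ := isConj_iff.1 h
    rw [← hg, Subgroup.coe_mul, Subgroup.coe_mul, Subgroup.coe_inv, Equiv.Perm.cycleType_conj]
  rcases three_type hco with h3 | h3
  · have hconj : IsConj c x := alternatingGroup.isThreeCycle_isConj (by simp) h3 hx
    have h := hstable _ _ (θ.toMonoidHom.map_isConj hconj)
    rw [show θ.toMonoidHom c = c from hθc] at h
    exact h.symm.trans h3
  · refine (three_type hyo).resolve_right fun h => ?_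
    have hconj := conj_of_double c (θ x) h3 h
    have h' := hstable _ _ (θ.symm.toMonoidHom.map_isConj hconj)
    rw [show θ.symm.toMonoidHom c = c from (MulEquiv.symm_apply_eq θ).2 hθc.symm,
      show θ.symm.toMonoidHom (θ x) = x from θ.symm_apply_apply x, h3,
      show (x : Perm (Fin 6)).cycleType = {3} from hx] at h'
    exact absurd (congrArg Multiset.card h') (by simp)

section Local

variable {G : Type*} [Group G] [Finite G] {t : G}
variable (e : ↥(Subgroup.centralizer ({t} : Set G)) ≃* (Multiplicative (ZMod 2) × Equiv.Perm (Fin 4)))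

theorem exists_kap (ht : orderOf t = 2) (M : Subgroup G) (hM2 : M.index = 2) (htM : t ∉ M) :
    ∃ k : Equiv.Perm (Fin 4) →* G, Function.Injective k ∧ (∀ p, k p ∈ M) ∧ (∀ p, ∃ s, k p = el e (s, p)) ∧
      k z0 = el e (1, z0) ∧
      ∀ g : G, g * t = t * g → g ∈ M → ∀ s p, g = el e (s, p) → k p = g := by
  have het := el_t e ht
  have hex : ∀ p, ∃ s, el e (s, p) ∈ M := by
    intro p
    by_cases h : el e (1, p) ∈ M
    · exact ⟨1, h⟩
    · refine ⟨Multiplicative.ofAdd 1, ?_⟩
      rw [show ((Multiplicative.ofAdd 1, p) : Multiplicative (ZMod 2) × Equiv.Perm (Fin 4)) =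
        (Multiplicative.ofAdd 1, 1) * (1, p) from Prod.ext (mul_one _).symm (one_mul _).symm, map_mul, het]
      exact (Subgroup.mul_mem_iff_of_index_two hM2).2 ⟨fun h' => absurd h' htM, fun h' => absurd h' h⟩
  have huniq : ∀ p s s', el e (s, p) ∈ M → el e (s', p) ∈ M → s = s' := by
    intro p s s' h h'
    by_contra hne
    apply htM
    have h1 := M.mul_mem h (M.inv_mem h')
    rw [← map_inv, ← map_mul] at h1
    have hs : s * s'⁻¹ = Multiplicative.ofAdd 1 :=
      (two_cases _).resolve_left fun h0 => hne (mul_inv_eq_one.1 h0)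
    rwa [show ((s, p) : Multiplicative (ZMod 2) × Equiv.Perm (Fin 4)) * (s', p)⁻¹ = (Multiplicative.ofAdd 1, 1) from
      Prod.ext hs (mul_inv_cancel p), het] at h1
  choose c hc using hex
  have hmul : ∀ p q, el e (c (p * q), p * q) = el e (c p, p) * el e (c q, q) := by
    intro p q
    have h := M.mul_mem (hc p) (hc q)
    rw [← map_mul] at h ⊢
    rw [huniq (p * q) _ _ (hc (p * q)) h]
    rfl
  let k : Equiv.Perm (Fin 4) →* G := MonoidHom.mk' (fun p => el e (c p, p)) hmul
  refine ⟨k, fun p q h => congrArg Prod.snd (el_injective e h), hc, fun p => ⟨c p, rfl⟩, ?_, ?_⟩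
  · rw [← r0_facts.2.1, map_mul]
    show el e (c r0, r0) * el e (c r0, r0) = _
    rw [← map_mul]
    exact congrArg _ (Prod.ext (two_sq _) rfl)
  · intro g _ hgM s p hg
    show el e (c p, p) = g
    rw [huniq p _ _ (hc p) (hg ▸ hgM), hg]

/-- The degree six case. -/
theorem sixCase {M : Subgroup G} [hMn : M.Normal] (f : M ≃* alternatingGroup (Fin 6)) (hM2 : M.index = 2)
    (htM : t ∉ M) (htt : t * t = 1) (k : Equiv.Perm (Fin 4) →* G) (hki : Function.Injective k)
    (hkM : ∀ p, k p ∈ M) (hkt : ∀ p, k p * t = t * k p) (hkz : k z0 = el e (1, z0))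
    (hCM : ∀ g, g * t = t * g → g ∈ M → ∃ p, k p = g) (hncc : ¬ ∀ m ∈ M, m * t = t * m)
    (hz : ∀ g : G, g * el e (1, z0) = el e (1, z0) * g ↔ g ∈ syl e) :
    Nonempty (G ≃* Equiv.Perm (Fin 6)) := by
  classical
  let ψ : G →* MulAut (alternatingGroup (Fin 6)) :=
    (MulAut.congr f).toMonoidHom.comp (MulAut.conjNormal (H := M))
  have hψ : ∀ (g : G) (w : alternatingGroup (Fin 6)), ψ g w = f (MulAut.conjNormal g (f.symm w)) := fun g w => rfl
  obtain ⟨c, -, hc3, hc1, -, -⟩ := three_element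
  have hco : orderOf (f (⟨k c, hkM c⟩ : M)) = 3 := by
    haveI : Fact (Nat.Prime 3) := ⟨Nat.prime_three⟩
    rw [MulEquiv.orderOf_eq, ← Subgroup.orderOf_coe]
    exact orderOf_eq_prime (by rw [← map_pow, hc3, map_one]) fun h => hc1 (hki (by rw [map_one]; exact h))
  have hfix : ψ t (f ⟨k c, hkM c⟩) = f ⟨k c, hkM c⟩ := by
    rw [hψ, f.symm_apply_apply]
    refine congrArg f (Subtype.ext ?_)
    rw [MulAut.conjNormal_apply]
    show t * k c * t⁻¹ = k c
    rw [← hkt, mul_inv_cancel_right]
  obtain ⟨hinj, honto⟩ := AutAltSix.conjNormal_injective_and_onto 6 (by norm_num)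
  obtain ⟨σ, hσ⟩ := honto (ψ t) (fun x hx => preserves_three (ψ t) _ hco hfix x hx)
  have hinner : ∀ m : M, MulAut.conjNormal ((f m : alternatingGroup (Fin 6)) : Equiv.Perm (Fin 6)) = ψ (m : G) := by
    intro m
    refine MulEquiv.ext fun w => ?_
    rw [hψ]
    apply Subtype.ext
    rw [MulAut.conjNormal_apply, show MulAut.conjNormal (m : G) (f.symm w) = m * f.symm w * m⁻¹ from
      Subtype.ext (by rw [MulAut.conjNormal_apply]; rfl), map_mul, map_mul, map_inv, f.apply_symm_apply]
    rfl
  have hrange : ∀ g, ψ g ∈ (MulAut.conjNormal : Equiv.Perm (Fin 6) →* MulAut (alternatingGroup (Fin 6))).range := by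
    intro g
    by_cases hg : g ∈ M
    · exact ⟨_, hinner ⟨g, hg⟩⟩
    · have htg : t * g ∈ M := (Subgroup.mul_mem_iff_of_index_two hM2).2 ⟨fun h' => absurd h' htM, fun h' => absurd h' hg⟩
      rw [show g = t * (t * g) by rw [← mul_assoc, htt, one_mul], map_mul]
      exact mul_mem ⟨σ, hσ⟩ ⟨_, hinner ⟨_, htg⟩⟩
  have hψker : ∀ g, ψ g = 1 → g = 1 := by
    intro g hg
    have hcomm : ∀ m ∈ M, g * m = m * g := by
      intro m hm
      have h := DFunLike.congr_fun hg (f ⟨m, hm⟩)
      rw [hψ, f.symm_apply_apply] at h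
      have h' := congrArg Subtype.val (f.injective h)
      rw [MulAut.conjNormal_apply] at h'
      exact mul_inv_eq_iff_eq_mul.1 h'
    have hgs : g ∈ syl e := (hz g).1 (by rw [← hkz]; exact hcomm _ (hkM _))
    have hgt : g * t = t * g := by
      obtain ⟨⟨s, p⟩, -, rfl⟩ := hgs
      exact Subgroup.mem_centralizer_singleton_iff.1 (el_mem e _)
    have hcen : ∀ p, (∀ q, k p * k q = k q * k p) → p = 1 := fun p h =>
      center_trivial p fun q => hki (by rw [map_mul, map_mul]; exact h q)
    by_cases hgM : g ∈ M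
    · obtain ⟨p, rfl⟩ := hCM g hgt hgM
      rw [hcen p fun q => hcomm _ (hkM q), map_one]
    · exfalso
      have htg : t * g ∈ M := (Subgroup.mul_mem_iff_of_index_two hM2).2 ⟨fun h' => absurd h' htM, fun h' => absurd h' hgM⟩
      obtain ⟨p, hp⟩ := hCM (t * g) (by rw [mul_assoc, hgt]) htg
      have hp1 : p = 1 := hcen p fun q => by
        rw [hp, mul_assoc, hcomm _ (hkM q), ← mul_assoc, ← hkt q, mul_assoc]
      rw [hp1, map_one] at hp
      have hgt' : g = t := by
        rw [← inv_eq_of_mul_eq_one_right hp.symm]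
        exact inv_eq_of_mul_eq_one_right htt
      exact hncc fun m hm => (hgt' ▸ hcomm m hm).symm
  let Φ : G →* Equiv.Perm (Fin 6) :=
    (MonoidHom.ofInjective hinj).symm.toMonoidHom.comp (ψ.codRestrict _ hrange)
  have hΦ : Function.Injective Φ := by
    rw [injective_iff_map_eq_one]
    intro g hg
    refine hψker g ?_
    have h := (MonoidHom.ofInjective hinj).symm.map_eq_one_iff.1 hg
    exact congrArg Subtype.val h
  refine ⟨MulEquiv.ofBijective Φ ((Nat.bijective_iff_injective_and_card Φ).2 ⟨hΦ, ?_⟩)⟩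
  rw [← M.card_mul_index, hM2, Nat.card_congr f.toEquiv, nat_card_alternatingGroup, Nat.card_perm, Nat.card_fin]
  rfl

/-- The case of order `168` is impossible. -/
theorem sevenCase {M : Subgroup G} [hMn : M.Normal] [IsSimpleGroup M] (h168 : Nat.card M = 168)
    (hM2 : M.index = 2) (hM48 : ¬ Nat.card M ≤ 48) (k : Equiv.Perm (Fin 4) →* G) (hki : Function.Injective k)
    (hkM : ∀ p, k p ∈ M) (hkt : ∀ p, k p * t = t * k p) {z : G} (hkz : k z0 = z)
    (hCM : ∀ g, g * t = t * g → g ∈ M → ∃ p, k p = g)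
    (houter : ∀ u : G, u * u = 1 → u ∉ M → ∃ g : G, g * u * g⁻¹ = t ∨ g * u * g⁻¹ = t * k z0)
    (hD : ∀ x, k (phi x) * z = z * k (phi x)) : False := by
  classical
  haveI : Fact (Nat.Prime 7) := ⟨by norm_num⟩
  haveI : Finite (Sylow 7 M) := inferInstance
  let P : Sylow 7 M := default
  have hP7 : Nat.card (P : Subgroup M) = 7 := by
    have h := P.card_eq_multiplicity
    rw [h168] at h
    have e168 : (168 : ℕ).factorization 7 = 1 := by
      rw [show (168 : ℕ) = 24 * 7 from rfl, Nat.factorization_mul (by norm_num) (by norm_num), Finsupp.add_apply,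
        Nat.Prime.factorization_self (by norm_num), Nat.factorization_eq_zero_of_not_dvd (by norm_num)]
    rwa [e168, pow_one] at h
  have hn8 : Nat.card (Sylow 7 M) = 8 := by
    have h1 : Nat.card (Sylow 7 M) ∣ 24 := by
      have h := P.card_dvd_index
      have h' := Subgroup.card_mul_index (P : Subgroup M)
      rw [hP7, h168] at h'
      rwa [show (P : Subgroup M).index = 24 by omega] at h
    have h2 : Nat.card (Sylow 7 M) % 7 = 1 := card_sylow_modEq_one 7 M
    have h3 : Nat.card (Sylow 7 M) ≠ 1 := by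
      intro h
      haveI : Subsingleton (Sylow 7 M) := (Nat.card_eq_one_iff_unique.1 h).1
      rcases (Sylow.normal_of_subsingleton P).eq_bot_or_eq_top with h' | h'
      · rw [h', Subgroup.card_bot] at hP7; omega
      · rw [h', Subgroup.card_top] at hP7; omega
    have h4 : Nat.card (Sylow 7 M) ≤ 24 := Nat.le_of_dvd (by norm_num) h1
    interval_cases (Nat.card (Sylow 7 M)) <;> simp_all
  have hN21 : ∀ Q : Sylow 7 M, Nat.card (Subgroup.normalizer ((Q : Subgroup M) : Set M)) = 21 := by
    intro Q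
    have h := Subgroup.card_mul_index (Subgroup.normalizer ((Q : Subgroup M) : Set M))
    have e : (Subgroup.normalizer ((Q : Subgroup M) : Set M)).index = 8 := by
      rw [← hn8, Q.card_eq_index_normalizer]; rfl
    rw [e, h168] at h
    omega
  -- an outer involution normalizing a Sylow subgroup
  obtain ⟨g, hgN, hgM⟩ : ∃ g ∈ Subgroup.normalizer (((P : Subgroup M).map M.subtype : Subgroup G) : Set G), g ∉ M := by
    by_contra hcon
    push Not at hcon
    have h := Sylow.normalizer_sup_eq_top P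
    rw [sup_eq_right.2 hcon] at h
    rw [h, Subgroup.index_top] at hM2
    omega
  have hg0 : orderOf g ≠ 0 := (orderOf_pos g).ne'
  obtain ⟨a, m, hm, hgo⟩ := Nat.exists_eq_two_pow_mul_odd hg0
  have hgmM : g ^ m ∉ M := by
    intro h
    obtain ⟨r, rfl⟩ := hm
    rw [pow_succ, pow_mul] at h
    exact hgM ((Subgroup.mul_mem_iff_of_index_two hM2).1 h |>.1 (M.pow_mem (pow_two g ▸ Subgroup.mul_self_mem_of_index_two hM2 g) r))
  set u := g ^ m with hudef
  have huN : u ∈ Subgroup.normalizer (((P : Subgroup M).map M.subtype : Subgroup G) : Set G) := pow_mem hgN m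
  have huu : u * u = 1 := by
    set w : M := ⟨u * u, Subgroup.mul_self_mem_of_index_two hM2 u⟩ with hw
    have hwN : w ∈ Subgroup.normalizer ((P : Subgroup M) : Set M) := by
      rw [Subgroup.mem_normalizer_iff]
      intro x
      have h := Subgroup.mem_normalizer_iff.1 (mul_mem huN huN) (x : G)
      rw [Subgroup.mem_map_iff_mem M.subtype_injective (x := x) |>.symm,
        Subgroup.mem_map_iff_mem M.subtype_injective (x := w * x * w⁻¹) |>.symm]
      exact h
    have h21 : w ^ 21 = 1 := by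
      rw [← hN21 P]
      exact congrArg Subtype.val (pow_card_eq_one' (G := Subgroup.normalizer ((P : Subgroup M) : Set M)) (x := ⟨w, hwN⟩))
    have h2a : (w : G) ^ 2 ^ a = 1 := by
      show (g ^ m * g ^ m) ^ 2 ^ a = 1
      rw [← pow_add, ← pow_mul, show (m + m) * 2 ^ a = orderOf g * 2 by rw [hgo]; ring, pow_mul, pow_orderOf_eq_one,
        one_pow]
    have h21' : (w : G) ^ 21 = 1 := congrArg Subtype.val h21
    have hd1 := Nat.dvd_gcd (orderOf_dvd_of_pow_eq_one h2a) (orderOf_dvd_of_pow_eq_one h21')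
    rw [Nat.Coprime.gcd_eq_one (Nat.Coprime.pow_left a (by norm_num : Nat.Coprime 2 21)), Nat.dvd_one,
      orderOf_eq_one_iff] at hd1
    exact hd1
  obtain ⟨h, hh⟩ := houter u huu hgmM
  -- transport
  set Q : Sylow 7 M := (MulAut.conjNormal h : MulAut M) • P with hQdef
  set v := h * u * h⁻¹ with hvdef
  set θ : MulAut M := MulAut.conjNormal v with hθdef
  have hθQ : θ • Q = Q := by
    have huP : (MulAut.conjNormal u : MulAut M) • P = P := by
      refine Sylow.ext ?_
      show (MulAut.conjNormal u : MulAut M) • (P : Subgroup M) = P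
      refine Subgroup.eq_of_le_of_card_ge ?_ (le_of_eq ?_)
      · rintro _ ⟨x, hx, rfl⟩
        have h := (Subgroup.mem_normalizer_iff.1 huN (x : G)).1 ⟨x, hx, rfl⟩
        obtain ⟨w, hw, hwe⟩ := h
        have : MulAut.conjNormal u x = w := Subtype.ext (by rw [MulAut.conjNormal_apply]; exact hwe.symm)
        show MulAut.conjNormal u x ∈ (P : Subgroup M)
        rw [this]; exact hw
      · exact Nat.card_congr (Subgroup.equivSMul _ _).toEquiv
    rw [hθdef, hQdef, hvdef, smul_smul, ← map_mul, show h * u * h⁻¹ * h = h * u by group, map_mul, ← smul_smul, huP]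
  let kM : Equiv.Perm (Fin 4) →* M := k.codRestrict M hkM
  have hfixD : ∀ x, θ (kM (phi x)) = kM (phi x) := by
    intro x
    apply Subtype.ext
    rw [hθdef, MulAut.conjNormal_apply]
    show v * k (phi x) * v⁻¹ = k (phi x)
    rw [mul_inv_eq_iff_eq_mul]
    rcases hh with hh | hh
    · rw [hh, hkt]
    · rw [hh, ← mul_assoc, hkt, mul_assoc, mul_assoc, hkz, hD x]
  let F : DihedralGroup 4 → Sylow 7 M := fun x => kM (phi x) • Q
  have hF : Function.Injective F := by
    intro x y hxy
    have h1 : kM (phi (x⁻¹ * y)) • Q = Q := by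
      rw [map_mul, map_mul, ← smul_smul, show kM (phi y) • Q = kM (phi x) • Q from hxy.symm, smul_smul, map_inv,
        map_inv, inv_mul_cancel, one_smul]
    have h21 : kM (phi (x⁻¹ * y)) ^ 21 = 1 := by
      rw [← hN21 Q]
      exact congrArg Subtype.val (pow_card_eq_one' (G := Subgroup.normalizer ((Q : Subgroup M) : Set M))
        (x := ⟨_, Sylow.smul_eq_iff_mem_normalizer.1 h1⟩))
    have h8 : (x⁻¹ * y) ^ 8 = 1 := by
      have := pow_card_eq_one' (G := DihedralGroup 4) (x := x⁻¹ * y)
      rwa [DihedralGroup.nat_card] at this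
    have h21' : (x⁻¹ * y) ^ 21 = 1 := phi_injective (hki (by
      have := congrArg Subtype.val h21
      rw [← map_pow, ← map_pow] at this
      rw [map_one, map_one]
      exact this))
    have : x⁻¹ * y = 1 := by
      have e : (x⁻¹ * y) ^ (8 * 8) = (x⁻¹ * y) ^ (21 * 3) * (x⁻¹ * y) := by rw [← pow_succ]
      rw [pow_mul, h8, one_pow, pow_mul, h21', one_pow, one_mul] at e
      exact e.symm
    exact inv_mul_eq_one.1 this
  have hFb : Function.Bijective F := (Nat.bijective_iff_injective_and_card F).2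
    ⟨hF, by rw [DihedralGroup.nat_card, hn8]⟩
  have hconj : ∀ (w : M) (R : Sylow 7 M), θ • (w • R) = θ w • (θ • R) := by
    intro w R
    rw [Sylow.smul_def, Sylow.smul_def, smul_smul, smul_smul]
    congr 1
    refine MulEquiv.ext fun r => ?_
    simp
  have hall : ∀ R : Sylow 7 M, θ • R = R := by
    intro R
    obtain ⟨x, rfl⟩ := hFb.2 R
    show θ • (kM (phi x) • Q) = kM (phi x) • Q
    rw [hconj, hfixD, hθQ]
  have hθ1 : ∀ w : M, θ w = w := by
    intro w
    have hker : w⁻¹ * θ w ∈ (MulAction.toPermHom M (Sylow 7 M)).ker := by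
      rw [MonoidHom.mem_ker]
      refine Equiv.Perm.ext fun R => ?_
      show (w⁻¹ * θ w) • R = R
      conv_lhs => arg 2; rw [← hall R]
      rw [← smul_smul, ← hconj, hall, inv_smul_smul]
    rcases (inferInstance : (MulAction.toPermHom M (Sylow 7 M)).ker.Normal).eq_bot_or_eq_top with hb | htp
    · rw [hb, Subgroup.mem_bot, inv_mul_eq_one] at hker
      exact hker.symm
    · exfalso
      have : Subsingleton (Sylow 7 M) := ⟨fun R R' => by
        obtain ⟨g, rfl⟩ := MulAction.exists_smul_eq M R R'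
        have hg : g ∈ (MulAction.toPermHom M (Sylow 7 M)).ker := htp ▸ Subgroup.mem_top g
        exact (Equiv.Perm.congr_fun (MonoidHom.mem_ker.1 hg) R).symm⟩
      rw [Nat.card_of_subsingleton P] at hn8
      omega
  have hvm : ∀ w ∈ M, v * w = w * v := fun w hw => by
    have := congrArg Subtype.val (hθ1 ⟨w, hw⟩)
    rw [hθdef, MulAut.conjNormal_apply] at this
    exact mul_inv_eq_iff_eq_mul.1 this
  rcases hh with hh | hh
  · -- `t` cannot centralize `M`
    rw [hh] at hvm
    refine hM48 ?_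
    have hle : Nat.card M ≤ Nat.card (Equiv.Perm (Fin 4)) := by
      refine Nat.card_le_card_of_injective (fun w : M => (hCM w.1 (hvm w.1 w.2).symm w.2).choose) fun a b hab => ?_
      have ha := (hCM a.1 (hvm a.1 a.2).symm a.2).choose_spec
      have hb := (hCM b.1 (hvm b.1 b.2).symm b.2).choose_spec
      exact Subtype.ext (ha.symm.trans ((congrArg k hab).trans hb))
    rw [Nat.card_perm, Nat.card_fin] at hle
    exact hle.trans (by norm_num [Nat.factorial])
  · rw [hh] at hvm
    obtain ⟨p, hp⟩ := noncentral_z0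
    refine hp (hki ?_)
    rw [map_mul, map_mul]
    have := hvm (k p) (hkM p)
    rw [mul_assoc, ← mul_assoc (k p), hkt, mul_assoc] at this
    exact (mul_left_cancel this).symm

theorem identify (ht : orderOf t = 2)
    (hS : ∃ S : Sylow 2 G, (S : Subgroup G) = syl e)
    (hz : ∀ g : G, g * el e (1, z0) = el e (1, z0) * g ↔ g ∈ syl e)
    (M : Subgroup G) [hMn : M.Normal] (hM2 : M.index = 2) (htM : t ∉ M) :
    Subgroup.centralizer ({t} : Set G) = ⊤ ∨ Nonempty (G ≃* Equiv.Perm (Fin 6)) := by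
  classical
  haveI := Fintype.ofFinite G
  obtain ⟨k, hki, hkM, hks, hkz, hkof⟩ := exists_kap e ht M hM2 htM
  have het := el_t e ht
  have hGM : Nat.card G = 2 * Nat.card M := by rw [← M.card_mul_index, hM2, mul_comm]
  have htt : t * t = 1 := by rw [← pow_two, ← ht]; exact pow_orderOf_eq_one t
  have hkt : ∀ p, k p * t = t * k p := fun p => by
    obtain ⟨s, hs⟩ := hks p
    rw [hs]
    exact Subgroup.mem_centralizer_singleton_iff.1 (el_mem e _)
  have hCM : ∀ g, g * t = t * g → g ∈ M → ∃ p, k p = g := fun g hgt hgM =>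
    ⟨(e ⟨g, Subgroup.mem_centralizer_singleton_iff.2 hgt⟩).2,
      hkof g hgt hgM _ _ (el_eq e (Subgroup.mem_centralizer_singleton_iff.2 hgt)).symm⟩
  set z := el e (1, z0) with hzdef
  have hsyl : ∀ g, g ∈ syl e → g ∈ M → ∃ x, k (phi x) = g := by
    intro g hg hgM
    obtain ⟨⟨s, p⟩, hp, rfl⟩ := hg
    obtain ⟨x, rfl⟩ := (Subgroup.mem_prod.1 hp).2
    exact ⟨x, hkof _ (Subgroup.mem_centralizer_singleton_iff.1 (el_mem e _)) hgM _ _ rfl⟩
  have hksyl : ∀ x, k (phi x) ∈ syl e := fun x => by
    obtain ⟨s, hs⟩ := hks (phi x)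
    rw [hs]
    exact (el_mem_syl e).2 ⟨x, rfl⟩
  let kM : Equiv.Perm (Fin 4) →* M := k.codRestrict M hkM
  let zM : M := kM z0
  have hzM : orderOf zM = 2 := by
    haveI : Fact (Nat.Prime 2) := ⟨Nat.prime_two⟩
    refine orderOf_eq_prime ?_ fun h => r0_facts.2.2.1 (hki ?_)
    · rw [pow_two, ← map_mul, r0_facts.2.2.2.2.1, map_one]
    · rw [map_one]; exact congrArg Subtype.val h
  let f8 : DihedralGroup 4 →* ↥(Subgroup.centralizer ({zM} : Set M)) := (kM.comp phi).codRestrict _ fun x => by
    refine Subgroup.mem_centralizer_singleton_iff.2 (Subtype.ext ?_)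
    show k (phi x) * k z0 = k z0 * k (phi x)
    rw [hkz]
    exact (hz _).2 (hksyl x)
  have hf8 : Function.Bijective f8 := by
    refine ⟨fun x y h => phi_injective (hki (congrArg (fun w => (w.1 : G)) h)), fun w => ?_⟩
    have hw := congrArg Subtype.val (Subgroup.mem_centralizer_singleton_iff.1 w.2)
    rw [Subgroup.coe_mul, Subgroup.coe_mul, show (zM : G) = z from hkz] at hw
    obtain ⟨x, hx⟩ := hsyl (w.1 : G) ((hz _).1 hw) w.1.2
    exact ⟨x, Subtype.ext (Subtype.ext hx)⟩
  let e8 : ↥(Subgroup.centralizer ({zM} : Set M)) ≃* DihedralGroup 4 := (MulEquiv.ofBijective f8 hf8).symm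
  have hCle : Subgroup.centralizer ({t} : Set G) = ⊤ ↔ Nat.card M ≤ 24 := by
    constructor
    · intro h
      have := card_cent e
      rw [h, Subgroup.card_top] at this
      omega
    · intro h
      refine Subgroup.eq_top_of_le_card _ ?_
      rw [card_cent e]; omega
  have hncc : ¬ (∀ m ∈ M, m * t = t * m) ∨ Subgroup.centralizer ({t} : Set G) = ⊤ := by
    refine or_iff_not_imp_left.2 fun h => ?_
    rw [not_not] at h
    rw [eq_top_iff]
    intro g _
    refine Subgroup.mem_centralizer_singleton_iff.2 ?_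
    by_cases hg : g ∈ M
    · exact h g hg
    · have htg : t * g ∈ M := (Subgroup.mul_mem_iff_of_index_two hM2).2 ⟨fun h' => absurd h' htM, fun h' => absurd h' hg⟩
      calc g * t = t * (t * g * t) := by rw [← mul_assoc, ← mul_assoc, htt, one_mul]
        _ = t * (t * (t * g)) := by rw [h _ htg]
        _ = t * g := by rw [← mul_assoc t t, htt, one_mul]
  rcases hncc with hncc | htop
  swap
  · exact Or.inl htop
  have houterAll : IsSimpleGroup M → ¬ Nat.card M ≤ 48 →
      ∀ u : G, u * u = 1 → u ∉ M → ∃ g : G, g * u * g⁻¹ = t ∨ g * u * g⁻¹ = t * k z0 := by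
    intro hs hM48
    haveI := hs
    have hnoidx : ∀ H : Subgroup M, H.index ≠ 2 := by
      intro H hH
      haveI := Subgroup.normal_of_index_eq_two hH
      rcases (inferInstance : H.Normal).eq_bot_or_eq_top with h | h
      · rw [h, Subgroup.index_bot] at hH
        omega
      · rw [h, Subgroup.index_top] at hH
        omega
    -- an element normalizing `⟨z, a'⟩`
    set a' := kM a0 with ha'def
    have ha'2 : orderOf a' = 2 := by
      haveI : Fact (Nat.Prime 2) := ⟨Nat.prime_two⟩
      refine orderOf_eq_prime ?_ fun h => r0_facts.2.2.2.1 (hki ?_)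
      · rw [pow_two, ha'def, ← map_mul, r0_facts.2.2.2.2.2.1, map_one]
      · rw [map_one]; exact congrArg Subtype.val h
    obtain ⟨m, hm⟩ := isConj_iff.1 (DihedralEight.isConj_of_no_index_two hzM e8 hnoidx ha'2)
    set W := Subgroup.centralizer ({a'} : Set M) with hWdef
    have hW8 : Nat.card W = 8 := by
      rw [hWdef, ← hm, card_cent_conj, Nat.card_congr e8.toEquiv, DihedralGroup.nat_card]
    set I := Subgroup.centralizer ({zM} : Set M) ⊓ W with hIdef
    have haz : a' * zM = zM * a' := by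
      rw [ha'def, ← map_mul, ← map_mul, r0_facts.2.2.2.2.2.2]
    have hI : ∀ w : M, w ∈ I ↔ ∃ q, q * a0 = a0 * q ∧ (∃ x, phi x = q) ∧ kM q = w := by
      intro w
      constructor
      · intro hw
        obtain ⟨hwz, hwa⟩ := Subgroup.mem_inf.1 hw
        obtain ⟨x, hx⟩ := hf8.2 ⟨w, hwz⟩
        have hwx : kM (phi x) = w := congrArg Subtype.val hx
        refine ⟨phi x, ?_, ⟨x, rfl⟩, hwx⟩
        refine hki ?_
        have h := congrArg Subtype.val (Subgroup.mem_centralizer_singleton_iff.1 hwa)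
        rw [← hwx] at h
        rw [map_mul, map_mul]
        exact h
      · rintro ⟨q, hq, ⟨x, rfl⟩, rfl⟩
        refine Subgroup.mem_inf.2 ⟨(f8 x).2, Subgroup.mem_centralizer_singleton_iff.2 ?_⟩
        rw [ha'def, ← map_mul, ← map_mul, hq]
    have hfour : ∀ q : Equiv.Perm (Fin 4), (q * a0 = a0 * q ∧ ∃ x, phi x = q) ↔
        q * a0 = a0 * q := by decide
    have hI4 : Nat.card I = 4 := by
      let j : {q : Equiv.Perm (Fin 4) // q * a0 = a0 * q} → I := fun q =>
        ⟨kM q.1, (hI _).2 ⟨q.1, q.2, ((hfour _).2 q.2).2, rfl⟩⟩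
      rw [← Nat.card_congr (Equiv.ofBijective j ⟨fun a b h => Subtype.ext (hki (congrArg (fun w => (w.1 : G)) h)),
        fun w => by
          obtain ⟨q, hq, -, hw⟩ := (hI w.1).1 w.2
          exact ⟨⟨q, hq⟩, Subtype.ext hw⟩⟩), Nat.card_eq_fintype_card, Fintype.card_subtype, card_cent_a0]
    have hIi : (I.subgroupOf W).Normal := by
      refine Subgroup.normal_of_index_eq_two ?_
      have h := Subgroup.card_mul_index (I.subgroupOf W)
      rw [Nat.card_congr (Subgroup.subgroupOfEquivOfLe (inf_le_right : I ≤ W)).toEquiv, hI4, hW8] at h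
      omega
    have hzW : zM ∈ W := Subgroup.mem_centralizer_singleton_iff.2 haz.symm
    obtain ⟨y, hyW, hyz⟩ : ∃ y ∈ W, y * zM ≠ zM * y := by
      by_contra hcon
      push Not at hcon
      have hle : W ≤ I := fun w hw => Subgroup.mem_inf.2 ⟨Subgroup.mem_centralizer_singleton_iff.2 (hcon w hw), hw⟩
      have := Subgroup.card_le_of_le hle
      omega
    have hyI : y * zM * y⁻¹ ∈ I := hIi.conj_mem ⟨zM, hzW⟩
      (Subgroup.mem_subgroupOf.2 (Subgroup.mem_inf.2 ⟨Subgroup.mem_centralizer_singleton_iff.2 rfl, hzW⟩)) ⟨y, hyW⟩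
    have hya : y * a' = a' * y := Subgroup.mem_centralizer_singleton_iff.1 hyW
    have hyaz : y * zM * y⁻¹ = kM (z0 * a0) := by
      obtain ⟨q, hq, -, hqy⟩ := (hI _).1 hyI
      rcases cent_a0 q hq with rfl | rfl | rfl | rfl
      · exfalso
        rw [map_one, eq_comm, mul_inv_eq_one, mul_eq_left] at hqy
        rw [hqy, orderOf_one] at hzM; omega
      · exact absurd (mul_inv_eq_iff_eq_mul.1 hqy.symm) hyz
      · exfalso
        have h : y * zM * y⁻¹ = y * a' * y⁻¹ := by rw [hya, mul_inv_cancel_right, ha'def, ← hqy]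
        have h' : zM = a' := mul_left_cancel (mul_right_cancel h)
        have h'' : z0 = a0 := hki (congrArg Subtype.val h')
        exact absurd h'' (by decide)
      · exact hqy.symm
    set Y : G := (y : G) with hYdef
    have hYz : Y * k z0 * Y⁻¹ = k (z0 * a0) := congrArg Subtype.val hyaz
    have hYa : Y * k a0 * Y⁻¹ = k a0 := by
      have h : Y * k a0 = k a0 * Y := congrArg Subtype.val hya
      rw [h, mul_inv_cancel_right]
    have hYza : Y * k (z0 * a0) * Y⁻¹ = k z0 := by
      rw [map_mul, show Y * (k z0 * k a0) * Y⁻¹ = (Y * k z0 * Y⁻¹) * (Y * k a0 * Y⁻¹) by group, hYz, hYa,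
        ← map_mul, mul_assoc, r0_facts.2.2.2.2.2.1, mul_one]
    -- conjugating `t`
    have hTa : Y * t * Y⁻¹ = t * k a0 := by
      have hconjcomm : ∀ q q', Y * k q * Y⁻¹ = k q' → Commute (Y * t * Y⁻¹) (k q') := fun q q' h => by
        rw [← h]
        show Y * t * Y⁻¹ * (Y * k q * Y⁻¹) = Y * k q * Y⁻¹ * (Y * t * Y⁻¹)
        calc Y * t * Y⁻¹ * (Y * k q * Y⁻¹) = Y * (t * k q) * Y⁻¹ := by group
          _ = _ := by rw [← hkt q]; group
      have hc1 := hconjcomm a0 a0 hYa
      have hc2 := hconjcomm (z0 * a0) z0 hYza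
      have hY2 : Y * t * Y⁻¹ ∈ syl e := (hz _).1 (by rw [← hkz]; exact hc2.eq)
      have hYC : Y * t * Y⁻¹ * t = t * (Y * t * Y⁻¹) := by
        obtain ⟨⟨s, p⟩, -, he⟩ := hY2
        rw [← he]
        exact Subgroup.mem_centralizer_singleton_iff.1 (el_mem e _)
      have hYtM : t * (Y * t * Y⁻¹) ∈ M := by
        rw [show t * (Y * t * Y⁻¹) = (t * Y * t⁻¹) * (t * t) * Y⁻¹ by group, htt, mul_one]
        exact M.mul_mem (hMn.conj_mem _ y.2 t) (M.inv_mem y.2)
      obtain ⟨q, hq⟩ := hCM (t * (Y * t * Y⁻¹)) (by rw [mul_assoc t, hYC]) hYtM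
      have hqa : q * a0 = a0 * q := hki (by
        rw [map_mul, map_mul, hq]
        exact ((show Commute t (k a0) from (hkt a0).symm).mul_left hc1).eq)
      have hYt : Y * t * Y⁻¹ = t * k q := by rw [hq, ← mul_assoc, htt, one_mul]
      have hYY : Y * Y * t = t * (Y * Y) := by
        have hy2 : y * y ∈ I := Subgroup.mem_subgroupOf.1
          (Subgroup.mul_self_mem_of_index_two (H := I.subgroupOf W) (by
            have h := Subgroup.card_mul_index (I.subgroupOf W)
            rw [Nat.card_congr (Subgroup.subgroupOfEquivOfLe (inf_le_right : I ≤ W)).toEquiv, hI4, hW8] at h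
            omega) (⟨y, hyW⟩ : W))
        obtain ⟨q', -, -, hq'⟩ := (hI _).1 hy2
        rw [show Y * Y = k q' from (congrArg Subtype.val hq').symm]
        exact hkt q'
      have hYq : k q * (Y * k q * Y⁻¹) = 1 := by
        have h : t = t * k q * (Y * k q * Y⁻¹) := by
          calc t = Y * Y * t * (Y * Y)⁻¹ := by rw [hYY, mul_inv_cancel_right]
            _ = Y * (Y * t * Y⁻¹) * Y⁻¹ := by group
            _ = Y * (t * k q) * Y⁻¹ := by rw [hYt]
            _ = Y * t * Y⁻¹ * (Y * k q * Y⁻¹) := by group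
            _ = t * k q * (Y * k q * Y⁻¹) := by rw [hYt]
        rw [mul_assoc] at h
        exact mul_eq_left.1 h.symm
      rcases cent_a0 q hqa with rfl | rfl | rfl | rfl
      · exfalso
        rw [map_one, mul_one, mul_inv_eq_iff_eq_mul] at hYt
        obtain ⟨p, hp⟩ := hCM Y hYt y.2
        rw [← hp, ← map_inv, ← map_mul, ← map_mul] at hYz
        exact not_conj_z0_b0 p (hki hYz)
      · exfalso
        rw [hYz, ← map_mul, ← map_one k] at hYq
        exact r0_facts.2.2.2.1 (by
          have := hki hYq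
          rwa [← mul_assoc, r0_facts.2.2.2.2.1, one_mul] at this)
      · exact hYt
      · exfalso
        rw [hYza, ← map_mul, ← map_one k] at hYq
        exact r0_facts.2.2.2.1 (by
          have := hki hYq
          rwa [r0_facts.2.2.2.2.2.2, mul_assoc, r0_facts.2.2.2.2.1, mul_one] at this)
    -- involutions outside `M`
    have houter : ∀ u : G, u * u = 1 → u ∉ M → ∃ g : G, g * u * g⁻¹ = t ∨ g * u * g⁻¹ = t * k z0 := by
      intro u huu huM
      haveI : Fact (Nat.Prime 2) := ⟨Nat.prime_two⟩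
      have hu1 : u ≠ 1 := fun h => huM (h ▸ one_mem M)
      have huo : orderOf u = 2 := orderOf_eq_prime (by rw [pow_two]; exact huu) hu1
      obtain ⟨S, hSe⟩ := hS
      obtain ⟨Q, hQ⟩ := (IsPGroup.of_card (p := 2) (n := 1) (by rw [Nat.card_zpowers, huo]; norm_num) :
        IsPGroup 2 (Subgroup.zpowers u)).exists_le_sylow
      obtain ⟨g, hg⟩ := MulAction.exists_smul_eq G Q S
      have hgu : g * u * g⁻¹ ∈ syl e := by
        rw [← hSe, ← hg, Sylow.coe_subgroup_smul]
        exact ⟨u, hQ (Subgroup.mem_zpowers u), rfl⟩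
      set v := g * u * g⁻¹ with hvdef
      have hvM : v ∉ M := fun h => huM (by
        have := hMn.conj_mem _ h g⁻¹
        rwa [hvdef, show g⁻¹ * (g * u * g⁻¹) * g⁻¹⁻¹ = u by group] at this)
      have hvt : v * t = t * v := by
        obtain ⟨⟨s, p⟩, -, he⟩ := hgu
        rw [← he]
        exact Subgroup.mem_centralizer_singleton_iff.1 (el_mem e _)
      have htv : t * v ∈ M := (Subgroup.mul_mem_iff_of_index_two hM2).2 ⟨fun h' => absurd h' htM, fun h' => absurd h' hvM⟩
      have hts : t ∈ syl e := by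
        have h := (el_mem_syl e (s := Multiplicative.ofAdd 1)).2 ⟨1, map_one phi⟩
        rwa [het] at h
      obtain ⟨x, hx⟩ := hsyl (t * v) ((syl e).mul_mem hts hgu) htv
      have hxx : phi x * phi x = 1 := hki (by
        rw [map_mul, map_one, hx, mul_assoc, ← mul_assoc v, hvt, mul_assoc t v v,
          ← mul_assoc t t, htt, one_mul, hvdef, show g * u * g⁻¹ * (g * u * g⁻¹) = g * (u * u) * g⁻¹ by group,
          huu, mul_one, mul_inv_cancel])
      have hv : v = t * k (phi x) := by rw [hx, ← mul_assoc, htt, one_mul]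
      rcases sq_class x hxx with h | ⟨p, h⟩
      · exact ⟨g, Or.inl (by rw [← hvdef, hv, h, map_one, mul_one])⟩
      have hp : ∀ q, p * phi x * p⁻¹ = q → k p * v * (k p)⁻¹ = t * k q := fun q hq => by
        rw [hv, ← hq, map_mul, map_mul, map_inv, ← mul_assoc, hkt p]
        group
      rcases h with h | h
      · exact ⟨k p * g, Or.inr (by rw [← hp _ h, hvdef]; group)⟩
      · refine ⟨Y⁻¹ * (k p * g), Or.inl ?_⟩
        rw [show Y⁻¹ * (k p * g) * u * (Y⁻¹ * (k p * g))⁻¹ = Y⁻¹ * (k p * (g * u * g⁻¹) * (k p)⁻¹) * Y by group,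
          ← hvdef, hp _ h, ← hTa]
        group
    exact houter
  rcases S3035.result zM hzM ⟨e8⟩ with hsup | h4 | h5 | h7 | h6
  · -- a normal 2-complement is impossible
    exfalso
    obtain ⟨c, v, hc3, hc1, hvc2, hvc1⟩ := three_element
    haveI : (oddCore M).Normal := inferInstance
    have hmem : kM c ∈ Subgroup.centralizer ({zM} : Set M) ⊔ oddCore M := hsup ▸ Subgroup.mem_top _
    obtain ⟨s, hs, o, ho, hso⟩ := Subgroup.mem_sup_of_normal_right.1 hmem
    have hs8 : (s : M) ^ 8 = 1 := by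
      have h := pow_card_eq_one' (G := ↥(Subgroup.centralizer ({zM} : Set M))) (x := ⟨s, hs⟩)
      rw [Nat.card_congr e8.toEquiv, DihedralGroup.nat_card] at h
      exact congrArg Subtype.val h
    set q := QuotientGroup.mk' (oddCore M)
    have hqo : q o = 1 := (QuotientGroup.eq_one_iff o).2 ho
    have hq8 : q (kM c) ^ 8 = 1 := by
      rw [← hso, map_mul, hqo, mul_one, ← map_pow, hs8, map_one]
    have hq3 : q (kM c) ^ 3 = 1 := by rw [← map_pow, ← map_pow, hc3, map_one, map_one]
    have hq1 : q (kM c) = 1 := by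
      have : q (kM c) ^ 9 = 1 := by rw [show 9 = 3 * 3 from rfl, pow_mul, hq3, one_pow]
      rwa [pow_succ, hq8, one_mul] at this
    have hcO : kM c ∈ oddCore M := (QuotientGroup.eq_one_iff _).1 hq1
    have hwO : kM (v * c * v⁻¹ * c⁻¹) ∈ oddCore M := by
      rw [map_mul, map_mul, map_mul, map_inv, map_inv]
      exact mul_mem ((inferInstance : (oddCore M).Normal).conj_mem _ hcO _) (inv_mem hcO)
    haveI : Fact (Nat.Prime 2) := ⟨Nat.prime_two⟩
    have ho2 : orderOf (kM (v * c * v⁻¹ * c⁻¹)) = 2 := orderOf_eq_prime (by rw [← map_pow, hvc2, map_one])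
      fun h => hvc1 (hki (by rw [map_one]; exact congrArg Subtype.val h))
    have hd := Subgroup.orderOf_dvd_natCard (oddCore M) hwO
    rw [ho2] at hd
    exact (Nat.not_even_iff_odd.2 (Blocks.odd_card_oddCore M)) (even_iff_two_dvd.2 hd)
  · left
    obtain ⟨i⟩ := h4
    rw [hCle, Nat.card_congr i.toEquiv, Nat.card_perm, Nat.card_fin]
    rfl
  · -- degree five
    exfalso
    obtain ⟨i⟩ := h5
    have hM120 : Nat.card M = 120 := by
      rw [Nat.card_congr i.toEquiv, Nat.card_perm, Nat.card_fin]; rfl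
    set Nc := (Subgroup.centralizer ({t} : Set G)).normalCore with hNc
    have hNC : Nc ≤ Subgroup.centralizer ({t} : Set G) := Subgroup.normalCore_le _
    have h1 : ∀ p, k p ∈ Nc → p = 1 := by
      intro p hp
      by_contra hp1
      obtain ⟨g, h, hgh⟩ := normal_contains p hp1
      have hzN : k z0 ∈ Nc := by
        rw [← hgh, map_mul, map_mul, map_mul, map_inv, map_inv, map_mul, map_mul, map_inv]
        exact Nc.mul_mem ((inferInstance : Nc.Normal).conj_mem _ hp _)
          (Nc.inv_mem ((inferInstance : Nc.Normal).conj_mem _ hp _))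
      have hq : ∀ m : M, ∃ q : {q : Equiv.Perm (Fin 4) // q * q = 1 ∧ q ≠ 1},
          k q.1 = (m : G) * k z0 * (m : G)⁻¹ := by
        intro m
        obtain ⟨q, hq⟩ := hCM _ (Subgroup.mem_centralizer_singleton_iff.1 (hNC ((inferInstance : Nc.Normal).conj_mem _ hzN m)))
          (M.mul_mem (M.mul_mem m.2 (hkM _)) (M.inv_mem m.2))
        refine ⟨⟨q, ?_, fun h => ?_⟩, hq⟩
        · refine hki ?_
          rw [map_mul, map_one, hq, show (m : G) * k z0 * (m : G)⁻¹ * ((m : G) * k z0 * (m : G)⁻¹) =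
            (m : G) * (k z0 * k z0) * (m : G)⁻¹ by group, ← map_mul, r0_facts.2.2.2.2.1, map_one, mul_one,
            mul_inv_cancel]
        · rw [h, map_one, eq_comm, mul_inv_eq_one, mul_eq_left, ← map_one k] at hq
          exact r0_facts.2.2.1 (hki hq)
      choose F hF using hq
      let Φ : ↥M ⧸ Subgroup.centralizer ({zM} : Set M) → {q : Equiv.Perm (Fin 4) // q * q = 1 ∧ q ≠ 1} :=
        fun x => F x.out
      have hΦ : Function.Injective Φ := by
        intro a b hab
        rw [← Quotient.out_eq a, ← Quotient.out_eq b]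
        refine Quotient.sound (QuotientGroup.leftRel_apply.2 ?_)
        have h' : (a.out : G) * k z0 * (a.out : G)⁻¹ = (b.out : G) * k z0 * (b.out : G)⁻¹ := by
          rw [← hF, ← hF]; exact congrArg (fun w => k w.1) hab
        refine Subgroup.mem_centralizer_singleton_iff.2 (Subtype.ext ?_)
        show (a.out : G)⁻¹ * (b.out : G) * k z0 = k z0 * ((a.out : G)⁻¹ * (b.out : G))
        calc (a.out : G)⁻¹ * (b.out : G) * k z0
            = (a.out : G)⁻¹ * ((b.out : G) * k z0 * (b.out : G)⁻¹) * (b.out : G) := by group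
          _ = k z0 * ((a.out : G)⁻¹ * (b.out : G)) := by rw [← h']; group
      have h := Nat.card_le_card_of_injective Φ hΦ
      rw [Nat.card_eq_fintype_card (α := {q : Equiv.Perm (Fin 4) // q * q = 1 ∧ q ≠ 1}), Fintype.card_subtype,
        phi_count, ← Subgroup.index_eq_card] at h
      have h8 := Subgroup.card_mul_index (Subgroup.centralizer ({zM} : Set M))
      rw [Nat.card_congr e8.toEquiv, DihedralGroup.nat_card, hM120] at h8
      omega
    have hbot : Nc = ⊥ := by
      rw [eq_bot_iff]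
      intro n hn
      rw [Subgroup.mem_bot]
      have hnt := Subgroup.mem_centralizer_singleton_iff.1 (hNC hn)
      have hinf : ∀ g ∈ M, g ∈ Nc → g = 1 := fun g hgM hgN => by
        obtain ⟨p, rfl⟩ := hCM g (Subgroup.mem_centralizer_singleton_iff.1 (hNC hgN)) hgM
        rw [h1 p hgN, map_one]
      by_cases hnM : n ∈ M
      · exact hinf n hnM hn
      exfalso
      have hcom : ∀ m ∈ M, n * m = m * n := fun m hm => by
        have hN : n * m * n⁻¹ * m⁻¹ ∈ Nc := by
          rw [mul_assoc n m, mul_assoc n]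
          exact Nc.mul_mem hn ((inferInstance : Nc.Normal).conj_mem _ (Nc.inv_mem hn) m)
        have hMm : n * m * n⁻¹ * m⁻¹ ∈ M := M.mul_mem (hMn.conj_mem m hm n) (M.inv_mem hm)
        have := hinf _ hMm hN
        rwa [mul_inv_eq_one, mul_inv_eq_iff_eq_mul] at this
      have htn : t * n ∈ M := (Subgroup.mul_mem_iff_of_index_two hM2).2 ⟨fun h' => absurd h' htM, fun h' => absurd h' hnM⟩
      obtain ⟨p, hp⟩ := hCM (t * n) (by rw [mul_assoc, hnt]) htn
      have hp1 : p = 1 := by
        refine center_trivial p fun q => hki ?_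
        rw [map_mul, map_mul, hp, ← mul_assoc, mul_assoc t n, hcom _ (hkM q), ← mul_assoc, hkt q]
      rw [hp1, map_one] at hp
      refine hncc fun m hm => ?_
      have hnn : n = t := by
        rw [← inv_eq_of_mul_eq_one_right hp.symm]
        exact inv_eq_of_mul_eq_one_right htt
      rw [hnn] at hcom
      exact (hcom m hm).symm
    have hker := Subgroup.normalCore_eq_ker (Subgroup.centralizer ({t} : Set G))
    rw [← hNc, hbot] at hker
    have hle := Nat.card_le_card_of_injective _ ((MonoidHom.ker_eq_bot_iff _).1 hker.symm)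
    have hidx := Subgroup.card_mul_index (Subgroup.centralizer ({t} : Set G))
    rw [card_cent e, hGM, hM120] at hidx
    rw [Nat.card_perm, ← Subgroup.index_eq_card, show (Subgroup.centralizer ({t} : Set G)).index = 5 by omega,
      hGM, hM120] at hle
    norm_num [Nat.factorial] at hle
  · -- `SL₃(2)`
    obtain ⟨i⟩ := h7
    exfalso
    haveI : Fact (Nat.Prime 7) := ⟨by norm_num⟩
    obtain ⟨b⟩ := Linear.PSL2_seven_iso (F := ZMod 7) (K := ZMod 2) (ZMod.card 7) (ZMod.card 2)
    haveI := Linear.psl_simple_finite (F := ZMod 7) 2 le_rfl (by simp [ZMod.card])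
    have hzc : Subgroup.center (Matrix.SpecialLinearGroup (Fin 3) (ZMod 2)) = ⊥ := by
      rw [← Subgroup.card_eq_one, Linear.card_center_SL]
      rfl
    let j : M ≃* Matrix.ProjectiveSpecialLinearGroup (Fin 2) (ZMod 7) :=
      i.trans (((b.trans ((QuotientGroup.quotientMulEquivOfEq hzc).trans QuotientGroup.quotientBot))).symm)
    haveI : IsSimpleGroup M := j.isSimpleGroup
    have h168 : Nat.card M = 168 := by
      rw [Nat.card_congr j.toEquiv]
      have h := Linear.card_PSL_two (F := ZMod 7)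
      rw [ZMod.card, show Nat.gcd 2 (7 - 1) = 2 from rfl] at h
      omega
    have hM48 : ¬ Nat.card M ≤ 48 := by omega
    exact sevenCase h168 hM2 hM48 k hki hkM hkt hkz hCM (houterAll inferInstance hM48) fun x => (hz _).2 (hksyl x)
  · -- `A₆`
    obtain ⟨i⟩ := h6
    exact Or.inr (sixCase e i hM2 htM htt k hki hkM hkt hkz hCM hncc hz)

end Local

end Cfsg.Agent.Screen.CTwoSFour
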