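import Cfsg.Agent.Suzuki.AutAlternating

/-!
# Automorphisms of an alternating group preserving the three-cycles are induced by permutations
(variant of `Suzuki.AutAlternating` without the exclusion of degree six)
-/

set_option autoImplicit false

namespace Cfsg.Agent.Screen.AutAltSix

open Cfsg.Agent.Suzuki.AutAlt Equiv Equiv.Perm

theorem conjNormal_injective_and_onto (n : ℕ) (hn : 4 ≤ n) :
    Function.Injective (MulAut.conjNormal : Perm (Fin n) →* MulAut (alternatingGroup (Fin n))) ∧
      ∀ θ : MulAut (alternatingGroup (Fin n)),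
        (∀ x : alternatingGroup (Fin n), (x : Perm (Fin n)).IsThreeCycle →
          ((θ x : alternatingGroup (Fin n)) : Perm (Fin n)).IsThreeCycle) →
        ∃ g : Perm (Fin n), MulAut.conjNormal g = θ := by
  classical
  constructor
  · rw [injective_iff_map_eq_one]
    intro g hg
    by_contra hg1
    obtain ⟨a, ha⟩ : ∃ a, g a ≠ a := by
      by_contra! hno
      exact hg1 (Equiv.ext hno)
    obtain ⟨b, c, hb, hc, hbc⟩ : ∃ b c : Fin n, (b ≠ a ∧ b ≠ g a) ∧ (c ≠ a ∧ c ≠ g a) ∧ b ≠ c := by
      have hcard : 2 ≤ (Finset.univ \ {a, g a} : Finset (Fin n)).card := by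
        rw [Finset.card_univ_sdiff, Fintype.card_fin, Finset.card_pair ha.symm]; omega
      obtain ⟨b, hb, c, hc, hbc⟩ := Finset.one_lt_card.1 hcard
      simp only [Finset.mem_sdiff, Finset.mem_univ, true_and, Finset.mem_insert, Finset.mem_singleton,
        not_or] at hb hc
      exact ⟨b, c, hb, hc, hbc⟩
    have hmem := (cyc_three hb.1.symm hc.1.symm hbc).mem_alternatingGroup
    have e : g * cyc a b c * g⁻¹ = cyc a b c := by
      have := congrArg Subtype.val (DFunLike.congr_fun hg (⟨_, hmem⟩ : alternatingGroup (Fin n)))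
      rwa [MulAut.conjNormal_apply] at this
    have h1 := Equiv.Perm.congr_fun e (g a)
    rw [Equiv.Perm.mul_apply, Equiv.Perm.mul_apply, show g⁻¹ (g a) = a from Equiv.symm_apply_apply g a,
      cyc_a hb.1.symm hbc, cyc_other ha hb.2.symm hc.2.symm] at h1
    exact hb.1 (g.injective h1)
  intro θ hθ
  obtain ⟨z, o, hzo⟩ : ∃ z o : Fin n, z ≠ o := ⟨⟨0, by omega⟩, ⟨1, by omega⟩, by simp [Fin.ext_iff]⟩
  let I := {i : Fin n // i ≠ z ∧ i ≠ o}
  let X : I → alternatingGroup (Fin n) := fun i =>
    ⟨cyc z o i.1, (cyc_three hzo i.2.1.symm i.2.2.symm).mem_alternatingGroup⟩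
  let Y : I → Perm (Fin n) := fun i => (θ (X i) : alternatingGroup (Fin n))
  have hY : ∀ i, (Y i).IsThreeCycle := fun i =>
    hθ (X i) (cyc_three hzo i.2.1.symm i.2.2.symm)
  have hYinj : Function.Injective Y := fun i i' e => by
    have e1 : X i = X i' := θ.injective (Subtype.ext e)
    have e2 := Equiv.Perm.congr_fun (congrArg Subtype.val e1) o
    simp only [X, cyc_b] at e2
    exact Subtype.ext e2
  have hedge : ∀ i i' : I, i ≠ i' → ∃ u, Y i u ≠ u ∧ Y i' u = Y i u := by
    intro i i' hne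
    refine common_edge (hY i) (hY i') ?_ ?_
    · have e : X i' * X i * X i' = (X i)⁻¹ := Subtype.ext
        (cyc_rel hzo i.2.1.symm i.2.2.symm i'.2.1.symm i'.2.2.symm fun e => hne (Subtype.ext e))
      have := congrArg (fun w => ((θ w : alternatingGroup (Fin n)) : Perm (Fin n))) e
      simpa [Y] using this
    · intro e
      have e1 : X i' = (X i)⁻¹ := θ.injective (by rw [map_inv]; exact Subtype.ext e)
      have e2 := Equiv.Perm.congr_fun (congrArg Subtype.val e1) z
      simp only [X, Subgroup.coe_inv, Equiv.Perm.inv_def] at e2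
      rw [cyc_a hzo i'.2.2.symm, eq_comm, Equiv.symm_apply_eq, cyc_b] at e2
      exact i.2.1 e2.symm
  obtain ⟨i0, i1, h01⟩ : ∃ i0 i1 : I, i0 ≠ i1 := by
    have hcard : 2 ≤ (Finset.univ \ {z, o} : Finset (Fin n)).card := by
      rw [Finset.card_univ_sdiff, Fintype.card_fin, Finset.card_pair hzo]; omega
    obtain ⟨b, hb, c, hc, hbc⟩ := Finset.one_lt_card.1 hcard
    simp only [Finset.mem_sdiff, Finset.mem_univ, true_and, Finset.mem_insert, Finset.mem_singleton,
      not_or] at hb hc
    exact ⟨⟨b, hb⟩, ⟨c, hc⟩, fun e => hbc (congrArg Subtype.val e)⟩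
  obtain ⟨a, ha, ha1⟩ := hedge i0 i1 h01
  set b := Y i0 a with hbdef
  have hab : a ≠ b := ha.symm
  -- every image passes through the edge
  have hall : ∀ i, Y i a = b := by
    intro i
    by_cases hi0 : i = i0
    · rw [hi0]
    by_cases hi1 : i = i1
    · rw [hi1, ha1]
    obtain ⟨u, hu, hu'⟩ := hedge i0 i (Ne.symm hi0)
    obtain ⟨w, hw, hw'⟩ := hedge i1 i (Ne.symm hi1)
    by_contra hne
    obtain ⟨-, hac, hbc⟩ := ne_two (hY i0) ha
    obtain ⟨-, had, hbd⟩ := ne_two (hY i1) (show Y i1 a ≠ a by rw [ha1]; exact ha)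
    rw [ha1] at had hbd
    rw [← hbdef] at hac hbc
    set c := Y i0 b with hcdef
    set d := Y i1 b with hddef
    have f0 : Y i0 = cyc a b c := eq_cyc (hY i0) ha
    have f1 : Y i1 = cyc a b d := by
      have := eq_cyc (hY i1) (show Y i1 a ≠ a by rw [ha1]; exact ha)
      rwa [ha1] at this
    have hcd : c ≠ d := fun e => h01 (hYinj (by rw [f0, f1, e]))
    have hu3 : u = b ∨ u = c := by
      by_contra! hc'
      by_cases e : u = a
      · exact hne (by rw [← e, hu', e, ← hbdef])
      · exact hu (by rw [f0]; exact cyc_other e hc'.1 hc'.2)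
    have hw3 : w = b ∨ w = d := by
      by_contra! hc'
      by_cases e : w = a
      · exact hne (by rw [← e, hw', e, ha1])
      · exact hw (by rw [f1]; exact cyc_other e hc'.1 hc'.2)
    have hca : Y i0 c = a := by rw [f0]; exact cyc_x hac hbc
    have hda : Y i1 d = a := by rw [f1]; exact cyc_x had hbd
    rcases hu3 with rfl | rfl <;> rcases hw3 with rfl | rfl
    · exact hcd (hu'.symm.trans hw')
    · rw [hda] at hw'
      rw [← hcdef] at hu'
      have h2 : Y i (Y i d) ≠ d := (ne_two (hY i) (show Y i d ≠ d by rw [hw']; exact had)).2.1.symm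
      have h3 := cube_apply (hY i) b
      rw [hu'] at h3
      -- the cycle of `b` and that of `d`
      have hf := eq_cyc (hY i) (show Y i b ≠ b by rw [hu']; exact hbc.symm)
      have hd' : Y i d ≠ d := by rw [hw']; exact had
      rw [hf, hu'] at hd'
      by_cases e1 : d = Y i c
      · rw [← e1, hw'] at h3
        exact hab h3
      · exact hd' (cyc_other hbd.symm hcd.symm e1)
    · rw [hca] at hu'
      rw [← hddef] at hw'
      have h3 := cube_apply (hY i) b
      rw [hw'] at h3
      have hf := eq_cyc (hY i) (show Y i b ≠ b by rw [hw']; exact hbd.symm)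
      have hd' : Y i c ≠ c := by rw [hu']; exact hac
      rw [hf, hw'] at hd'
      by_cases e1 : c = Y i d
      · rw [← e1, hu'] at h3
        exact hab h3
      · exact hd' (cyc_other hbc.symm hcd e1)
    · rw [hca] at hu'
      rw [hda] at hw'
      exact hcd ((Y i).injective (hu'.trans hw'.symm))
  -- the permutation
  let f : Fin n → Fin n := fun k => if hk : k ≠ z ∧ k ≠ o then Y ⟨k, hk⟩ b else if k = z then a else b
  have hYne : ∀ i, Y i b ≠ a ∧ Y i b ≠ b := fun i => by
    obtain ⟨-, h2, h3⟩ := ne_two (hY i) (show Y i a ≠ a by rw [hall i]; exact ha)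
    rw [hall i] at h2 h3
    exact ⟨h2.symm, h3.symm⟩
  have hYe : ∀ i, Y i = cyc a b (Y i b) := fun i => by
    have := eq_cyc (hY i) (show Y i a ≠ a by rw [hall i]; exact ha)
    rwa [hall i] at this
  have hf : Function.Injective f := by
    intro k l e
    simp only [f] at e
    by_cases hk : k ≠ z ∧ k ≠ o <;> by_cases hl : l ≠ z ∧ l ≠ o
    · rw [dif_pos hk, dif_pos hl] at e
      exact congrArg Subtype.val (hYinj ((hYe ⟨k, hk⟩).trans (e ▸ (hYe ⟨l, hl⟩).symm)))
    · rw [dif_pos hk, dif_neg hl] at e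
      split_ifs at e
      exacts [absurd e (hYne _).1, absurd e (hYne _).2]
    · rw [dif_neg hk, dif_pos hl] at e
      split_ifs at e
      exacts [absurd e.symm (hYne _).1, absurd e.symm (hYne _).2]
    · rw [dif_neg hk, dif_neg hl] at e
      push Not at hk hl
      split_ifs at e with h1 h2 h2
      · exact h1.trans h2.symm
      · exact absurd e hab
      · exact absurd e.symm hab
      · exact (hk h1).trans (hl h2).symm
  let g : Perm (Fin n) := Equiv.ofBijective f (Finite.injective_iff_bijective.1 hf)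
  refine ⟨g, ?_⟩
  have hgX : ∀ i, MulAut.conjNormal g (X i) = θ (X i) := fun i => Subtype.ext (by
    rw [MulAut.conjNormal_apply]
    show g * cyc z o i.1 * g⁻¹ = Y i
    rw [conj_cyc, hYe i]
    have e1 : g z = a := by simp [g, f]
    have e2 : g o = b := by simp [g, f, hzo.symm]
    have e3 : g i.1 = Y i b := dif_pos i.2
    rw [e1, e2, e3])
  -- generation
  let K : Subgroup (Perm (Fin n)) :=
    ((MulAut.conjNormal g : MulAut (alternatingGroup (Fin n))).toMonoidHom.eqLocus θ.toMonoidHom).map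
      (alternatingGroup (Fin n)).subtype
  have hgen : ∀ k, k ≠ z → k ≠ o → cyc z o k ∈ K := fun k h1 h2 => ⟨X ⟨k, h1, h2⟩, hgX _, rfl⟩
  have hz1j : ∀ i j, i ≠ z → i ≠ o → j ≠ z → j ≠ o → i ≠ j → cyc o i j ∈ K := by
    intro i j h1 h2 h3 h4 hij
    have := K.mul_mem (K.mul_mem (hgen i h1 h2) (hgen j h3 h4)) (K.inv_mem (hgen i h1 h2))
    rwa [conj_cyc, cyc_a hzo h2.symm, cyc_b, cyc_other h3 h4 hij.symm] at this
  have hzij : ∀ i j, i ≠ z → i ≠ o → j ≠ z → j ≠ o → i ≠ j → cyc i z j ∈ K := by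
    intro i j h1 h2 h3 h4 hij
    have hi := hgen i h1 h2
    have := K.mul_mem (K.mul_mem (K.inv_mem hi) (hgen j h3 h4)) (K.inv_mem (K.inv_mem hi))
    have e1 : (cyc z o i)⁻¹ z = i := by
      rw [Equiv.Perm.inv_def, Equiv.symm_apply_eq, cyc_x h1.symm h2.symm]
    have e2 : (cyc z o i)⁻¹ o = z := by
      rw [Equiv.Perm.inv_def, Equiv.symm_apply_eq, cyc_a hzo h2.symm]
    have e3 : (cyc z o i)⁻¹ j = j := by
      rw [Equiv.Perm.inv_def, Equiv.symm_apply_eq, cyc_other h3 h4 hij.symm]
    rwa [conj_cyc, e1, e2, e3] at this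
  have hrot : ∀ p q r : Fin n, p ≠ q → p ≠ r → q ≠ r → cyc p q r = cyc q r p := by
    intro p q r h1 h2 h3
    have := eq_cyc (cyc_three h1 h2 h3) (a := q) (by rw [cyc_b]; exact h3.symm)
    rwa [cyc_b, cyc_x h2 h3] at this
  have hinv : ∀ p q r : Fin n, p ≠ q → p ≠ r → q ≠ r → (cyc p q r)⁻¹ = cyc p r q := by
    intro p q r h1 h2 h3
    have := eq_cyc (cyc_three h1 h2 h3).inv (a := p) (by
      rw [Equiv.Perm.inv_def, ne_eq, Equiv.symm_apply_eq, cyc_a h1 h3]; exact h1)
    rw [show (cyc p q r)⁻¹ p = r by rw [Equiv.Perm.inv_def, Equiv.symm_apply_eq, cyc_x h2 h3],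
      show (cyc p q r)⁻¹ r = q by rw [Equiv.Perm.inv_def, Equiv.symm_apply_eq, cyc_b]] at this
    exact this
  have hz_all : ∀ q r, q ≠ z → r ≠ z → q ≠ r → cyc z q r ∈ K := by
    intro q r hq hr hqr
    by_cases hqo : q = o
    · subst hqo; exact hgen r hr hqr.symm
    by_cases hro : r = o
    · subst hro
      rw [← hinv z r q hr.symm hq.symm hqr.symm]
      exact K.inv_mem (hgen q hq hqo)
    rw [← hrot r z q hr hqr.symm hq.symm]
    exact hzij r q hr hro hq hqo hqr.symm
  have hcycK : ∀ p q r : Fin n, p ≠ q → p ≠ r → q ≠ r → cyc p q r ∈ K := by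
    intro p q r h1 h2 h3
    by_cases hp : p = z
    · subst hp; exact hz_all q r h1.symm h2.symm h3
    by_cases hq : q = z
    · subst hq; rw [hrot p q r h1 h2 h3]; exact hz_all r p h3.symm hp h2.symm
    by_cases hr : r = z
    · subst hr; rw [← hrot r p q h2.symm h3.symm h1]; exact hz_all p q hp hq h1
    by_cases hp1 : p = o
    · subst hp1; exact hz1j q r hq h1.symm hr h2.symm h3
    by_cases hq1 : q = o
    · subst hq1; rw [hrot p q r h1 h2 h3]; exact hz1j r p hr h3.symm hp h1 h2.symm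
    by_cases hr1 : r = o
    · subst hr1; rw [← hrot r p q h2.symm h3.symm h1]; exact hz1j p q hp h2 hq h3 h1
    -- move `z` to `p`
    have hc : cyc z p o ∈ K := hz_all p o hp hzo.symm hp1
    have := K.mul_mem (K.mul_mem hc (hz_all q r hq hr h3)) (K.inv_mem hc)
    rwa [conj_cyc, cyc_a (Ne.symm hp) hp1, cyc_other hq h1.symm hq1, cyc_other hr h2.symm hr1] at this
  have hle : alternatingGroup (Fin n) ≤ K := by
    rw [← closure_three_cycles_eq_alternating, Subgroup.closure_le]
    intro f hf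
    obtain ⟨p, hp⟩ : ∃ p, f p ≠ p := by
      by_contra! hno
      have h1 : f = 1 := Equiv.ext hno
      rw [Set.mem_setOf_eq, h1] at hf
      exact absurd hf.orderOf (by simp)
    obtain ⟨h1, h2, h3⟩ := ne_two hf hp
    rw [eq_cyc hf hp]
    exact hcycK _ _ _ h1 h2 h3
  refine MulEquiv.ext fun w => ?_
  obtain ⟨w', hw', e⟩ := hle w.2
  obtain rfl : w' = w := Subtype.ext e
  exact hw'

end Cfsg.Agent.Screen.AutAltSix
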