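import Cfsg.Prelude
import Cfsg.Agent.S0111
import Cfsg.Agent.S3035
import Cfsg.Agent.Screen.AutAltSix

/-!
# A 2-central involution with centralizer `Z₂ × S₄`
-/

set_option autoImplicit false
set_option maxRecDepth 100000
set_option maxHeartbeats 1000000
open Cfsg Equiv

namespace Cfsg.Agent.Screen.CTwoSFour

/-- A four-cycle. -/
def r0 : Perm (Fin 4) := swap 0 1 * swap 1 2 * swap 2 3
/-- A transposition inverting it. -/
def a0 : Perm (Fin 4) := swap 0 2
/-- Its square. -/
def z0 : Perm (Fin 4) := r0 * r0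

/-- The dihedral group inside the symmetric group. -/
def phi : DihedralGroup 4 →* Perm (Fin 4) where
  toFun x := match x with
    | .r i => r0 ^ i.val
    | .sr i => a0 * r0 ^ i.val
  map_one' := by decide
  map_mul' := by decide

theorem phi_injective : Function.Injective phi := by
  unfold Function.Injective; decide

theorem cent_z0 : ∀ p : Perm (Fin 4), p * z0 = z0 * p ↔ ∃ x, phi x = p := by decide

theorem comm_mem : ∀ x y : DihedralGroup 4,
    phi x * phi y * (phi x)⁻¹ * (phi y)⁻¹ = 1 ∨ phi x * phi y * (phi x)⁻¹ * (phi y)⁻¹ = z0 := by decide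

theorem center_trivial : ∀ p : Perm (Fin 4), (∀ q, p * q = q * p) → p = 1 := by decide

theorem sq_class : ∀ x : DihedralGroup 4, phi x * phi x = 1 →
    phi x = 1 ∨ ∃ p : Perm (Fin 4), p * phi x * p⁻¹ = z0 ∨ p * phi x * p⁻¹ = a0 := by decide

theorem cent_a0 : ∀ p : Perm (Fin 4), p * a0 = a0 * p →
    p = 1 ∨ p = z0 ∨ p = a0 ∨ p = z0 * a0 := by decide

theorem card_cent_a0 :
    (Finset.univ.filter fun p : Perm (Fin 4) => p * a0 = a0 * p).card = 4 := by decide

theorem not_conj_z0_b0 : ∀ p : Perm (Fin 4), p * z0 * p⁻¹ ≠ z0 * a0 := by decide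

theorem normal_contains : ∀ x : Perm (Fin 4), x ≠ 1 →
    ∃ g h : Perm (Fin 4), g * x * g⁻¹ * (h * x * h⁻¹)⁻¹ = z0 := by decide

theorem conj_z0 : ∀ p : Perm (Fin 4), p * z0 * p⁻¹ * z0 = z0 * (p * z0 * p⁻¹) := by decide

theorem three_element : ∃ c v : Perm (Fin 4), c ^ 3 = 1 ∧ c ≠ 1 ∧
    (v * c * v⁻¹ * c⁻¹) ^ 2 = 1 ∧ v * c * v⁻¹ * c⁻¹ ≠ 1 :=
  ⟨swap 0 1 * swap 1 2, swap 0 1 * swap 2 3, by decide, by decide, by decide, by decide⟩

local notation "C₂" => Multiplicative (ZMod 2)

theorem two_cases : ∀ x : C₂, x = 1 ∨ x = Multiplicative.ofAdd 1 := by decide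

theorem one_ne : (1 : C₂) ≠ Multiplicative.ofAdd 1 := by decide

theorem two_sq : ∀ x : C₂, x * x = 1 := by decide

section Local

variable {G : Type*} [Group G] [Finite G] {t : G}

variable (e : ↥(Subgroup.centralizer ({t} : Set G)) ≃* (Multiplicative (ZMod 2) × Equiv.Perm (Fin 4)))

/-- Elements of the centralizer by coordinates. -/
def el : (Multiplicative (ZMod 2) × Equiv.Perm (Fin 4)) →* G :=
  (Subgroup.centralizer ({t} : Set G)).subtype.comp e.symm.toMonoidHom

theorem el_injective : Function.Injective (el e) :=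
  (Subgroup.subtype_injective _).comp e.symm.injective

theorem el_mem (x : Multiplicative (ZMod 2) × Equiv.Perm (Fin 4)) : el e x ∈ Subgroup.centralizer ({t} : Set G) :=
  (e.symm x).2

theorem el_eq {g : G} (hg : g ∈ Subgroup.centralizer ({t} : Set G)) : el e (e ⟨g, hg⟩) = g := by
  show ((e.symm (e ⟨g, hg⟩) : ↥(Subgroup.centralizer ({t} : Set G))) : G) = g
  rw [e.symm_apply_apply]

theorem el_t (ht : orderOf t = 2) : el e (Multiplicative.ofAdd 1, 1) = t := by
  set ct : ↥(Subgroup.centralizer ({t} : Set G)) := ⟨t, Subgroup.mem_centralizer_singleton_iff.2 rfl⟩ with hct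
  have h2 : (e ct).2 = 1 := by
    refine center_trivial _ fun q => ?_
    have h : e ct * (1, q) = (1, q) * e ct := by
      rw [← e.apply_symm_apply (1, q), ← map_mul, ← map_mul]
      exact congrArg e (Subtype.ext (Subgroup.mem_centralizer_singleton_iff.1 (e.symm (1, q)).2).symm)
    exact congrArg Prod.snd h
  have h1 : (e ct).1 = Multiplicative.ofAdd 1 := by
    refine (two_cases _).resolve_left fun h => ?_
    have h' : e ct = 1 := Prod.ext h h2
    have : (t : G) = 1 := congrArg Subtype.val (e.map_eq_one_iff.1 h')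
    rw [this, orderOf_one] at ht
    omega
  rw [show ((Multiplicative.ofAdd 1, 1) : Multiplicative (ZMod 2) × Equiv.Perm (Fin 4)) = e ct from
    Prod.ext h1.symm h2.symm]
  exact el_eq e _

/-- The Sylow 2-subgroup of the centralizer. -/
def syl : Subgroup G := ((⊤ : Subgroup (Multiplicative (ZMod 2))).prod phi.range).map (el e)

theorem el_mem_syl {s : Multiplicative (ZMod 2)} {p : Equiv.Perm (Fin 4)} :
    el e (s, p) ∈ syl e ↔ ∃ x, phi x = p := by
  rw [syl, Subgroup.mem_map_iff_mem (el_injective e), Subgroup.mem_prod]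
  simp

theorem card_syl : Nat.card (syl e) = 16 := by
  rw [syl, Subgroup.card_map_of_injective (el_injective e), Nat.card_congr (Subgroup.prodEquiv _ _).toEquiv,
    Nat.card_prod, Subgroup.card_top, Nat.card_congr (MonoidHom.ofInjective phi_injective).symm.toEquiv,
    DihedralGroup.nat_card, Nat.card_eq_fintype_card]
  rfl

include e in
theorem card_cent : Nat.card ↥(Subgroup.centralizer ({t} : Set G)) = 48 := by
  rw [Nat.card_congr e.toEquiv, Nat.card_prod, Nat.card_perm, Nat.card_fin, Nat.card_eq_fintype_card]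
  rfl

/-- The Sylow statement and the centralizer of `z`. -/
theorem setup (ht : orderOf t = 2) (T : Sylow 2 G) (htT : t ∈ (T : Subgroup G))
    (htc : ∀ s ∈ (T : Subgroup G), s * t = t * s)
    (h2 : ∀ S : Sylow 2 G, Subgroup.centralizer ((⁅(S : Subgroup G), (S : Subgroup G)⁆ : Subgroup G) : Set G) = (S : Subgroup G)) :
    (∃ S : Sylow 2 G, (S : Subgroup G) = syl e) ∧
      ∀ g : G, g * el e (1, z0) = el e (1, z0) * g ↔ g ∈ syl e := by
  haveI : Fact (Nat.Prime 2) := ⟨Nat.prime_two⟩
  have hTC : (T : Subgroup G) ≤ Subgroup.centralizer ({t} : Set G) :=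
    fun s hs => Subgroup.mem_centralizer_singleton_iff.2 (htc s hs)
  have h16 : Nat.card (T : Subgroup G) = 16 := by
    obtain ⟨n, hn⟩ := IsPGroup.iff_card.1 T.isPGroup'
    have h48 : 2 ^ n ∣ 48 := hn ▸ card_cent e ▸ Subgroup.card_dvd_of_le hTC
    have hp : IsPGroup 2 (syl e) := IsPGroup.of_card (n := 4) (by rw [card_syl]; norm_num)
    obtain ⟨Q, hQ⟩ := hp.exists_le_sylow
    have h1 := Subgroup.card_le_of_le hQ
    rw [card_syl e, Q.card_eq_multiplicity, ← T.card_eq_multiplicity, hn] at h1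
    rw [hn]
    have h6 : n ≤ 5 := by
      by_contra hlt
      have := (Nat.le_of_dvd (by norm_num) h48).trans' (Nat.pow_le_pow_right (n := 2) (by norm_num) (not_le.1 hlt))
      norm_num at this
    interval_cases n <;> simp_all
  have hS : ∃ S : Sylow 2 G, (S : Subgroup G) = syl e :=
    ⟨Sylow.ofCard (syl e) (by rw [card_syl e, ← h16, T.card_eq_multiplicity]), rfl⟩
  refine ⟨hS, fun g => ⟨fun hg => ?_, ?_⟩⟩
  · obtain ⟨S, hSe⟩ := hS
    rw [← hSe, ← h2 S]
    refine Subgroup.mem_centralizer_iff.2 fun w hw => ?_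
    have hle : ⁅(S : Subgroup G), (S : Subgroup G)⁆ ≤ Subgroup.zpowers (el e (1, z0)) := by
      rw [Subgroup.commutator_le, hSe]
      rintro _ ⟨⟨a, p⟩, hp, rfl⟩ _ ⟨⟨b, q⟩, hq, rfl⟩
      obtain ⟨x, rfl⟩ := (Subgroup.mem_prod.1 hp).2
      obtain ⟨y, rfl⟩ := (Subgroup.mem_prod.1 hq).2
      rw [← map_commutatorElement, commutatorElement_def]
      have ha : a * b * a⁻¹ * b⁻¹ = 1 := by rw [mul_comm a b]; group
      rcases comm_mem x y with h | h
      · rw [show ((a, phi x) : C₂ × Perm (Fin 4)) * (b, phi y) * (a, phi x)⁻¹ * (b, phi y)⁻¹ = 1 from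
          Prod.ext ha h, map_one]
        exact one_mem _
      · rw [show ((a, phi x) : C₂ × Perm (Fin 4)) * (b, phi y) * (a, phi x)⁻¹ * (b, phi y)⁻¹ = (1, z0) from
          Prod.ext ha h]
        exact Subgroup.mem_zpowers _
    obtain ⟨k, rfl⟩ := Subgroup.mem_zpowers_iff.1 (hle hw)
    exact ((show Commute g (el e (1, z0)) from hg).zpow_right k).eq.symm
  · rintro ⟨⟨a, p⟩, hp, rfl⟩
    obtain ⟨x, rfl⟩ := (Subgroup.mem_prod.1 hp).2
    rw [← map_mul, ← map_mul]
    exact congrArg _ (Prod.ext (mul_comm a 1) ((cent_z0 _).2 ⟨x, rfl⟩))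

theorem card_cent_z (hz : ∀ g : G, g * el e (1, z0) = el e (1, z0) * g ↔ g ∈ syl e) :
    Nat.card ↥(Subgroup.centralizer ({el e (1, z0)} : Set G)) = 16 := by
  rw [← card_syl e]
  congr 1
  congr 1
  ext g
  rw [← hz g]
  exact Subgroup.mem_centralizer_singleton_iff

theorem card_cent_conj (g x : G) :
    Nat.card ↥(Subgroup.centralizer ({g * x * g⁻¹} : Set G)) = Nat.card ↥(Subgroup.centralizer ({x} : Set G)) := by
  symm
  refine Nat.card_congr ((MulAut.conj g).toEquiv.subtypeEquiv fun y => ?_)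
  show y ∈ Subgroup.centralizer ({x} : Set G) ↔ g * y * g⁻¹ ∈ Subgroup.centralizer ({g * x * g⁻¹} : Set G)
  rw [Subgroup.mem_centralizer_singleton_iff, Subgroup.mem_centralizer_singleton_iff,
    show g * y * g⁻¹ * (g * x * g⁻¹) = g * (y * x) * g⁻¹ by group,
    show g * x * g⁻¹ * (g * y * g⁻¹) = g * (x * y) * g⁻¹ by group]
  exact ⟨fun h => by rw [h], fun h => mul_left_cancel (mul_right_cancel h)⟩

/-- The sign twist. -/
def chi : DihedralGroup 4 →* Multiplicative (ZMod 2) where
  toFun x := if Equiv.Perm.sign (phi x) = 1 then 1 else Multiplicative.ofAdd 1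
  map_one' := by decide
  map_mul' := by decide

theorem chi_a0 : ∀ x, phi x = a0 → chi x = Multiplicative.ofAdd 1 := by decide

theorem chi_conj : ∀ (x y : DihedralGroup 4) (p : Perm (Fin 4)), p * phi x * p⁻¹ = phi y → chi x = chi y := by
  decide

theorem exists_phi : (∃ x, phi x = z0) ∧ ∃ x, phi x = a0 := by decide

theorem chi_z0 : ∀ x, phi x = z0 → chi x = 1 := by decide

/-- A subgroup of index two avoiding `t`. -/
theorem exists_index_two (ht : orderOf t = 2)
    (hS : ∃ S : Sylow 2 G, (S : Subgroup G) = syl e)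
    (hz : ∀ g : G, g * el e (1, z0) = el e (1, z0) * g ↔ g ∈ syl e) :
    ∃ M : Subgroup G, M.Normal ∧ M.index = 2 ∧ t ∉ M := by
  haveI : Fact (Nat.Prime 2) := ⟨Nat.prime_two⟩
  obtain ⟨S, hSe⟩ := hS
  have het := el_t e ht
  have hnz : ∀ g : G, g * t * g⁻¹ ≠ el e (1, z0) := fun g h => by
    have h1 := card_cent_conj g t
    rw [h, card_cent_z e hz, card_cent e] at h1
    omega
  -- a complement without conjugates of `t` gives the subgroup
  have key : ∀ ψ : DihedralGroup 4 →* Multiplicative (ZMod 2),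
      (∀ x y (p : Perm (Fin 4)), p * phi x * p⁻¹ = phi y → ψ x = ψ y) →
      (∀ x, phi x = z0 → ψ x = 1) →
      (∃ M : Subgroup G, M.Normal ∧ M.index = 2 ∧ t ∉ M) ∨
        ∃ x, phi x = a0 ∧ ∃ g : G, g * t * g⁻¹ = el e (ψ x, a0) := by
    intro ψ hψ hψz
    let f : DihedralGroup 4 →* G := (el e).comp (ψ.prod phi)
    have hfi : Function.Injective f := fun x y h =>
      phi_injective (congrArg Prod.snd (el_injective e h))
    have hle : f.range ≤ (S : Subgroup G) := by
      rintro _ ⟨x, rfl⟩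
      rw [hSe]
      exact (el_mem_syl e).2 ⟨x, rfl⟩
    have hrel : f.range.relIndex (S : Subgroup G) = 2 := by
      have h := Subgroup.card_mul_index (f.range.subgroupOf (S : Subgroup G))
      rw [Nat.card_congr (Subgroup.subgroupOfEquivOfLe hle).toEquiv,
        Nat.card_congr (MonoidHom.ofInjective hfi).symm.toEquiv, DihedralGroup.nat_card, hSe, card_syl e] at h
      rw [Subgroup.relIndex, hSe]
      omega
    have htS : t ∈ (S : Subgroup G) := by
      have h := (el_mem_syl e (s := Multiplicative.ofAdd 1)).2 ⟨1, map_one phi⟩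
      rw [het] at h; rw [hSe]; exact h
    have htf : t ∉ f.range := by
      rintro ⟨x, hx⟩
      have h := el_injective e (hx.trans het.symm)
      have hx1 : x = 1 := phi_injective ((congrArg Prod.snd h).trans (map_one phi).symm)
      have h1 := congrArg Prod.fst h
      rw [hx1] at h1
      exact absurd ((map_one ψ).symm.trans h1) one_ne
    rcases S0111.result S f.range hle hrel t ht htS htf with h | ⟨g, x, hx⟩
    · exact Or.inl h
    · right
      have hxx : phi x * phi x = 1 := by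
        rw [← map_mul, ← map_one phi]
        refine congrArg phi (hfi ?_)
        rw [map_mul, map_one, hx, show g * t * g⁻¹ * (g * t * g⁻¹) = g * t ^ 2 * g⁻¹ by rw [pow_two]; group,
          ← ht, pow_orderOf_eq_one, mul_one, mul_inv_cancel]
      rcases sq_class x hxx with h1 | ⟨p, h1 | h1⟩
      · exfalso
        have hx1 : x = 1 := phi_injective (h1.trans (map_one phi).symm)
        rw [hx1, map_one, eq_comm, mul_inv_eq_one, mul_eq_left] at hx
        rw [hx, orderOf_one] at ht
        omega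
      · exfalso
        obtain ⟨y, hy⟩ := exists_phi.1
        have hψx : ψ x = 1 := (hψ x y p (h1.trans hy.symm)).trans (hψz y hy)
        refine hnz (el e (1, p) * g) ?_
        rw [show el e (1, p) * g * t * (el e (1, p) * g)⁻¹ = el e (1, p) * (g * t * g⁻¹) * (el e (1, p))⁻¹ by group,
          ← hx, ← map_inv]
        show el e (1, p) * el e (ψ x, phi x) * el e (1, p)⁻¹ = _
        rw [← map_mul, ← map_mul, hψx]
        exact congrArg _ (Prod.ext (by simp) h1)
      · obtain ⟨y, hy⟩ := exists_phi.2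
        refine ⟨y, hy, el e (1, p) * g, ?_⟩
        rw [show el e (1, p) * g * t * (el e (1, p) * g)⁻¹ = el e (1, p) * (g * t * g⁻¹) * (el e (1, p))⁻¹ by group,
          ← hx, ← map_inv]
        show el e (1, p) * el e (ψ x, phi x) * el e (1, p)⁻¹ = _
        rw [← map_mul, ← map_mul, hψ x y p (h1.trans hy.symm)]
        exact congrArg _ (Prod.ext (by simp [mul_comm]) h1)
  rcases key 1 (fun _ _ _ _ => rfl) (fun _ _ => rfl) with h | ⟨x₁, -, g₁, hg₁⟩
  · exact h
  rcases key chi chi_conj chi_z0 with h | ⟨x₂, hx₂, g₂, hg₂⟩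
  · exact h
  exfalso
  rw [show (1 : DihedralGroup 4 →* Multiplicative (ZMod 2)) x₁ = 1 from rfl] at hg₁
  rw [chi_a0 x₂ hx₂] at hg₂
  set a := el e (1, a0) with hadef
  set E := Subgroup.centralizer ({t, a} : Set G) with hEdef
  have hEmem : ∀ g, g ∈ E ↔ ∃ s p, p * a0 = a0 * p ∧ g = el e (s, p) := by
    intro g
    constructor
    · intro hg
      rw [hEdef, Subgroup.mem_centralizer_iff] at hg
      have hgC : g ∈ Subgroup.centralizer ({t} : Set G) :=
        Subgroup.mem_centralizer_singleton_iff.2 (hg t (Set.mem_insert _ _)).symm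
      refine ⟨(e ⟨g, hgC⟩).1, (e ⟨g, hgC⟩).2, ?_, (el_eq e hgC).symm⟩
      have h := hg a (Set.mem_insert_of_mem _ (Set.mem_singleton _))
      rw [← el_eq e hgC, hadef, ← map_mul, ← map_mul] at h
      exact (congrArg Prod.snd (el_injective e h)).symm
    · rintro ⟨s, p, hp, rfl⟩
      refine Subgroup.mem_centralizer_iff.2 ?_
      rintro h (rfl | rfl)
      · exact (Subgroup.mem_centralizer_singleton_iff.1 (el_mem e _)).symm
      · rw [hadef, ← map_mul, ← map_mul]
        exact congrArg _ (Prod.ext (mul_comm _ _) hp.symm)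
  have hE8 : Nat.card E = 8 := by
    let q : Multiplicative (ZMod 2) × {p : Perm (Fin 4) // p * a0 = a0 * p} → E :=
      fun w => ⟨el e (w.1, w.2.1), (hEmem _).2 ⟨w.1, w.2.1, w.2.2, rfl⟩⟩
    rw [← Nat.card_congr (Equiv.ofBijective q ⟨fun w w' h => by
        have h' := el_injective e (congrArg Subtype.val h :)
        simp only [Prod.mk.injEq] at h'
        exact Prod.ext h'.1 (Subtype.ext h'.2), fun g => by
        obtain ⟨s, p, hp, hg⟩ := (hEmem g.1).1 g.2
        exact ⟨(s, ⟨p, hp⟩), Subtype.ext hg.symm⟩⟩),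
      Nat.card_prod, Nat.card_eq_fintype_card, Nat.card_eq_fintype_card, Fintype.card_subtype, card_cent_a0]
    rfl
  set N := Subgroup.normalizer (E : Set G) with hNdef
  have hSN : (S : Subgroup G) ≤ N := by
    intro x hx
    rw [hSe] at hx
    obtain ⟨⟨s, p⟩, hp, rfl⟩ := hx
    obtain ⟨w, hw⟩ := (Subgroup.mem_prod.1 hp).2
    have hsw : ∀ p : Perm (Fin 4), (∃ w, phi w = p) → ∀ q, q * a0 = a0 * q →
        p * q * p⁻¹ * a0 = a0 * (p * q * p⁻¹) ∧ p⁻¹ * q * p * a0 = a0 * (p⁻¹ * q * p) := by decide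
    rw [hNdef, Subgroup.mem_normalizer_iff]
    intro y
    constructor
    · intro hy
      obtain ⟨s', q, hq, rfl⟩ := (hEmem y).1 hy
      rw [← map_inv, ← map_mul, ← map_mul]
      exact (hEmem _).2 ⟨_, _, (hsw p ⟨w, hw⟩ q hq).1, rfl⟩
    · intro hy
      obtain ⟨s', q, hq, he⟩ := (hEmem _).1 hy
      rw [show y = (el e (s, p))⁻¹ * (el e (s, p) * y * (el e (s, p))⁻¹) * el e (s, p) by group, he,
        ← map_inv, ← map_mul, ← map_mul]
      exact (hEmem _).2 ⟨_, _, (hsw p ⟨w, hw⟩ q hq).2, rfl⟩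
  have hzE : el e (1, z0) ∈ E := (hEmem _).2 ⟨1, z0, by decide, rfl⟩
  -- conjugates of `z` in `E`
  have horb : ∀ y ∈ N, y * el e (1, z0) * y⁻¹ = el e (1, z0) ∨
      y * el e (1, z0) * y⁻¹ = el e (Multiplicative.ofAdd 1, z0) := by
    intro y hy
    have hm := (Subgroup.mem_normalizer_iff.1 hy _).1 hzE
    obtain ⟨s, p, hp, he⟩ := (hEmem _).1 hm
    have hne : ∀ g : G, g * t * g⁻¹ ≠ y * el e (1, z0) * y⁻¹ := fun g h =>
      hnz (y⁻¹ * g) (by
        rw [show y⁻¹ * g * t * (y⁻¹ * g)⁻¹ = y⁻¹ * (g * t * g⁻¹) * y by group, h]; group)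
    have hr0 : el e (1, r0) * el e (s, a0) * (el e (1, r0))⁻¹ = el e (s, z0 * a0) := by
      rw [← map_inv, ← map_mul, ← map_mul]
      exact congrArg _ (Prod.ext (by simp) (by decide : r0 * a0 * r0⁻¹ = z0 * a0))
    have hconjr : ∀ g : G, g * t * g⁻¹ = el e (s, a0) →
        el e (1, r0) * g * t * (el e (1, r0) * g)⁻¹ = el e (s, z0 * a0) := fun g h => by
      rw [← hr0, ← h]; group
    rcases cent_a0 p hp with rfl | rfl | rfl | rfl <;> rcases two_cases s with rfl | rfl
    · exfalso
      rw [show el e (1, 1) = 1 from map_one _, mul_inv_eq_one, mul_eq_left] at he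
      have h := el_injective e (he.trans (map_one (el e)).symm)
      exact absurd (congrArg Prod.snd h) (show z0 ≠ 1 by decide)
    · exact absurd (he.trans het).symm (fun h => hne 1 (by rw [← h]; simp))
    · exact Or.inl he
    · exact Or.inr he
    · exact absurd (hg₁.trans he.symm) (hne g₁)
    · exact absurd (hg₂.trans he.symm) (hne g₂)
    · exact absurd ((hconjr g₁ hg₁).trans he.symm) (hne _)
    · exact absurd ((hconjr g₂ hg₂).trans he.symm) (hne _)
  have hNS : N ≤ (S : Subgroup G) := by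
    have hodd : ¬ 2 ∣ (S : Subgroup G).relIndex N := fun h =>
      S.not_dvd_index (h.trans (Subgroup.relIndex_dvd_index_of_le hSN))
    have hstab : ∀ y, y ∈ (S : Subgroup G) ↔ y * el e (1, z0) = el e (1, z0) * y := fun y => by
      rw [hSe]; exact (hz y).symm
    let F : ↥N ⧸ (S : Subgroup G).subgroupOf N → ({el e (1, z0), el e (Multiplicative.ofAdd 1, z0)} : Set G) :=
      fun q => ⟨(q.out : G) * el e (1, z0) * (q.out : G)⁻¹, by
        rcases horb _ q.out.2 with h | h
        · exact Or.inl h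
        · exact Or.inr h⟩
    have hF : Function.Injective F := by
      intro p q h
      have h' : (p.out : G) * el e (1, z0) * (p.out : G)⁻¹ = (q.out : G) * el e (1, z0) * (q.out : G)⁻¹ :=
        congrArg Subtype.val h
      rw [← Quotient.out_eq p, ← Quotient.out_eq q]
      refine Quotient.sound (QuotientGroup.leftRel_apply.2 ?_)
      rw [Subgroup.mem_subgroupOf, hstab]
      show (p.out : G)⁻¹ * (q.out : G) * el e (1, z0) = el e (1, z0) * ((p.out : G)⁻¹ * (q.out : G))
      calc (p.out : G)⁻¹ * (q.out : G) * el e (1, z0)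
          = (p.out : G)⁻¹ * ((q.out : G) * el e (1, z0) * (q.out : G)⁻¹) * (q.out : G) := by group
        _ = el e (1, z0) * ((p.out : G)⁻¹ * (q.out : G)) := by rw [← h']; group
    have h := Nat.card_le_card_of_injective F hF
    rw [show Nat.card ({el e (1, z0), el e (Multiplicative.ofAdd 1, z0)} : Set G) = 2 by
      rw [Nat.card_coe_set_eq, Set.ncard_pair fun h => absurd (congrArg Prod.fst (el_injective e h)) one_ne]] at h
    refine Subgroup.relIndex_eq_one.1 ?_
    rw [show Nat.card (↥N ⧸ (S : Subgroup G).subgroupOf N) = (S : Subgroup G).relIndex N from rfl] at h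
    have h0 : (S : Subgroup G).relIndex N ≠ 0 := fun h0 => hodd (by rw [h0]; exact dvd_zero 2)
    omega
  have hca : Nat.card ↥(Subgroup.centralizer ({a} : Set G)) = 48 := by
    rw [← hg₁, card_cent_conj, card_cent e]
  have hEC : E ≤ Subgroup.centralizer ({a} : Set G) := by
    intro g hg
    rw [hEdef, Subgroup.mem_centralizer_iff] at hg
    exact Subgroup.mem_centralizer_singleton_iff.2 (hg a (Set.mem_insert_of_mem _ (Set.mem_singleton _))).symm
  obtain ⟨K, hK, hEK⟩ := Sylow.exists_subgroup_card_pow_succ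
    (G := ↥(Subgroup.centralizer ({a} : Set G))) (p := 2) (n := 3) (by rw [hca]; norm_num)
    (H := E.subgroupOf (Subgroup.centralizer ({a} : Set G)))
    (by rw [Nat.card_congr (Subgroup.subgroupOfEquivOfLe hEC).toEquiv, hE8]; norm_num)
  have hnorm : ((E.subgroupOf (Subgroup.centralizer ({a} : Set G))).subgroupOf K).Normal := by
    refine Subgroup.normal_of_index_eq_two ?_
    have h := Subgroup.card_mul_index ((E.subgroupOf (Subgroup.centralizer ({a} : Set G))).subgroupOf K)
    rw [Nat.card_congr (Subgroup.subgroupOfEquivOfLe hEK).toEquiv,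
      Nat.card_congr (Subgroup.subgroupOfEquivOfLe hEC).toEquiv, hE8, hK] at h
    omega
  have hKN : K.map (Subgroup.centralizer ({a} : Set G)).subtype ≤ N := by
    rintro _ ⟨x, hx, rfl⟩
    rw [hNdef, Subgroup.mem_normalizer_iff]
    intro y
    constructor
    · intro hy
      exact hnorm.conj_mem ⟨⟨y, hEC hy⟩, hEK hy⟩ hy ⟨x, hx⟩
    · intro hy
      have h := hnorm.conj_mem ⟨⟨_, hEC hy⟩, hEK hy⟩ hy (⟨x, hx⟩ : K)⁻¹
      have h' : (x : G)⁻¹ * ((x : G) * y * (x : G)⁻¹) * ((x : G)⁻¹)⁻¹ ∈ E := h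
      rwa [show (x : G)⁻¹ * ((x : G) * y * (x : G)⁻¹) * ((x : G)⁻¹)⁻¹ = y by group] at h'
  have heq : K.map (Subgroup.centralizer ({a} : Set G)).subtype = (S : Subgroup G) := by
    refine Subgroup.eq_of_le_of_card_ge (hKN.trans hNS) ?_
    rw [Subgroup.card_map_of_injective (Subgroup.subtype_injective _), hK, hSe, card_syl e]
    norm_num
  have hr : el e (1, r0) ∈ (S : Subgroup G) := by
    rw [hSe]; exact (el_mem_syl e).2 ⟨DihedralGroup.r 1, by decide⟩
  rw [← heq] at hr
  obtain ⟨x, -, hx⟩ := hr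
  have := Subgroup.mem_centralizer_singleton_iff.1 x.2
  rw [show (x : G) = el e (1, r0) from hx, hadef, ← map_mul, ← map_mul] at this
  exact absurd (congrArg Prod.snd (el_injective e this)) (show r0 * a0 ≠ a0 * r0 by decide)

end Local

end Cfsg.Agent.Screen.CTwoSFour
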