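import Cfsg.Agent.Screen.DQBasic

/-! Closure table for a distributive quasigroup generated by four members (derived by coset-style completion). -/

set_option autoImplicit false

namespace Cfsg.Agent.Screen.DQ

variable {α : Type*} [DQ α]

def P0 (G : Gens α) : α := G.g0
def P1 (G : Gens α) : α := G.g1
def P2 (G : Gens α) : α := G.g2
def P3 (G : Gens α) : α := G.g3
def P4 (G : Gens α) : α := DQ.op G.g1 (P0 G)
def P5 (G : Gens α) : α := DQ.op G.g2 (P0 G)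
def P6 (G : Gens α) : α := DQ.op G.g3 (P0 G)
def P7 (G : Gens α) : α := DQ.op G.g0 (P1 G)
def P8 (G : Gens α) : α := DQ.op G.g2 (P1 G)
def P9 (G : Gens α) : α := DQ.op G.g3 (P1 G)
def P10 (G : Gens α) : α := DQ.op G.g0 (P2 G)
def P11 (G : Gens α) : α := DQ.op G.g1 (P2 G)
def P12 (G : Gens α) : α := DQ.op G.g3 (P2 G)
def P13 (G : Gens α) : α := DQ.op G.g0 (P3 G)
def P14 (G : Gens α) : α := DQ.op G.g1 (P3 G)
def P15 (G : Gens α) : α := DQ.op G.g2 (P3 G)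
def P16 (G : Gens α) : α := DQ.op G.g2 (P4 G)
def P17 (G : Gens α) : α := DQ.op G.g3 (P4 G)
def P18 (G : Gens α) : α := DQ.op G.g1 (P5 G)
def P19 (G : Gens α) : α := DQ.op G.g3 (P5 G)
def P20 (G : Gens α) : α := DQ.op G.g1 (P6 G)
def P21 (G : Gens α) : α := DQ.op G.g2 (P6 G)
def P22 (G : Gens α) : α := DQ.op G.g0 (P8 G)
def P23 (G : Gens α) : α := DQ.op G.g3 (P8 G)
def P24 (G : Gens α) : α := DQ.op G.g0 (P9 G)
def P25 (G : Gens α) : α := DQ.op G.g2 (P9 G)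
def P26 (G : Gens α) : α := DQ.op G.g0 (P12 G)
def P27 (G : Gens α) : α := DQ.op G.g1 (P12 G)
def P28 (G : Gens α) : α := DQ.op G.g3 (P16 G)
def P29 (G : Gens α) : α := DQ.op G.g2 (P17 G)
def P30 (G : Gens α) : α := DQ.op G.g3 (P18 G)
def P31 (G : Gens α) : α := DQ.op G.g1 (P19 G)
def P32 (G : Gens α) : α := DQ.op G.g2 (P20 G)
def P33 (G : Gens α) : α := DQ.op G.g1 (P21 G)
def P34 (G : Gens α) : α := DQ.op G.g3 (P22 G)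
def P35 (G : Gens α) : α := DQ.op G.g0 (P23 G)
def P36 (G : Gens α) : α := DQ.op G.g2 (P24 G)
def P37 (G : Gens α) : α := DQ.op G.g0 (P25 G)
def P38 (G : Gens α) : α := DQ.op G.g1 (P26 G)
def P39 (G : Gens α) : α := DQ.op G.g0 (P27 G)
def P40 (G : Gens α) : α := DQ.op G.g0 (P28 G)
def P41 (G : Gens α) : α := DQ.op G.g1 (P28 G)
def P42 (G : Gens α) : α := DQ.op G.g2 (P28 G)
def P43 (G : Gens α) : α := DQ.op G.g0 (P29 G)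
def P44 (G : Gens α) : α := DQ.op G.g1 (P29 G)
def P45 (G : Gens α) : α := DQ.op G.g3 (P29 G)
def P46 (G : Gens α) : α := DQ.op G.g0 (P30 G)
def P47 (G : Gens α) : α := DQ.op G.g1 (P30 G)
def P48 (G : Gens α) : α := DQ.op G.g2 (P30 G)
def P49 (G : Gens α) : α := DQ.op G.g0 (P31 G)
def P50 (G : Gens α) : α := DQ.op G.g2 (P31 G)
def P51 (G : Gens α) : α := DQ.op G.g3 (P31 G)
def P52 (G : Gens α) : α := DQ.op G.g0 (P32 G)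
def P53 (G : Gens α) : α := DQ.op G.g1 (P32 G)
def P54 (G : Gens α) : α := DQ.op G.g3 (P32 G)
def P55 (G : Gens α) : α := DQ.op G.g0 (P33 G)
def P56 (G : Gens α) : α := DQ.op G.g2 (P33 G)
def P57 (G : Gens α) : α := DQ.op G.g3 (P33 G)
def P58 (G : Gens α) : α := DQ.op G.g0 (P34 G)
def P59 (G : Gens α) : α := DQ.op G.g1 (P34 G)
def P60 (G : Gens α) : α := DQ.op G.g2 (P34 G)
def P61 (G : Gens α) : α := DQ.op G.g1 (P35 G)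
def P62 (G : Gens α) : α := DQ.op G.g2 (P35 G)
def P63 (G : Gens α) : α := DQ.op G.g1 (P36 G)
def P64 (G : Gens α) : α := DQ.op G.g3 (P36 G)
def P65 (G : Gens α) : α := DQ.op G.g1 (P37 G)
def P66 (G : Gens α) : α := DQ.op G.g3 (P37 G)
def P67 (G : Gens α) : α := DQ.op G.g2 (P38 G)
def P68 (G : Gens α) : α := DQ.op G.g3 (P38 G)
def P69 (G : Gens α) : α := DQ.op G.g2 (P39 G)
def P70 (G : Gens α) : α := DQ.op G.g3 (P39 G)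
def P71 (G : Gens α) : α := DQ.op G.g2 (P40 G)
def P72 (G : Gens α) : α := DQ.op G.g2 (P41 G)
def P73 (G : Gens α) : α := DQ.op G.g3 (P43 G)
def P74 (G : Gens α) : α := DQ.op G.g2 (P44 G)
def P75 (G : Gens α) : α := DQ.op G.g3 (P44 G)
def P76 (G : Gens α) : α := DQ.op G.g1 (P46 G)
def P77 (G : Gens α) : α := DQ.op G.g1 (P48 G)
def P78 (G : Gens α) : α := DQ.op G.g3 (P48 G)
def P79 (G : Gens α) : α := DQ.op G.g3 (P49 G)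
def P80 (G : Gens α) : α := DQ.op G.g1 (P50 G)
def P81 (G : Gens α) : α := DQ.op G.g3 (P50 G)
def P82 (G : Gens α) : α := DQ.op G.g1 (P52 G)
def P83 (G : Gens α) : α := DQ.op G.g1 (P54 G)
def P84 (G : Gens α) : α := DQ.op G.g2 (P54 G)
def P85 (G : Gens α) : α := DQ.op G.g2 (P55 G)
def P86 (G : Gens α) : α := DQ.op G.g2 (P57 G)
def P87 (G : Gens α) : α := DQ.op G.g0 (P60 G)
def P88 (G : Gens α) : α := DQ.op G.g3 (P62 G)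
def P89 (G : Gens α) : α := DQ.op G.g1 (P71 G)
def P90 (G : Gens α) : α := DQ.op G.g3 (P71 G)
def P91 (G : Gens α) : α := DQ.op G.g0 (P72 G)
def P92 (G : Gens α) : α := DQ.op G.g3 (P72 G)
def P93 (G : Gens α) : α := DQ.op G.g1 (P73 G)
def P94 (G : Gens α) : α := DQ.op G.g2 (P73 G)
def P95 (G : Gens α) : α := DQ.op G.g0 (P75 G)
def P96 (G : Gens α) : α := DQ.op G.g2 (P75 G)
def P97 (G : Gens α) : α := DQ.op G.g2 (P76 G)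
def P98 (G : Gens α) : α := DQ.op G.g3 (P76 G)
def P99 (G : Gens α) : α := DQ.op G.g0 (P77 G)
def P100 (G : Gens α) : α := DQ.op G.g3 (P77 G)
def P101 (G : Gens α) : α := DQ.op G.g1 (P79 G)
def P102 (G : Gens α) : α := DQ.op G.g2 (P79 G)
def P103 (G : Gens α) : α := DQ.op G.g0 (P81 G)
def P104 (G : Gens α) : α := DQ.op G.g1 (P81 G)
def P105 (G : Gens α) : α := DQ.op G.g2 (P82 G)
def P106 (G : Gens α) : α := DQ.op G.g3 (P82 G)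
def P107 (G : Gens α) : α := DQ.op G.g0 (P83 G)
def P108 (G : Gens α) : α := DQ.op G.g2 (P83 G)
def P109 (G : Gens α) : α := DQ.op G.g3 (P89 G)
def P110 (G : Gens α) : α := DQ.op G.g1 (P90 G)
def P111 (G : Gens α) : α := DQ.op G.g3 (P91 G)
def P112 (G : Gens α) : α := DQ.op G.g0 (P92 G)
def P113 (G : Gens α) : α := DQ.op G.g2 (P93 G)
def P114 (G : Gens α) : α := DQ.op G.g1 (P94 G)
def P115 (G : Gens α) : α := DQ.op G.g2 (P95 G)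
def P116 (G : Gens α) : α := DQ.op G.g0 (P96 G)
def P117 (G : Gens α) : α := DQ.op G.g0 (P109 G)
def P119 (G : Gens α) : α := DQ.op G.g2 (P109 G)
def P125 (G : Gens α) : α := DQ.op G.g2 (P111 G)
def P126 (G : Gens α) : α := DQ.op G.g1 (P112 G)
def P130 (G : Gens α) : α := DQ.op G.g1 (P113 G)
def P131 (G : Gens α) : α := DQ.op G.g3 (P113 G)
def P132 (G : Gens α) : α := DQ.op G.g0 (P114 G)
def P133 (G : Gens α) : α := DQ.op G.g2 (P114 G)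
def P135 (G : Gens α) : α := DQ.op G.g0 (P115 G)
def P137 (G : Gens α) : α := DQ.op G.g3 (P115 G)
def P139 (G : Gens α) : α := DQ.op G.g2 (P116 G)
def P140 (G : Gens α) : α := DQ.op G.g3 (P116 G)

theorem w0 (G : Gens α) (x : α) : DQ.op (P0 G) x = DQ.op G.g0 (x) :=
  rfl
theorem w1 (G : Gens α) (x : α) : DQ.op (P1 G) x = DQ.op G.g1 (x) :=
  rfl
theorem w2 (G : Gens α) (x : α) : DQ.op (P2 G) x = DQ.op G.g2 (x) :=
  rfl
theorem w4 (G : Gens α) (x : α) : DQ.op (P4 G) x = DQ.op G.g1 (DQ.op G.g0 (DQ.op G.g1 (x))) :=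
  (DQ.expand G.g1 (P0 G) x).trans (congrArg (DQ.op G.g1) (w0 G (DQ.op G.g1 x)))
theorem w5 (G : Gens α) (x : α) : DQ.op (P5 G) x = DQ.op G.g2 (DQ.op G.g0 (DQ.op G.g2 (x))) :=
  (DQ.expand G.g2 (P0 G) x).trans (congrArg (DQ.op G.g2) (w0 G (DQ.op G.g2 x)))
theorem w6 (G : Gens α) (x : α) : DQ.op (P6 G) x = DQ.op G.g3 (DQ.op G.g0 (DQ.op G.g3 (x))) :=
  (DQ.expand G.g3 (P0 G) x).trans (congrArg (DQ.op G.g3) (w0 G (DQ.op G.g3 x)))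
theorem w8 (G : Gens α) (x : α) : DQ.op (P8 G) x = DQ.op G.g2 (DQ.op G.g1 (DQ.op G.g2 (x))) :=
  (DQ.expand G.g2 (P1 G) x).trans (congrArg (DQ.op G.g2) (w1 G (DQ.op G.g2 x)))
theorem w9 (G : Gens α) (x : α) : DQ.op (P9 G) x = DQ.op G.g3 (DQ.op G.g1 (DQ.op G.g3 (x))) :=
  (DQ.expand G.g3 (P1 G) x).trans (congrArg (DQ.op G.g3) (w1 G (DQ.op G.g3 x)))
theorem w12 (G : Gens α) (x : α) : DQ.op (P12 G) x = DQ.op G.g3 (DQ.op G.g2 (DQ.op G.g3 (x))) :=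
  (DQ.expand G.g3 (P2 G) x).trans (congrArg (DQ.op G.g3) (w2 G (DQ.op G.g3 x)))
theorem w16 (G : Gens α) (x : α) : DQ.op (P16 G) x = DQ.op G.g2 (DQ.op G.g1 (DQ.op G.g0 (DQ.op G.g1 (DQ.op G.g2 (x))))) :=
  (DQ.expand G.g2 (P4 G) x).trans (congrArg (DQ.op G.g2) (w4 G (DQ.op G.g2 x)))
theorem w17 (G : Gens α) (x : α) : DQ.op (P17 G) x = DQ.op G.g3 (DQ.op G.g1 (DQ.op G.g0 (DQ.op G.g1 (DQ.op G.g3 (x))))) :=
  (DQ.expand G.g3 (P4 G) x).trans (congrArg (DQ.op G.g3) (w4 G (DQ.op G.g3 x)))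
theorem w18 (G : Gens α) (x : α) : DQ.op (P18 G) x = DQ.op G.g1 (DQ.op G.g2 (DQ.op G.g0 (DQ.op G.g2 (DQ.op G.g1 (x))))) :=
  (DQ.expand G.g1 (P5 G) x).trans (congrArg (DQ.op G.g1) (w5 G (DQ.op G.g1 x)))
theorem w19 (G : Gens α) (x : α) : DQ.op (P19 G) x = DQ.op G.g3 (DQ.op G.g2 (DQ.op G.g0 (DQ.op G.g2 (DQ.op G.g3 (x))))) :=
  (DQ.expand G.g3 (P5 G) x).trans (congrArg (DQ.op G.g3) (w5 G (DQ.op G.g3 x)))
theorem w20 (G : Gens α) (x : α) : DQ.op (P20 G) x = DQ.op G.g1 (DQ.op G.g3 (DQ.op G.g0 (DQ.op G.g3 (DQ.op G.g1 (x))))) :=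
  (DQ.expand G.g1 (P6 G) x).trans (congrArg (DQ.op G.g1) (w6 G (DQ.op G.g1 x)))
theorem w21 (G : Gens α) (x : α) : DQ.op (P21 G) x = DQ.op G.g2 (DQ.op G.g3 (DQ.op G.g0 (DQ.op G.g3 (DQ.op G.g2 (x))))) :=
  (DQ.expand G.g2 (P6 G) x).trans (congrArg (DQ.op G.g2) (w6 G (DQ.op G.g2 x)))
theorem w24 (G : Gens α) (x : α) : DQ.op (P24 G) x = DQ.op G.g0 (DQ.op G.g3 (DQ.op G.g1 (DQ.op G.g3 (DQ.op G.g0 (x))))) :=
  (DQ.expand G.g0 (P9 G) x).trans (congrArg (DQ.op G.g0) (w9 G (DQ.op G.g0 x)))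
theorem w26 (G : Gens α) (x : α) : DQ.op (P26 G) x = DQ.op G.g0 (DQ.op G.g3 (DQ.op G.g2 (DQ.op G.g3 (DQ.op G.g0 (x))))) :=
  (DQ.expand G.g0 (P12 G) x).trans (congrArg (DQ.op G.g0) (w12 G (DQ.op G.g0 x)))
theorem w28 (G : Gens α) (x : α) : DQ.op (P28 G) x = DQ.op G.g3 (DQ.op G.g2 (DQ.op G.g1 (DQ.op G.g0 (DQ.op G.g1 (DQ.op G.g2 (DQ.op G.g3 (x))))))) :=
  (DQ.expand G.g3 (P16 G) x).trans (congrArg (DQ.op G.g3) (w16 G (DQ.op G.g3 x)))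
theorem w29 (G : Gens α) (x : α) : DQ.op (P29 G) x = DQ.op G.g2 (DQ.op G.g3 (DQ.op G.g1 (DQ.op G.g0 (DQ.op G.g1 (DQ.op G.g3 (DQ.op G.g2 (x))))))) :=
  (DQ.expand G.g2 (P17 G) x).trans (congrArg (DQ.op G.g2) (w17 G (DQ.op G.g2 x)))
theorem w30 (G : Gens α) (x : α) : DQ.op (P30 G) x = DQ.op G.g3 (DQ.op G.g1 (DQ.op G.g2 (DQ.op G.g0 (DQ.op G.g2 (DQ.op G.g1 (DQ.op G.g3 (x))))))) :=
  (DQ.expand G.g3 (P18 G) x).trans (congrArg (DQ.op G.g3) (w18 G (DQ.op G.g3 x)))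
theorem w31 (G : Gens α) (x : α) : DQ.op (P31 G) x = DQ.op G.g1 (DQ.op G.g3 (DQ.op G.g2 (DQ.op G.g0 (DQ.op G.g2 (DQ.op G.g3 (DQ.op G.g1 (x))))))) :=
  (DQ.expand G.g1 (P19 G) x).trans (congrArg (DQ.op G.g1) (w19 G (DQ.op G.g1 x)))
theorem w32 (G : Gens α) (x : α) : DQ.op (P32 G) x = DQ.op G.g2 (DQ.op G.g1 (DQ.op G.g3 (DQ.op G.g0 (DQ.op G.g3 (DQ.op G.g1 (DQ.op G.g2 (x))))))) :=
  (DQ.expand G.g2 (P20 G) x).trans (congrArg (DQ.op G.g2) (w20 G (DQ.op G.g2 x)))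
theorem w33 (G : Gens α) (x : α) : DQ.op (P33 G) x = DQ.op G.g1 (DQ.op G.g2 (DQ.op G.g3 (DQ.op G.g0 (DQ.op G.g3 (DQ.op G.g2 (DQ.op G.g1 (x))))))) :=
  (DQ.expand G.g1 (P21 G) x).trans (congrArg (DQ.op G.g1) (w21 G (DQ.op G.g1 x)))
theorem w40 (G : Gens α) (x : α) : DQ.op (P40 G) x = DQ.op G.g0 (DQ.op G.g3 (DQ.op G.g2 (DQ.op G.g1 (DQ.op G.g0 (DQ.op G.g1 (DQ.op G.g2 (DQ.op G.g3 (DQ.op G.g0 (x))))))))) :=
  (DQ.expand G.g0 (P28 G) x).trans (congrArg (DQ.op G.g0) (w28 G (DQ.op G.g0 x)))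
theorem w71 (G : Gens α) (x : α) : DQ.op (P71 G) x = DQ.op G.g2 (DQ.op G.g0 (DQ.op G.g3 (DQ.op G.g2 (DQ.op G.g1 (DQ.op G.g0 (DQ.op G.g1 (DQ.op G.g2 (DQ.op G.g3 (DQ.op G.g0 (DQ.op G.g2 (x))))))))))) :=
  (DQ.expand G.g2 (P40 G) x).trans (congrArg (DQ.op G.g2) (w40 G (DQ.op G.g2 x)))
theorem w89 (G : Gens α) (x : α) : DQ.op (P89 G) x = DQ.op G.g1 (DQ.op G.g2 (DQ.op G.g0 (DQ.op G.g3 (DQ.op G.g2 (DQ.op G.g1 (DQ.op G.g0 (DQ.op G.g1 (DQ.op G.g2 (DQ.op G.g3 (DQ.op G.g0 (DQ.op G.g2 (DQ.op G.g1 (x))))))))))))) :=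
  (DQ.expand G.g1 (P71 G) x).trans (congrArg (DQ.op G.g1) (w71 G (DQ.op G.g1 x)))
theorem w109 (G : Gens α) (x : α) : DQ.op (P109 G) x = DQ.op G.g3 (DQ.op G.g1 (DQ.op G.g2 (DQ.op G.g0 (DQ.op G.g3 (DQ.op G.g2 (DQ.op G.g1 (DQ.op G.g0 (DQ.op G.g1 (DQ.op G.g2 (DQ.op G.g3 (DQ.op G.g0 (DQ.op G.g2 (DQ.op G.g1 (DQ.op G.g3 (x))))))))))))))) :=
  (DQ.expand G.g3 (P89 G) x).trans (congrArg (DQ.op G.g3) (w89 G (DQ.op G.g3 x)))
theorem f0 (G : Gens α) : DQ.op (G.g0) (P0 G) = (P0 G) :=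
  DQ.idem (G.g0)
theorem f1 (G : Gens α) : DQ.op (G.g1) (P1 G) = (P1 G) :=
  DQ.idem (G.g1)
theorem f2 (G : Gens α) : DQ.op (G.g2) (P2 G) = (P2 G) :=
  DQ.idem (G.g2)
theorem f3 (G : Gens α) : DQ.op (G.g3) (P3 G) = (P3 G) :=
  DQ.idem (G.g3)
theorem f4 (G : Gens α) : DQ.op (G.g1) (P0 G) = (P4 G) :=
  rfl
theorem f5 (G : Gens α) : DQ.op (G.g1) (P4 G) = (P0 G) :=
  DQ.op_op (G.g1) (P0 G)
theorem f6 (G : Gens α) : DQ.op (G.g2) (P0 G) = (P5 G) :=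
  rfl
theorem f7 (G : Gens α) : DQ.op (G.g2) (P5 G) = (P0 G) :=
  DQ.op_op (G.g2) (P0 G)
theorem f8 (G : Gens α) : DQ.op (G.g3) (P0 G) = (P6 G) :=
  rfl
theorem f9 (G : Gens α) : DQ.op (G.g3) (P6 G) = (P0 G) :=
  DQ.op_op (G.g3) (P0 G)
theorem f10 (G : Gens α) : DQ.op (G.g0) (P1 G) = (P7 G) :=
  rfl
theorem f11 (G : Gens α) : DQ.op (G.g0) (P7 G) = (P1 G) :=
  DQ.op_op (G.g0) (P1 G)
theorem f12 (G : Gens α) : DQ.op (G.g2) (P1 G) = (P8 G) :=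
  rfl
theorem f13 (G : Gens α) : DQ.op (G.g2) (P8 G) = (P1 G) :=
  DQ.op_op (G.g2) (P1 G)
theorem f14 (G : Gens α) : DQ.op (G.g3) (P1 G) = (P9 G) :=
  rfl
theorem f15 (G : Gens α) : DQ.op (G.g3) (P9 G) = (P1 G) :=
  DQ.op_op (G.g3) (P1 G)
theorem f16 (G : Gens α) : DQ.op (G.g0) (P2 G) = (P10 G) :=
  rfl
theorem f17 (G : Gens α) : DQ.op (G.g0) (P10 G) = (P2 G) :=
  DQ.op_op (G.g0) (P2 G)
theorem f18 (G : Gens α) : DQ.op (G.g1) (P2 G) = (P11 G) :=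
  rfl
theorem f19 (G : Gens α) : DQ.op (G.g1) (P11 G) = (P2 G) :=
  DQ.op_op (G.g1) (P2 G)
theorem f20 (G : Gens α) : DQ.op (G.g3) (P2 G) = (P12 G) :=
  rfl
theorem f21 (G : Gens α) : DQ.op (G.g3) (P12 G) = (P2 G) :=
  DQ.op_op (G.g3) (P2 G)
theorem f22 (G : Gens α) : DQ.op (G.g0) (P3 G) = (P13 G) :=
  rfl
theorem f23 (G : Gens α) : DQ.op (G.g0) (P13 G) = (P3 G) :=
  DQ.op_op (G.g0) (P3 G)
theorem f24 (G : Gens α) : DQ.op (G.g1) (P3 G) = (P14 G) :=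
  rfl
theorem f25 (G : Gens α) : DQ.op (G.g1) (P14 G) = (P3 G) :=
  DQ.op_op (G.g1) (P3 G)
theorem f26 (G : Gens α) : DQ.op (G.g2) (P3 G) = (P15 G) :=
  rfl
theorem f27 (G : Gens α) : DQ.op (G.g2) (P15 G) = (P3 G) :=
  DQ.op_op (G.g2) (P3 G)
theorem f28 (G : Gens α) : (P7 G) = (P4 G) :=
  ((f10 G)).symm.trans (((w0 G (P1 G)).symm.trans (DQ.comm (P0 G) (G.g1))).trans ((f4 G)))
theorem f29 (G : Gens α) : (P7 G) = (P4 G) :=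
  (f28 G)
theorem f30 (G : Gens α) : (P10 G) = (P5 G) :=
  ((f16 G)).symm.trans (((w0 G (P2 G)).symm.trans (DQ.comm (P0 G) (G.g2))).trans ((f6 G)))
theorem f31 (G : Gens α) : (P10 G) = (P5 G) :=
  (f30 G)
theorem f32 (G : Gens α) : (P13 G) = (P6 G) :=
  ((f22 G)).symm.trans (((w0 G (P3 G)).symm.trans (DQ.comm (P0 G) (G.g3))).trans ((f8 G)))
theorem f33 (G : Gens α) : (P13 G) = (P6 G) :=
  (f32 G)
theorem f34 (G : Gens α) : (P11 G) = (P8 G) :=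
  ((f18 G)).symm.trans (((w1 G (P2 G)).symm.trans (DQ.comm (P1 G) (G.g2))).trans ((f12 G)))
theorem f35 (G : Gens α) : (P11 G) = (P8 G) :=
  (f34 G)
theorem f36 (G : Gens α) : (P14 G) = (P9 G) :=
  ((f24 G)).symm.trans (((w1 G (P3 G)).symm.trans (DQ.comm (P1 G) (G.g3))).trans ((f14 G)))
theorem f37 (G : Gens α) : (P14 G) = (P9 G) :=
  (f36 G)
theorem f38 (G : Gens α) : (P15 G) = (P12 G) :=
  ((f26 G)).symm.trans (((w2 G (P3 G)).symm.trans (DQ.comm (P2 G) (G.g3))).trans ((f20 G)))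
theorem f39 (G : Gens α) : (P15 G) = (P12 G) :=
  (f38 G)
theorem f40 (G : Gens α) : DQ.op (G.g2) (P4 G) = (P16 G) :=
  rfl
theorem f41 (G : Gens α) : DQ.op (G.g2) (P16 G) = (P4 G) :=
  DQ.op_op (G.g2) (P4 G)
theorem f42 (G : Gens α) : DQ.op (G.g3) (P4 G) = (P17 G) :=
  rfl
theorem f43 (G : Gens α) : DQ.op (G.g3) (P17 G) = (P4 G) :=
  DQ.op_op (G.g3) (P4 G)
theorem f44 (G : Gens α) : DQ.op (G.g1) (P5 G) = (P18 G) :=
  rfl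
theorem f45 (G : Gens α) : DQ.op (G.g1) (P18 G) = (P5 G) :=
  DQ.op_op (G.g1) (P5 G)
theorem f46 (G : Gens α) : DQ.op (G.g3) (P5 G) = (P19 G) :=
  rfl
theorem f47 (G : Gens α) : DQ.op (G.g3) (P19 G) = (P5 G) :=
  DQ.op_op (G.g3) (P5 G)
theorem f48 (G : Gens α) : DQ.op (G.g1) (P6 G) = (P20 G) :=
  rfl
theorem f49 (G : Gens α) : DQ.op (G.g1) (P20 G) = (P6 G) :=
  DQ.op_op (G.g1) (P6 G)
theorem f50 (G : Gens α) : DQ.op (G.g2) (P6 G) = (P21 G) :=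
  rfl
theorem f51 (G : Gens α) : DQ.op (G.g2) (P21 G) = (P6 G) :=
  DQ.op_op (G.g2) (P6 G)
theorem f52 (G : Gens α) : DQ.op (G.g0) (P8 G) = (P22 G) :=
  rfl
theorem f53 (G : Gens α) : DQ.op (G.g0) (P22 G) = (P8 G) :=
  DQ.op_op (G.g0) (P8 G)
theorem f54 (G : Gens α) : DQ.op (G.g3) (P8 G) = (P23 G) :=
  rfl
theorem f55 (G : Gens α) : DQ.op (G.g3) (P23 G) = (P8 G) :=
  DQ.op_op (G.g3) (P8 G)
theorem f56 (G : Gens α) : DQ.op (G.g0) (P9 G) = (P24 G) :=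
  rfl
theorem f57 (G : Gens α) : DQ.op (G.g0) (P24 G) = (P9 G) :=
  DQ.op_op (G.g0) (P9 G)
theorem f58 (G : Gens α) : DQ.op (G.g2) (P9 G) = (P25 G) :=
  rfl
theorem f59 (G : Gens α) : DQ.op (G.g2) (P25 G) = (P9 G) :=
  DQ.op_op (G.g2) (P9 G)
theorem f60 (G : Gens α) : DQ.op (G.g0) (P12 G) = (P26 G) :=
  rfl
theorem f61 (G : Gens α) : DQ.op (G.g0) (P26 G) = (P12 G) :=
  DQ.op_op (G.g0) (P12 G)
theorem f62 (G : Gens α) : DQ.op (G.g1) (P12 G) = (P27 G) :=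
  rfl
theorem f63 (G : Gens α) : DQ.op (G.g1) (P27 G) = (P12 G) :=
  DQ.op_op (G.g1) (P12 G)
theorem f64 (G : Gens α) : DQ.op (G.g1) (P22 G) = (P16 G) :=
  (congrArg (DQ.op (G.g1)) ((f52 G))).symm.trans ((congrArg (DQ.op (G.g1)) (congrArg (DQ.op (G.g0)) (((f18 G)).trans ((f35 G))))).symm.trans (((w4 G (P2 G)).symm.trans (DQ.comm (P4 G) (G.g2))).trans ((f40 G))))
theorem f65 (G : Gens α) : DQ.op (G.g1) (P16 G) = (P22 G) :=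
  (DQ.flip (f64 G)).symm
theorem f66 (G : Gens α) : DQ.op (G.g1) (P24 G) = (P17 G) :=
  (congrArg (DQ.op (G.g1)) ((f56 G))).symm.trans ((congrArg (DQ.op (G.g1)) (congrArg (DQ.op (G.g0)) (((f24 G)).trans ((f37 G))))).symm.trans (((w4 G (P3 G)).symm.trans (DQ.comm (P4 G) (G.g3))).trans ((f42 G))))
theorem f67 (G : Gens α) : DQ.op (G.g1) (P17 G) = (P24 G) :=
  (DQ.flip (f66 G)).symm
theorem f68 (G : Gens α) : DQ.op (G.g2) (P22 G) = (P18 G) :=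
  (congrArg (DQ.op (G.g2)) ((f65 G))).symm.trans ((congrArg (DQ.op (G.g2)) (congrArg (DQ.op (G.g1)) ((f40 G)))).symm.trans ((DQ.flip ((DQ.flip ((DQ.flip (DQ.braid6 (G.g1) (G.g2) (P4 G))).trans ((f5 G)))).trans ((f6 G)))).trans ((f44 G))))
theorem f69 (G : Gens α) : DQ.op (G.g2) (P18 G) = (P22 G) :=
  (DQ.flip (f68 G)).symm
theorem f70 (G : Gens α) : DQ.op (G.g3) (P24 G) = (P20 G) :=
  (congrArg (DQ.op (G.g3)) ((f67 G))).symm.trans ((congrArg (DQ.op (G.g3)) (congrArg (DQ.op (G.g1)) ((f42 G)))).symm.trans ((DQ.flip ((DQ.flip ((DQ.flip (DQ.braid6 (G.g1) (G.g3) (P4 G))).trans ((f5 G)))).trans ((f8 G)))).trans ((f48 G))))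
theorem f71 (G : Gens α) : DQ.op (G.g3) (P20 G) = (P24 G) :=
  (DQ.flip (f70 G)).symm
theorem f72 (G : Gens α) : DQ.op (G.g2) (P26 G) = (P19 G) :=
  (congrArg (DQ.op (G.g2)) ((f60 G))).symm.trans ((congrArg (DQ.op (G.g2)) (congrArg (DQ.op (G.g0)) (((f26 G)).trans ((f39 G))))).symm.trans (((w5 G (P3 G)).symm.trans (DQ.comm (P5 G) (G.g3))).trans ((f46 G))))
theorem f73 (G : Gens α) : DQ.op (G.g2) (P19 G) = (P26 G) :=
  (DQ.flip (f72 G)).symm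
theorem f74 (G : Gens α) : DQ.op (G.g0) (P18 G) = (P16 G) :=
  (congrArg (DQ.op (G.g0)) ((f44 G))).symm.trans ((DQ.flip ((DQ.flip ((DQ.flip ((DQ.flip (DQ.braid6 (G.g0) (G.g1) (P5 G))).trans ((congrArg (DQ.op (G.g0)) (((f31 G)).symm)).trans ((f17 G))))).trans (((f18 G)).trans ((f35 G))))).trans ((f52 G)))).trans ((f64 G)))
theorem f75 (G : Gens α) : DQ.op (G.g0) (P16 G) = (P18 G) :=
  (DQ.flip (f74 G)).symm
theorem f76 (G : Gens α) : DQ.op (G.g3) (P26 G) = (P21 G) :=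
  (congrArg (DQ.op (G.g3)) ((f73 G))).symm.trans ((congrArg (DQ.op (G.g3)) (congrArg (DQ.op (G.g2)) ((f46 G)))).symm.trans ((DQ.flip ((DQ.flip ((DQ.flip (DQ.braid6 (G.g2) (G.g3) (P5 G))).trans ((f7 G)))).trans ((f8 G)))).trans ((f50 G))))
theorem f77 (G : Gens α) : DQ.op (G.g3) (P21 G) = (P26 G) :=
  (DQ.flip (f76 G)).symm
theorem f78 (G : Gens α) : DQ.op (G.g0) (P20 G) = (P17 G) :=
  (congrArg (DQ.op (G.g0)) ((f48 G))).symm.trans ((DQ.flip ((DQ.flip ((DQ.flip ((DQ.flip (DQ.braid6 (G.g0) (G.g1) (P6 G))).trans ((congrArg (DQ.op (G.g0)) (((f33 G)).symm)).trans ((f23 G))))).trans (((f24 G)).trans ((f37 G))))).trans ((f56 G)))).trans ((f66 G)))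
theorem f79 (G : Gens α) : DQ.op (G.g0) (P17 G) = (P20 G) :=
  (DQ.flip (f78 G)).symm
theorem f80 (G : Gens α) : DQ.op (G.g0) (P21 G) = (P19 G) :=
  (congrArg (DQ.op (G.g0)) ((f50 G))).symm.trans ((DQ.flip ((DQ.flip ((DQ.flip ((DQ.flip (DQ.braid6 (G.g0) (G.g2) (P6 G))).trans ((congrArg (DQ.op (G.g0)) (((f33 G)).symm)).trans ((f23 G))))).trans (((f26 G)).trans ((f39 G))))).trans ((f60 G)))).trans ((f72 G)))
theorem f81 (G : Gens α) : DQ.op (G.g0) (P19 G) = (P21 G) :=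
  (DQ.flip (f80 G)).symm
theorem f82 (G : Gens α) : DQ.op (G.g2) (P27 G) = (P23 G) :=
  (congrArg (DQ.op (G.g2)) ((f62 G))).symm.trans ((congrArg (DQ.op (G.g2)) (congrArg (DQ.op (G.g1)) (((f26 G)).trans ((f39 G))))).symm.trans (((w8 G (P3 G)).symm.trans (DQ.comm (P8 G) (G.g3))).trans ((f54 G))))
theorem f83 (G : Gens α) : DQ.op (G.g2) (P23 G) = (P27 G) :=
  (DQ.flip (f82 G)).symm
theorem f84 (G : Gens α) : DQ.op (G.g3) (P27 G) = (P25 G) :=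
  (congrArg (DQ.op (G.g3)) ((f83 G))).symm.trans ((congrArg (DQ.op (G.g3)) (congrArg (DQ.op (G.g2)) ((f54 G)))).symm.trans ((DQ.flip ((DQ.flip ((DQ.flip (DQ.braid6 (G.g2) (G.g3) (P8 G))).trans ((f13 G)))).trans ((f14 G)))).trans ((f58 G))))
theorem f85 (G : Gens α) : DQ.op (G.g3) (P25 G) = (P27 G) :=
  (DQ.flip (f84 G)).symm
theorem f86 (G : Gens α) : DQ.op (G.g1) (P25 G) = (P23 G) :=
  (congrArg (DQ.op (G.g1)) ((f58 G))).symm.trans ((DQ.flip ((DQ.flip ((DQ.flip ((DQ.flip (DQ.braid6 (G.g1) (G.g2) (P9 G))).trans ((congrArg (DQ.op (G.g1)) (((f37 G)).symm)).trans ((f25 G))))).trans (((f26 G)).trans ((f39 G))))).trans ((f62 G)))).trans ((f82 G)))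
theorem f87 (G : Gens α) : DQ.op (G.g1) (P23 G) = (P25 G) :=
  (DQ.flip (f86 G)).symm
theorem f88 (G : Gens α) : DQ.op (G.g3) (P16 G) = (P28 G) :=
  rfl
theorem f89 (G : Gens α) : DQ.op (G.g3) (P28 G) = (P16 G) :=
  DQ.op_op (G.g3) (P16 G)
theorem f90 (G : Gens α) : DQ.op (G.g2) (P17 G) = (P29 G) :=
  rfl
theorem f91 (G : Gens α) : DQ.op (G.g2) (P29 G) = (P17 G) :=
  DQ.op_op (G.g2) (P17 G)
theorem f92 (G : Gens α) : DQ.op (G.g3) (P18 G) = (P30 G) :=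
  rfl
theorem f93 (G : Gens α) : DQ.op (G.g3) (P30 G) = (P18 G) :=
  DQ.op_op (G.g3) (P18 G)
theorem f94 (G : Gens α) : DQ.op (G.g1) (P19 G) = (P31 G) :=
  rfl
theorem f95 (G : Gens α) : DQ.op (G.g1) (P31 G) = (P19 G) :=
  DQ.op_op (G.g1) (P19 G)
theorem f96 (G : Gens α) : DQ.op (G.g2) (P20 G) = (P32 G) :=
  rfl
theorem f97 (G : Gens α) : DQ.op (G.g2) (P32 G) = (P20 G) :=
  DQ.op_op (G.g2) (P20 G)
theorem f98 (G : Gens α) : DQ.op (G.g1) (P21 G) = (P33 G) :=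
  rfl
theorem f99 (G : Gens α) : DQ.op (G.g1) (P33 G) = (P21 G) :=
  DQ.op_op (G.g1) (P21 G)
theorem f100 (G : Gens α) : DQ.op (G.g3) (P22 G) = (P34 G) :=
  rfl
theorem f101 (G : Gens α) : DQ.op (G.g3) (P34 G) = (P22 G) :=
  DQ.op_op (G.g3) (P22 G)
theorem f102 (G : Gens α) : DQ.op (G.g0) (P23 G) = (P35 G) :=
  rfl
theorem f103 (G : Gens α) : DQ.op (G.g0) (P35 G) = (P23 G) :=
  DQ.op_op (G.g0) (P23 G)
theorem f104 (G : Gens α) : DQ.op (G.g2) (P24 G) = (P36 G) :=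
  rfl
theorem f105 (G : Gens α) : DQ.op (G.g2) (P36 G) = (P24 G) :=
  DQ.op_op (G.g2) (P24 G)
theorem f106 (G : Gens α) : DQ.op (G.g0) (P25 G) = (P37 G) :=
  rfl
theorem f107 (G : Gens α) : DQ.op (G.g0) (P37 G) = (P25 G) :=
  DQ.op_op (G.g0) (P25 G)
theorem f108 (G : Gens α) : DQ.op (G.g1) (P26 G) = (P38 G) :=
  rfl
theorem f109 (G : Gens α) : DQ.op (G.g1) (P38 G) = (P26 G) :=
  DQ.op_op (G.g1) (P26 G)
theorem f110 (G : Gens α) : DQ.op (G.g0) (P27 G) = (P39 G) :=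
  rfl
theorem f111 (G : Gens α) : DQ.op (G.g0) (P39 G) = (P27 G) :=
  DQ.op_op (G.g0) (P27 G)
theorem f112 (G : Gens α) : DQ.op (G.g0) (P28 G) = (P40 G) :=
  rfl
theorem f113 (G : Gens α) : DQ.op (G.g0) (P40 G) = (P28 G) :=
  DQ.op_op (G.g0) (P28 G)
theorem f114 (G : Gens α) : DQ.op (G.g1) (P28 G) = (P41 G) :=
  rfl
theorem f115 (G : Gens α) : DQ.op (G.g1) (P41 G) = (P28 G) :=
  DQ.op_op (G.g1) (P28 G)
theorem f116 (G : Gens α) : DQ.op (G.g2) (P28 G) = (P42 G) :=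
  rfl
theorem f117 (G : Gens α) : DQ.op (G.g2) (P42 G) = (P28 G) :=
  DQ.op_op (G.g2) (P28 G)
theorem f118 (G : Gens α) : DQ.op (G.g0) (P29 G) = (P43 G) :=
  rfl
theorem f119 (G : Gens α) : DQ.op (G.g0) (P43 G) = (P29 G) :=
  DQ.op_op (G.g0) (P29 G)
theorem f120 (G : Gens α) : DQ.op (G.g1) (P29 G) = (P44 G) :=
  rfl
theorem f121 (G : Gens α) : DQ.op (G.g1) (P44 G) = (P29 G) :=
  DQ.op_op (G.g1) (P29 G)
theorem f122 (G : Gens α) : DQ.op (G.g3) (P29 G) = (P45 G) :=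
  rfl
theorem f123 (G : Gens α) : DQ.op (G.g3) (P45 G) = (P29 G) :=
  DQ.op_op (G.g3) (P29 G)
theorem f124 (G : Gens α) : DQ.op (G.g0) (P30 G) = (P46 G) :=
  rfl
theorem f125 (G : Gens α) : DQ.op (G.g0) (P46 G) = (P30 G) :=
  DQ.op_op (G.g0) (P30 G)
theorem f126 (G : Gens α) : DQ.op (G.g1) (P30 G) = (P47 G) :=
  rfl
theorem f127 (G : Gens α) : DQ.op (G.g1) (P47 G) = (P30 G) :=
  DQ.op_op (G.g1) (P30 G)
theorem f128 (G : Gens α) : DQ.op (G.g2) (P30 G) = (P48 G) :=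
  rfl
theorem f129 (G : Gens α) : DQ.op (G.g2) (P48 G) = (P30 G) :=
  DQ.op_op (G.g2) (P30 G)
theorem f130 (G : Gens α) : DQ.op (G.g0) (P31 G) = (P49 G) :=
  rfl
theorem f131 (G : Gens α) : DQ.op (G.g0) (P49 G) = (P31 G) :=
  DQ.op_op (G.g0) (P31 G)
theorem f132 (G : Gens α) : DQ.op (G.g2) (P31 G) = (P50 G) :=
  rfl
theorem f133 (G : Gens α) : DQ.op (G.g2) (P50 G) = (P31 G) :=
  DQ.op_op (G.g2) (P31 G)
theorem f134 (G : Gens α) : DQ.op (G.g3) (P31 G) = (P51 G) :=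
  rfl
theorem f135 (G : Gens α) : DQ.op (G.g3) (P51 G) = (P31 G) :=
  DQ.op_op (G.g3) (P31 G)
theorem f136 (G : Gens α) : DQ.op (G.g0) (P32 G) = (P52 G) :=
  rfl
theorem f137 (G : Gens α) : DQ.op (G.g0) (P52 G) = (P32 G) :=
  DQ.op_op (G.g0) (P32 G)
theorem f138 (G : Gens α) : DQ.op (G.g1) (P32 G) = (P53 G) :=
  rfl
theorem f139 (G : Gens α) : DQ.op (G.g1) (P53 G) = (P32 G) :=
  DQ.op_op (G.g1) (P32 G)
theorem f140 (G : Gens α) : DQ.op (G.g3) (P32 G) = (P54 G) :=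
  rfl
theorem f141 (G : Gens α) : DQ.op (G.g3) (P54 G) = (P32 G) :=
  DQ.op_op (G.g3) (P32 G)
theorem f142 (G : Gens α) : DQ.op (G.g0) (P33 G) = (P55 G) :=
  rfl
theorem f143 (G : Gens α) : DQ.op (G.g0) (P55 G) = (P33 G) :=
  DQ.op_op (G.g0) (P33 G)
theorem f144 (G : Gens α) : DQ.op (G.g2) (P33 G) = (P56 G) :=
  rfl
theorem f145 (G : Gens α) : DQ.op (G.g2) (P56 G) = (P33 G) :=
  DQ.op_op (G.g2) (P33 G)
theorem f146 (G : Gens α) : DQ.op (G.g3) (P33 G) = (P57 G) :=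
  rfl
theorem f147 (G : Gens α) : DQ.op (G.g3) (P57 G) = (P33 G) :=
  DQ.op_op (G.g3) (P33 G)
theorem f148 (G : Gens α) : DQ.op (G.g0) (P34 G) = (P58 G) :=
  rfl
theorem f149 (G : Gens α) : DQ.op (G.g0) (P58 G) = (P34 G) :=
  DQ.op_op (G.g0) (P34 G)
theorem f150 (G : Gens α) : DQ.op (G.g1) (P34 G) = (P59 G) :=
  rfl
theorem f151 (G : Gens α) : DQ.op (G.g1) (P59 G) = (P34 G) :=
  DQ.op_op (G.g1) (P34 G)
theorem f152 (G : Gens α) : (P45 G) = (P42 G) :=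
  ((f122 G)).symm.trans ((congrArg (DQ.op (G.g3)) ((f90 G))).symm.trans ((congrArg (DQ.op (G.g3)) (congrArg (DQ.op (G.g2)) ((f42 G)))).symm.trans ((DQ.flip ((DQ.flip ((DQ.flip (DQ.braid6 (G.g2) (G.g3) (P4 G))).trans ((f40 G)))).trans ((f88 G)))).trans ((f116 G)))))
theorem f153 (G : Gens α) : (P45 G) = (P42 G) :=
  (f152 G)
theorem f154 (G : Gens α) : (P51 G) = (P47 G) :=
  ((f134 G)).symm.trans ((congrArg (DQ.op (G.g3)) ((f94 G))).symm.trans ((congrArg (DQ.op (G.g3)) (congrArg (DQ.op (G.g1)) ((f46 G)))).symm.trans ((DQ.flip ((DQ.flip ((DQ.flip (DQ.braid6 (G.g1) (G.g3) (P5 G))).trans ((f44 G)))).trans ((f92 G)))).trans ((f126 G)))))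
theorem f155 (G : Gens α) : (P51 G) = (P47 G) :=
  (f154 G)
theorem f156 (G : Gens α) : (P56 G) = (P53 G) :=
  ((f144 G)).symm.trans ((congrArg (DQ.op (G.g2)) ((f98 G))).symm.trans ((congrArg (DQ.op (G.g2)) (congrArg (DQ.op (G.g1)) ((f50 G)))).symm.trans ((DQ.flip ((DQ.flip ((DQ.flip (DQ.braid6 (G.g1) (G.g2) (P6 G))).trans ((f48 G)))).trans ((f96 G)))).trans ((f138 G)))))
theorem f157 (G : Gens α) : (P56 G) = (P53 G) :=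
  (f156 G)
theorem f158 (G : Gens α) : DQ.op (G.g3) (P35 G) = (P58 G) :=
  (congrArg (DQ.op (G.g3)) ((f102 G))).symm.trans ((congrArg (DQ.op (G.g3)) (congrArg (DQ.op (G.g0)) ((f54 G)))).symm.trans ((DQ.flip ((DQ.flip ((DQ.flip (DQ.braid6 (G.g0) (G.g3) (P8 G))).trans ((f52 G)))).trans ((f100 G)))).trans ((f148 G))))
theorem f159 (G : Gens α) : DQ.op (G.g3) (P58 G) = (P35 G) :=
  (DQ.flip (f158 G)).symm
theorem f160 (G : Gens α) : DQ.op (G.g1) (P39 G) = (P42 G) :=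
  (congrArg (DQ.op (G.g1)) ((f110 G))).symm.trans ((congrArg (DQ.op (G.g1)) (congrArg (DQ.op (G.g0)) ((f62 G)))).symm.trans ((congrArg (DQ.op (G.g1)) (congrArg (DQ.op (G.g0)) (congrArg (DQ.op (G.g1)) (((f26 G)).trans ((f39 G)))))).symm.trans ((DQ.flip (((w16 G (P3 G)).symm.trans (DQ.comm (P16 G) (G.g3))).trans ((f88 G)))).trans ((f116 G)))))
theorem f161 (G : Gens α) : DQ.op (G.g1) (P42 G) = (P39 G) :=
  (DQ.flip (f160 G)).symm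
theorem f162 (G : Gens α) : DQ.op (G.g3) (P40 G) = (P46 G) :=
  (congrArg (DQ.op (G.g3)) ((f112 G))).symm.trans ((congrArg (DQ.op (G.g3)) (congrArg (DQ.op (G.g0)) ((f88 G)))).symm.trans ((DQ.flip ((DQ.flip ((DQ.flip (DQ.braid6 (G.g0) (G.g3) (P16 G))).trans ((f75 G)))).trans ((f92 G)))).trans ((f124 G))))
theorem f163 (G : Gens α) : DQ.op (G.g3) (P46 G) = (P40 G) :=
  (DQ.flip (f162 G)).symm
theorem f164 (G : Gens α) : DQ.op (G.g3) (P41 G) = (P59 G) :=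
  (congrArg (DQ.op (G.g3)) ((f114 G))).symm.trans ((congrArg (DQ.op (G.g3)) (congrArg (DQ.op (G.g1)) ((f88 G)))).symm.trans ((DQ.flip ((DQ.flip ((DQ.flip (DQ.braid6 (G.g1) (G.g3) (P16 G))).trans ((f65 G)))).trans ((f100 G)))).trans ((f150 G))))
theorem f165 (G : Gens α) : DQ.op (G.g3) (P59 G) = (P41 G) :=
  (DQ.flip (f164 G)).symm
theorem f166 (G : Gens α) : DQ.op (G.g2) (P43 G) = (P52 G) :=
  (congrArg (DQ.op (G.g2)) ((f118 G))).symm.trans ((congrArg (DQ.op (G.g2)) (congrArg (DQ.op (G.g0)) ((f90 G)))).symm.trans ((DQ.flip ((DQ.flip ((DQ.flip (DQ.braid6 (G.g0) (G.g2) (P17 G))).trans ((f79 G)))).trans ((f96 G)))).trans ((f136 G))))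
theorem f167 (G : Gens α) : DQ.op (G.g2) (P52 G) = (P43 G) :=
  (DQ.flip (f166 G)).symm
theorem f168 (G : Gens α) : DQ.op (G.g2) (P37 G) = (P47 G) :=
  (congrArg (DQ.op (G.g2)) ((f106 G))).symm.trans ((congrArg (DQ.op (G.g2)) (congrArg (DQ.op (G.g0)) ((f58 G)))).symm.trans ((congrArg (DQ.op (G.g2)) (congrArg (DQ.op (G.g0)) (congrArg (DQ.op (G.g2)) (((f24 G)).trans ((f37 G)))))).symm.trans ((DQ.flip (((w18 G (P3 G)).symm.trans (DQ.comm (P18 G) (G.g3))).trans ((f92 G)))).trans ((f126 G)))))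
theorem f169 (G : Gens α) : DQ.op (G.g2) (P47 G) = (P37 G) :=
  (DQ.flip (f168 G)).symm
theorem f170 (G : Gens α) : DQ.op (G.g1) (P49 G) = (P55 G) :=
  (congrArg (DQ.op (G.g1)) ((f130 G))).symm.trans ((congrArg (DQ.op (G.g1)) (congrArg (DQ.op (G.g0)) ((f94 G)))).symm.trans ((DQ.flip ((DQ.flip ((DQ.flip (DQ.braid6 (G.g0) (G.g1) (P19 G))).trans ((f81 G)))).trans ((f98 G)))).trans ((f142 G))))
theorem f171 (G : Gens α) : DQ.op (G.g1) (P55 G) = (P49 G) :=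
  (DQ.flip (f170 G)).symm
theorem f172 (G : Gens α) : (P58 G) = (P53 G) :=
  ((f158 G)).symm.trans ((congrArg (DQ.op (G.g3)) ((f102 G))).symm.trans ((congrArg (DQ.op (G.g3)) (congrArg (DQ.op (G.g0)) ((f54 G)))).symm.trans ((congrArg (DQ.op (G.g3)) (congrArg (DQ.op (G.g0)) (congrArg (DQ.op (G.g3)) (((f18 G)).trans ((f35 G)))))).symm.trans ((DQ.flip (((w20 G (P2 G)).symm.trans (DQ.comm (P20 G) (G.g2))).trans ((f96 G)))).trans ((f138 G))))))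
theorem f173 (G : Gens α) : (P58 G) = (P53 G) :=
  (f172 G)
theorem f174 (G : Gens α) : DQ.op (G.g0) (P47 G) = (P36 G) :=
  (congrArg (DQ.op (G.g0)) (((f134 G)).trans ((f155 G)))).symm.trans ((congrArg (DQ.op (G.g0)) (congrArg (DQ.op (G.g3)) ((f94 G)))).symm.trans ((congrArg (DQ.op (G.g0)) (congrArg (DQ.op (G.g3)) (congrArg (DQ.op (G.g1)) ((f46 G))))).symm.trans ((congrArg (DQ.op (G.g0)) (congrArg (DQ.op (G.g3)) (congrArg (DQ.op (G.g1)) (congrArg (DQ.op (G.g3)) (((f16 G)).trans ((f31 G))))))).symm.trans (((w24 G (P2 G)).symm.trans (DQ.comm (P24 G) (G.g2))).trans ((f104 G))))))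
theorem f175 (G : Gens α) : DQ.op (G.g0) (P36 G) = (P47 G) :=
  (DQ.flip (f174 G)).symm
theorem f176 (G : Gens α) : DQ.op (G.g0) (P42 G) = (P38 G) :=
  (congrArg (DQ.op (G.g0)) (((f122 G)).trans ((f153 G)))).symm.trans ((congrArg (DQ.op (G.g0)) (congrArg (DQ.op (G.g3)) ((f90 G)))).symm.trans ((congrArg (DQ.op (G.g0)) (congrArg (DQ.op (G.g3)) (congrArg (DQ.op (G.g2)) ((f42 G))))).symm.trans ((congrArg (DQ.op (G.g0)) (congrArg (DQ.op (G.g3)) (congrArg (DQ.op (G.g2)) (congrArg (DQ.op (G.g3)) (((f10 G)).trans ((f29 G))))))).symm.trans (((w26 G (P1 G)).symm.trans (DQ.comm (P26 G) (G.g1))).trans ((f108 G))))))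
theorem f177 (G : Gens α) : DQ.op (G.g0) (P38 G) = (P42 G) :=
  (DQ.flip (f176 G)).symm
theorem f178 (G : Gens α) : DQ.op (G.g2) (P49 G) = (P46 G) :=
  (congrArg (DQ.op (G.g2)) ((f171 G))).symm.trans ((congrArg (DQ.op (G.g2)) (congrArg (DQ.op (G.g1)) ((f142 G)))).symm.trans ((congrArg (DQ.op (G.g2)) (congrArg (DQ.op (G.g1)) (congrArg (DQ.op (G.g0)) ((f98 G))))).symm.trans ((congrArg (DQ.op (G.g2)) (congrArg (DQ.op (G.g1)) (congrArg (DQ.op (G.g0)) (congrArg (DQ.op (G.g1)) ((f50 G)))))).symm.trans ((congrArg (DQ.op (G.g2)) (congrArg (DQ.op (G.g1)) (congrArg (DQ.op (G.g0)) (congrArg (DQ.op (G.g1)) (congrArg (DQ.op (G.g2)) ((f8 G))))))).symm.trans ((DQ.flip (((w28 G (P0 G)).symm.trans (DQ.comm (P28 G) (G.g0))).trans ((f112 G)))).trans ((f162 G)))))))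
theorem f179 (G : Gens α) : DQ.op (G.g2) (P46 G) = (P49 G) :=
  (DQ.flip (f178 G)).symm
theorem f180 (G : Gens α) : DQ.op (G.g3) (P55 G) = (P52 G) :=
  (congrArg (DQ.op (G.g3)) ((f170 G))).symm.trans ((congrArg (DQ.op (G.g3)) (congrArg (DQ.op (G.g1)) ((f130 G)))).symm.trans ((congrArg (DQ.op (G.g3)) (congrArg (DQ.op (G.g1)) (congrArg (DQ.op (G.g0)) ((f94 G))))).symm.trans ((congrArg (DQ.op (G.g3)) (congrArg (DQ.op (G.g1)) (congrArg (DQ.op (G.g0)) (congrArg (DQ.op (G.g1)) ((f46 G)))))).symm.trans ((congrArg (DQ.op (G.g3)) (congrArg (DQ.op (G.g1)) (congrArg (DQ.op (G.g0)) (congrArg (DQ.op (G.g1)) (congrArg (DQ.op (G.g3)) ((f6 G))))))).symm.trans ((DQ.flip (((w29 G (P0 G)).symm.trans (DQ.comm (P29 G) (G.g0))).trans ((f118 G)))).trans ((f166 G)))))))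
theorem f181 (G : Gens α) : DQ.op (G.g3) (P52 G) = (P55 G) :=
  (DQ.flip (f180 G)).symm
theorem f182 (G : Gens α) : DQ.op (G.g1) (P43 G) = (P40 G) :=
  (congrArg (DQ.op (G.g1)) ((f167 G))).symm.trans ((congrArg (DQ.op (G.g1)) (congrArg (DQ.op (G.g2)) ((f136 G)))).symm.trans ((congrArg (DQ.op (G.g1)) (congrArg (DQ.op (G.g2)) (congrArg (DQ.op (G.g0)) ((f96 G))))).symm.trans ((congrArg (DQ.op (G.g1)) (congrArg (DQ.op (G.g2)) (congrArg (DQ.op (G.g0)) (congrArg (DQ.op (G.g2)) ((f48 G)))))).symm.trans ((congrArg (DQ.op (G.g1)) (congrArg (DQ.op (G.g2)) (congrArg (DQ.op (G.g0)) (congrArg (DQ.op (G.g2)) (congrArg (DQ.op (G.g1)) ((f8 G))))))).symm.trans ((DQ.flip (((w30 G (P0 G)).symm.trans (DQ.comm (P30 G) (G.g0))).trans ((f124 G)))).trans ((f163 G)))))))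
theorem f183 (G : Gens α) : DQ.op (G.g1) (P40 G) = (P43 G) :=
  (DQ.flip (f182 G)).symm
theorem f184 (G : Gens α) : DQ.op (G.g0) (P48 G) = (P50 G) :=
  (congrArg (DQ.op (G.g0)) ((f128 G))).symm.trans ((DQ.flip ((DQ.flip ((DQ.flip ((DQ.flip (DQ.braid6 (G.g0) (G.g2) (P30 G))).trans ((f124 G)))).trans ((f179 G)))).trans ((f131 G)))).trans ((f132 G)))
theorem f185 (G : Gens α) : DQ.op (G.g0) (P50 G) = (P48 G) :=
  (DQ.flip (f184 G)).symm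
theorem f186 (G : Gens α) : DQ.op (G.g0) (P54 G) = (P57 G) :=
  (congrArg (DQ.op (G.g0)) ((f140 G))).symm.trans ((DQ.flip ((DQ.flip ((DQ.flip ((DQ.flip (DQ.braid6 (G.g0) (G.g3) (P32 G))).trans ((f136 G)))).trans ((f181 G)))).trans ((f143 G)))).trans ((f146 G)))
theorem f187 (G : Gens α) : DQ.op (G.g0) (P57 G) = (P54 G) :=
  (DQ.flip (f186 G)).symm
theorem f188 (G : Gens α) : DQ.op (G.g0) (P44 G) = (P41 G) :=
  (congrArg (DQ.op (G.g0)) ((f120 G))).symm.trans ((congrArg (DQ.op (G.g0)) (congrArg (DQ.op (G.g1)) ((f90 G)))).symm.trans ((congrArg (DQ.op (G.g0)) (congrArg (DQ.op (G.g1)) (congrArg (DQ.op (G.g2)) ((f42 G))))).symm.trans ((congrArg (DQ.op (G.g0)) (congrArg (DQ.op (G.g1)) (congrArg (DQ.op (G.g2)) (congrArg (DQ.op (G.g3)) (((f10 G)).trans ((f29 G))))))).symm.trans ((DQ.flip ((DQ.flip ((DQ.flip ((DQ.flip (((w40 G (P1 G)).symm.trans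 (DQ.comm (P40 G) (G.g1))).trans ((f183 G)))).trans ((f119 G)))).trans (((f122 G)).trans ((f153 G))))).trans ((f117 G)))).trans ((f114 G))))))
theorem f189 (G : Gens α) : DQ.op (G.g0) (P41 G) = (P44 G) :=
  (DQ.flip (f188 G)).symm
theorem f190 (G : Gens α) : DQ.op (G.g2) (P34 G) = (P60 G) :=
  rfl
theorem f191 (G : Gens α) : DQ.op (G.g2) (P60 G) = (P34 G) :=
  DQ.op_op (G.g2) (P34 G)
theorem f192 (G : Gens α) : DQ.op (G.g1) (P35 G) = (P61 G) :=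
  rfl
theorem f193 (G : Gens α) : DQ.op (G.g1) (P61 G) = (P35 G) :=
  DQ.op_op (G.g1) (P35 G)
theorem f194 (G : Gens α) : DQ.op (G.g2) (P35 G) = (P62 G) :=
  rfl
theorem f195 (G : Gens α) : DQ.op (G.g2) (P62 G) = (P35 G) :=
  DQ.op_op (G.g2) (P35 G)
theorem f196 (G : Gens α) : DQ.op (G.g1) (P36 G) = (P63 G) :=
  rfl
theorem f197 (G : Gens α) : DQ.op (G.g1) (P63 G) = (P36 G) :=
  DQ.op_op (G.g1) (P36 G)
theorem f198 (G : Gens α) : DQ.op (G.g3) (P36 G) = (P64 G) :=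
  rfl
theorem f199 (G : Gens α) : DQ.op (G.g3) (P64 G) = (P36 G) :=
  DQ.op_op (G.g3) (P36 G)
theorem f200 (G : Gens α) : DQ.op (G.g1) (P37 G) = (P65 G) :=
  rfl
theorem f201 (G : Gens α) : DQ.op (G.g1) (P65 G) = (P37 G) :=
  DQ.op_op (G.g1) (P37 G)
theorem f202 (G : Gens α) : DQ.op (G.g3) (P37 G) = (P66 G) :=
  rfl
theorem f203 (G : Gens α) : DQ.op (G.g3) (P66 G) = (P37 G) :=
  DQ.op_op (G.g3) (P37 G)
theorem f204 (G : Gens α) : DQ.op (G.g2) (P38 G) = (P67 G) :=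
  rfl
theorem f205 (G : Gens α) : DQ.op (G.g2) (P67 G) = (P38 G) :=
  DQ.op_op (G.g2) (P38 G)
theorem f206 (G : Gens α) : DQ.op (G.g3) (P38 G) = (P68 G) :=
  rfl
theorem f207 (G : Gens α) : DQ.op (G.g3) (P68 G) = (P38 G) :=
  DQ.op_op (G.g3) (P38 G)
theorem f208 (G : Gens α) : DQ.op (G.g2) (P39 G) = (P69 G) :=
  rfl
theorem f209 (G : Gens α) : DQ.op (G.g2) (P69 G) = (P39 G) :=
  DQ.op_op (G.g2) (P39 G)
theorem f210 (G : Gens α) : DQ.op (G.g3) (P39 G) = (P70 G) :=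
  rfl
theorem f211 (G : Gens α) : DQ.op (G.g3) (P70 G) = (P39 G) :=
  DQ.op_op (G.g3) (P39 G)
theorem f212 (G : Gens α) : DQ.op (G.g2) (P40 G) = (P71 G) :=
  rfl
theorem f213 (G : Gens α) : DQ.op (G.g2) (P71 G) = (P40 G) :=
  DQ.op_op (G.g2) (P40 G)
theorem f214 (G : Gens α) : DQ.op (G.g2) (P41 G) = (P72 G) :=
  rfl
theorem f215 (G : Gens α) : DQ.op (G.g2) (P72 G) = (P41 G) :=
  DQ.op_op (G.g2) (P41 G)
theorem f216 (G : Gens α) : DQ.op (G.g3) (P43 G) = (P73 G) :=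
  rfl
theorem f217 (G : Gens α) : DQ.op (G.g3) (P73 G) = (P43 G) :=
  DQ.op_op (G.g3) (P43 G)
theorem f218 (G : Gens α) : DQ.op (G.g2) (P44 G) = (P74 G) :=
  rfl
theorem f219 (G : Gens α) : DQ.op (G.g2) (P74 G) = (P44 G) :=
  DQ.op_op (G.g2) (P44 G)
theorem f220 (G : Gens α) : DQ.op (G.g3) (P44 G) = (P75 G) :=
  rfl
theorem f221 (G : Gens α) : DQ.op (G.g3) (P75 G) = (P44 G) :=
  DQ.op_op (G.g3) (P44 G)
theorem f222 (G : Gens α) : DQ.op (G.g1) (P46 G) = (P76 G) :=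
  rfl
theorem f223 (G : Gens α) : DQ.op (G.g1) (P76 G) = (P46 G) :=
  DQ.op_op (G.g1) (P46 G)
theorem f224 (G : Gens α) : DQ.op (G.g1) (P48 G) = (P77 G) :=
  rfl
theorem f225 (G : Gens α) : DQ.op (G.g1) (P77 G) = (P48 G) :=
  DQ.op_op (G.g1) (P48 G)
theorem f226 (G : Gens α) : DQ.op (G.g3) (P48 G) = (P78 G) :=
  rfl
theorem f227 (G : Gens α) : DQ.op (G.g3) (P78 G) = (P48 G) :=
  DQ.op_op (G.g3) (P48 G)
theorem f228 (G : Gens α) : DQ.op (G.g3) (P49 G) = (P79 G) :=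
  rfl
theorem f229 (G : Gens α) : DQ.op (G.g3) (P79 G) = (P49 G) :=
  DQ.op_op (G.g3) (P49 G)
theorem f230 (G : Gens α) : DQ.op (G.g1) (P50 G) = (P80 G) :=
  rfl
theorem f231 (G : Gens α) : DQ.op (G.g1) (P80 G) = (P50 G) :=
  DQ.op_op (G.g1) (P50 G)
theorem f232 (G : Gens α) : DQ.op (G.g3) (P50 G) = (P81 G) :=
  rfl
theorem f233 (G : Gens α) : DQ.op (G.g3) (P81 G) = (P50 G) :=
  DQ.op_op (G.g3) (P50 G)
theorem f234 (G : Gens α) : DQ.op (G.g1) (P52 G) = (P82 G) :=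
  rfl
theorem f235 (G : Gens α) : DQ.op (G.g1) (P82 G) = (P52 G) :=
  DQ.op_op (G.g1) (P52 G)
theorem f236 (G : Gens α) : DQ.op (G.g1) (P54 G) = (P83 G) :=
  rfl
theorem f237 (G : Gens α) : DQ.op (G.g1) (P83 G) = (P54 G) :=
  DQ.op_op (G.g1) (P54 G)
theorem f238 (G : Gens α) : DQ.op (G.g2) (P54 G) = (P84 G) :=
  rfl
theorem f239 (G : Gens α) : DQ.op (G.g2) (P84 G) = (P54 G) :=
  DQ.op_op (G.g2) (P54 G)
theorem f240 (G : Gens α) : (P74 G) = (P63 G) :=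
  ((f218 G)).symm.trans ((congrArg (DQ.op (G.g2)) ((f120 G))).symm.trans ((congrArg (DQ.op (G.g2)) (congrArg (DQ.op (G.g1)) ((f90 G)))).symm.trans ((DQ.flip ((DQ.flip ((DQ.flip (DQ.braid6 (G.g1) (G.g2) (P17 G))).trans ((f67 G)))).trans ((f104 G)))).trans ((f196 G)))))
theorem f241 (G : Gens α) : (P74 G) = (P63 G) :=
  (f240 G)
theorem f242 (G : Gens α) : (P78 G) = (P60 G) :=
  ((f226 G)).symm.trans ((congrArg (DQ.op (G.g3)) ((f128 G))).symm.trans ((congrArg (DQ.op (G.g3)) (congrArg (DQ.op (G.g2)) ((f92 G)))).symm.trans ((DQ.flip ((DQ.flip ((DQ.flip (DQ.braid6 (G.g2) (G.g3) (P18 G))).trans ((f69 G)))).trans ((f100 G)))).trans ((f190 G)))))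
theorem f243 (G : Gens α) : (P78 G) = (P60 G) :=
  (f242 G)
theorem f244 (G : Gens α) : (P67 G) = (P80 G) :=
  ((f204 G)).symm.trans ((congrArg (DQ.op (G.g2)) ((f108 G))).symm.trans ((congrArg (DQ.op (G.g2)) (congrArg (DQ.op (G.g1)) ((f73 G)))).symm.trans ((DQ.flip ((DQ.flip ((DQ.flip (DQ.braid6 (G.g1) (G.g2) (P19 G))).trans ((f94 G)))).trans ((f132 G)))).trans ((f230 G)))))
theorem f245 (G : Gens α) : (P80 G) = (P67 G) :=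
  ((f244 G)).symm
theorem f246 (G : Gens α) : (P64 G) = (P84 G) :=
  ((f198 G)).symm.trans ((congrArg (DQ.op (G.g3)) ((f104 G))).symm.trans ((congrArg (DQ.op (G.g3)) (congrArg (DQ.op (G.g2)) ((f71 G)))).symm.trans ((DQ.flip ((DQ.flip ((DQ.flip (DQ.braid6 (G.g2) (G.g3) (P20 G))).trans ((f96 G)))).trans ((f140 G)))).trans ((f238 G)))))
theorem f247 (G : Gens α) : (P84 G) = (P64 G) :=
  ((f246 G)).symm
theorem f248 (G : Gens α) : DQ.op (G.g1) (P68 G) = (P57 G) :=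
  (congrArg (DQ.op (G.g1)) ((f206 G))).symm.trans ((congrArg (DQ.op (G.g1)) (congrArg (DQ.op (G.g3)) ((f108 G)))).symm.trans ((congrArg (DQ.op (G.g1)) (congrArg (DQ.op (G.g3)) (congrArg (DQ.op (G.g1)) ((f77 G))))).symm.trans ((DQ.flip ((DQ.flip (DQ.braid6 (G.g1) (G.g3) (P21 G))).trans ((f98 G)))).trans ((f146 G)))))
theorem f249 (G : Gens α) : DQ.op (G.g1) (P57 G) = (P68 G) :=
  (DQ.flip (f248 G)).symm
theorem f250 (G : Gens α) : DQ.op (G.g0) (P65 G) = (P61 G) :=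
  (congrArg (DQ.op (G.g0)) ((f200 G))).symm.trans ((congrArg (DQ.op (G.g0)) (congrArg (DQ.op (G.g1)) ((f106 G)))).symm.trans ((congrArg (DQ.op (G.g0)) (congrArg (DQ.op (G.g1)) (congrArg (DQ.op (G.g0)) ((f87 G))))).symm.trans ((DQ.flip ((DQ.flip (DQ.braid6 (G.g0) (G.g1) (P23 G))).trans ((f102 G)))).trans ((f192 G)))))
theorem f251 (G : Gens α) : DQ.op (G.g0) (P61 G) = (P65 G) :=
  (DQ.flip (f250 G)).symm
theorem f252 (G : Gens α) : DQ.op (G.g0) (P69 G) = (P62 G) :=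
  (congrArg (DQ.op (G.g0)) ((f208 G))).symm.trans ((congrArg (DQ.op (G.g0)) (congrArg (DQ.op (G.g2)) ((f110 G)))).symm.trans ((congrArg (DQ.op (G.g0)) (congrArg (DQ.op (G.g2)) (congrArg (DQ.op (G.g0)) ((f83 G))))).symm.trans ((DQ.flip ((DQ.flip (DQ.braid6 (G.g0) (G.g2) (P23 G))).trans ((f102 G)))).trans ((f194 G)))))
theorem f253 (G : Gens α) : DQ.op (G.g0) (P62 G) = (P69 G) :=
  (DQ.flip (f252 G)).symm
theorem f254 (G : Gens α) : DQ.op (G.g0) (P70 G) = (P66 G) :=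
  (congrArg (DQ.op (G.g0)) ((f210 G))).symm.trans ((congrArg (DQ.op (G.g0)) (congrArg (DQ.op (G.g3)) ((f110 G)))).symm.trans ((congrArg (DQ.op (G.g0)) (congrArg (DQ.op (G.g3)) (congrArg (DQ.op (G.g0)) ((f85 G))))).symm.trans ((DQ.flip ((DQ.flip (DQ.braid6 (G.g0) (G.g3) (P25 G))).trans ((f106 G)))).trans ((f202 G)))))
theorem f255 (G : Gens α) : DQ.op (G.g0) (P66 G) = (P70 G) :=
  (DQ.flip (f254 G)).symm
theorem f256 (G : Gens α) : DQ.op (G.g2) (P61 G) = (P59 G) :=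
  (congrArg (DQ.op (G.g2)) ((f192 G))).symm.trans ((congrArg (DQ.op (G.g2)) (congrArg (DQ.op (G.g1)) ((f102 G)))).symm.trans ((congrArg (DQ.op (G.g2)) (congrArg (DQ.op (G.g1)) (congrArg (DQ.op (G.g0)) ((f86 G))))).symm.trans ((congrArg (DQ.op (G.g2)) (congrArg (DQ.op (G.g1)) (congrArg (DQ.op (G.g0)) (congrArg (DQ.op (G.g1)) ((f58 G)))))).symm.trans ((congrArg (DQ.op (G.g2)) (congrArg (DQ.op (G.g1)) (congrArg (DQ.op (G.g0)) (congrArg (DQ.op (G.g1)) (congrArg (DQ.op (G.g2)) ((f14 G))))))).symm.trans ((DQ.flip (((w28 G (P1 G)).symm.trans (DQ.comm (P28 G) (G.g1))).trans ((f114 G)))).trans ((f164 G)))))))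
theorem f257 (G : Gens α) : DQ.op (G.g2) (P59 G) = (P61 G) :=
  (DQ.flip (f256 G)).symm
theorem f258 (G : Gens α) : DQ.op (G.g0) (P67 G) = (P71 G) :=
  (congrArg (DQ.op (G.g0)) ((f204 G))).symm.trans ((congrArg (DQ.op (G.g0)) (congrArg (DQ.op (G.g2)) ((f176 G)))).symm.trans ((congrArg (DQ.op (G.g0)) (congrArg (DQ.op (G.g2)) (congrArg (DQ.op (G.g0)) ((f116 G))))).symm.trans ((DQ.flip ((DQ.flip (DQ.braid6 (G.g0) (G.g2) (P28 G))).trans ((f112 G)))).trans ((f212 G)))))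
theorem f259 (G : Gens α) : DQ.op (G.g0) (P71 G) = (P67 G) :=
  (DQ.flip (f258 G)).symm
theorem f260 (G : Gens α) : DQ.op (G.g1) (P69 G) = (P72 G) :=
  (congrArg (DQ.op (G.g1)) ((f208 G))).symm.trans ((congrArg (DQ.op (G.g1)) (congrArg (DQ.op (G.g2)) ((f161 G)))).symm.trans ((congrArg (DQ.op (G.g1)) (congrArg (DQ.op (G.g2)) (congrArg (DQ.op (G.g1)) ((f116 G))))).symm.trans ((DQ.flip ((DQ.flip (DQ.braid6 (G.g1) (G.g2) (P28 G))).trans ((f114 G)))).trans ((f214 G)))))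
theorem f261 (G : Gens α) : DQ.op (G.g1) (P72 G) = (P69 G) :=
  (DQ.flip (f260 G)).symm
theorem f262 (G : Gens α) : DQ.op (G.g3) (P65 G) = (P63 G) :=
  (congrArg (DQ.op (G.g3)) ((f200 G))).symm.trans ((congrArg (DQ.op (G.g3)) (congrArg (DQ.op (G.g1)) ((f106 G)))).symm.trans ((congrArg (DQ.op (G.g3)) (congrArg (DQ.op (G.g1)) (congrArg (DQ.op (G.g0)) ((f87 G))))).symm.trans ((congrArg (DQ.op (G.g3)) (congrArg (DQ.op (G.g1)) (congrArg (DQ.op (G.g0)) (congrArg (DQ.op (G.g1)) ((f54 G)))))).symm.trans ((congrArg (DQ.op (G.g3)) (congrArg (DQ.op (G.g1)) (congrArg (DQ.op (G.g0)) (congrArg (DQ.op (G.g1)) (congrArg (DQ.op (G.g3)) ((f12 G))))))).symm.trans ((DQ.flip (((w29 G (P1 G)).symm.trans (DQ.comm (P29 G) (G.g1))).trans ((f120 G)))).trans (((f218 G)).trans ((f241 G))))))))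
theorem f263 (G : Gens α) : DQ.op (G.g3) (P63 G) = (P65 G) :=
  (DQ.flip (f262 G)).symm
theorem f264 (G : Gens α) : DQ.op (G.g0) (P68 G) = (P73 G) :=
  (congrArg (DQ.op (G.g0)) ((f206 G))).symm.trans ((congrArg (DQ.op (G.g0)) (congrArg (DQ.op (G.g3)) ((f176 G)))).symm.trans ((congrArg (DQ.op (G.g0)) (congrArg (DQ.op (G.g3)) (congrArg (DQ.op (G.g0)) (((f122 G)).trans ((f153 G)))))).symm.trans ((DQ.flip ((DQ.flip (DQ.braid6 (G.g0) (G.g3) (P29 G))).trans ((f118 G)))).trans ((f216 G)))))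
theorem f265 (G : Gens α) : DQ.op (G.g0) (P73 G) = (P68 G) :=
  (DQ.flip (f264 G)).symm
theorem f266 (G : Gens α) : DQ.op (G.g1) (P70 G) = (P75 G) :=
  (congrArg (DQ.op (G.g1)) ((f210 G))).symm.trans ((congrArg (DQ.op (G.g1)) (congrArg (DQ.op (G.g3)) ((f161 G)))).symm.trans ((congrArg (DQ.op (G.g1)) (congrArg (DQ.op (G.g3)) (congrArg (DQ.op (G.g1)) (((f122 G)).trans ((f153 G)))))).symm.trans ((DQ.flip ((DQ.flip (DQ.braid6 (G.g1) (G.g3) (P29 G))).trans ((f120 G)))).trans ((f220 G)))))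
theorem f267 (G : Gens α) : DQ.op (G.g1) (P75 G) = (P70 G) :=
  (DQ.flip (f266 G)).symm
theorem f268 (G : Gens α) : DQ.op (G.g1) (P62 G) = (P60 G) :=
  (congrArg (DQ.op (G.g1)) ((f194 G))).symm.trans ((congrArg (DQ.op (G.g1)) (congrArg (DQ.op (G.g2)) ((f102 G)))).symm.trans ((congrArg (DQ.op (G.g1)) (congrArg (DQ.op (G.g2)) (congrArg (DQ.op (G.g0)) ((f82 G))))).symm.trans ((congrArg (DQ.op (G.g1)) (congrArg (DQ.op (G.g2)) (congrArg (DQ.op (G.g0)) (congrArg (DQ.op (G.g2)) ((f62 G)))))).symm.trans ((congrArg (DQ.op (G.g1)) (congrArg (DQ.op (G.g2)) (congrArg (DQ.op (G.g0)) (congrArg (DQ.op (G.g2)) (congrArg (DQ.op (G.g1)) ((f20 G))))))).symm.trans ((DQ.flip (((w30 G (P2 G)).symm.trans (DQ.comm (P30 G) (G.g2))).trans ((f128 G)))).trans (((f226 G)).trans ((f243 G))))))))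
theorem f269 (G : Gens α) : DQ.op (G.g1) (P60 G) = (P62 G) :=
  (DQ.flip (f268 G)).symm
theorem f270 (G : Gens α) : DQ.op (G.g0) (P63 G) = (P76 G) :=
  (congrArg (DQ.op (G.g0)) ((f196 G))).symm.trans ((congrArg (DQ.op (G.g0)) (congrArg (DQ.op (G.g1)) ((f174 G)))).symm.trans ((congrArg (DQ.op (G.g0)) (congrArg (DQ.op (G.g1)) (congrArg (DQ.op (G.g0)) ((f126 G))))).symm.trans ((DQ.flip ((DQ.flip (DQ.braid6 (G.g0) (G.g1) (P30 G))).trans ((f124 G)))).trans ((f222 G)))))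
theorem f271 (G : Gens α) : DQ.op (G.g0) (P76 G) = (P63 G) :=
  (DQ.flip (f270 G)).symm
theorem f272 (G : Gens α) : DQ.op (G.g2) (P77 G) = (P65 G) :=
  (congrArg (DQ.op (G.g2)) ((f224 G))).symm.trans ((congrArg (DQ.op (G.g2)) (congrArg (DQ.op (G.g1)) ((f128 G)))).symm.trans ((DQ.flip ((DQ.flip ((DQ.flip (DQ.braid6 (G.g1) (G.g2) (P30 G))).trans ((f126 G)))).trans ((f169 G)))).trans ((f200 G))))
theorem f273 (G : Gens α) : DQ.op (G.g2) (P65 G) = (P77 G) :=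
  (DQ.flip (f272 G)).symm
theorem f274 (G : Gens α) : DQ.op (G.g3) (P69 G) = (P67 G) :=
  (congrArg (DQ.op (G.g3)) ((f208 G))).symm.trans ((congrArg (DQ.op (G.g3)) (congrArg (DQ.op (G.g2)) ((f110 G)))).symm.trans ((congrArg (DQ.op (G.g3)) (congrArg (DQ.op (G.g2)) (congrArg (DQ.op (G.g0)) ((f83 G))))).symm.trans ((congrArg (DQ.op (G.g3)) (congrArg (DQ.op (G.g2)) (congrArg (DQ.op (G.g0)) (congrArg (DQ.op (G.g2)) ((f54 G)))))).symm.trans ((congrArg (DQ.op (G.g3)) (congrArg (DQ.op (G.g2)) (congrArg (DQ.op (G.g0)) (congrArg (DQ.op (G.g2)) (congrArg (DQ.op (G.g3)) (((f18 G)).trans ((f35 G)))))))).symm.trans ((DQ.flip (((w31 G (P2 G)).symm.trans (DQ.comm (P31 G) (G.g2))).trans ((f132 G)))).trans (((f230 G)).trans ((f245 G))))))))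
theorem f275 (G : Gens α) : DQ.op (G.g3) (P67 G) = (P69 G) :=
  (DQ.flip (f274 G)).symm
theorem f276 (G : Gens α) : DQ.op (G.g0) (P64 G) = (P79 G) :=
  (congrArg (DQ.op (G.g0)) ((f198 G))).symm.trans ((congrArg (DQ.op (G.g0)) (congrArg (DQ.op (G.g3)) ((f174 G)))).symm.trans ((congrArg (DQ.op (G.g0)) (congrArg (DQ.op (G.g3)) (congrArg (DQ.op (G.g0)) (((f134 G)).trans ((f155 G)))))).symm.trans ((DQ.flip ((DQ.flip (DQ.braid6 (G.g0) (G.g3) (P31 G))).trans ((f130 G)))).trans ((f228 G)))))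
theorem f277 (G : Gens α) : DQ.op (G.g0) (P79 G) = (P64 G) :=
  (DQ.flip (f276 G)).symm
theorem f278 (G : Gens α) : DQ.op (G.g2) (P66 G) = (P81 G) :=
  (congrArg (DQ.op (G.g2)) ((f202 G))).symm.trans ((congrArg (DQ.op (G.g2)) (congrArg (DQ.op (G.g3)) ((f169 G)))).symm.trans ((congrArg (DQ.op (G.g2)) (congrArg (DQ.op (G.g3)) (congrArg (DQ.op (G.g2)) (((f134 G)).trans ((f155 G)))))).symm.trans ((DQ.flip ((DQ.flip (DQ.braid6 (G.g2) (G.g3) (P31 G))).trans ((f132 G)))).trans ((f232 G)))))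
theorem f279 (G : Gens α) : DQ.op (G.g2) (P81 G) = (P66 G) :=
  (DQ.flip (f278 G)).symm
theorem f280 (G : Gens α) : DQ.op (G.g1) (P66 G) = (P64 G) :=
  (congrArg (DQ.op (G.g1)) ((f202 G))).symm.trans ((congrArg (DQ.op (G.g1)) (congrArg (DQ.op (G.g3)) ((f106 G)))).symm.trans ((congrArg (DQ.op (G.g1)) (congrArg (DQ.op (G.g3)) (congrArg (DQ.op (G.g0)) ((f84 G))))).symm.trans ((congrArg (DQ.op (G.g1)) (congrArg (DQ.op (G.g3)) (congrArg (DQ.op (G.g0)) (congrArg (DQ.op (G.g3)) ((f62 G)))))).symm.trans ((congrArg (DQ.op (G.g1)) (congrArg (DQ.op (G.g3)) (congrArg (DQ.op (G.g0)) (congrArg (DQ.op (G.g3)) (congrArg (DQ.op (G.g1)) (((f26 G)).trans ((f39 G)))))))).symm.trans ((DQ.flip (((w32 G (P3 G)).symm.trans (DQ.comm (P32 G) (G.g3))).trans ((f140 G)))).trans (((f238 G)).trans ((f247 G))))))))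
theorem f281 (G : Gens α) : DQ.op (G.g1) (P64 G) = (P66 G) :=
  (DQ.flip (f280 G)).symm
theorem f282 (G : Gens α) : DQ.op (G.g0) (P59 G) = (P82 G) :=
  (congrArg (DQ.op (G.g0)) ((f150 G))).symm.trans ((congrArg (DQ.op (G.g0)) (congrArg (DQ.op (G.g1)) ((congrArg (DQ.op (G.g0)) (((f173 G)).symm)).trans ((f149 G))))).symm.trans ((congrArg (DQ.op (G.g0)) (congrArg (DQ.op (G.g1)) (congrArg (DQ.op (G.g0)) ((f138 G))))).symm.trans ((DQ.flip ((DQ.flip (DQ.braid6 (G.g0) (G.g1) (P32 G))).trans ((f136 G)))).trans ((f234 G)))))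
theorem f283 (G : Gens α) : DQ.op (G.g0) (P82 G) = (P59 G) :=
  (DQ.flip (f282 G)).symm
theorem f284 (G : Gens α) : DQ.op (G.g3) (P83 G) = (P61 G) :=
  (congrArg (DQ.op (G.g3)) ((f236 G))).symm.trans ((congrArg (DQ.op (G.g3)) (congrArg (DQ.op (G.g1)) ((f140 G)))).symm.trans ((DQ.flip ((DQ.flip ((DQ.flip (DQ.braid6 (G.g1) (G.g3) (P32 G))).trans ((f138 G)))).trans ((congrArg (DQ.op (G.g3)) (((f173 G)).symm)).trans ((f159 G))))).trans ((f192 G))))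
theorem f285 (G : Gens α) : DQ.op (G.g3) (P61 G) = (P83 G) :=
  (DQ.flip (f284 G)).symm
theorem f286 (G : Gens α) : DQ.op (G.g2) (P70 G) = (P68 G) :=
  (congrArg (DQ.op (G.g2)) ((f210 G))).symm.trans ((congrArg (DQ.op (G.g2)) (congrArg (DQ.op (G.g3)) ((f110 G)))).symm.trans ((congrArg (DQ.op (G.g2)) (congrArg (DQ.op (G.g3)) (congrArg (DQ.op (G.g0)) ((f85 G))))).symm.trans ((congrArg (DQ.op (G.g2)) (congrArg (DQ.op (G.g3)) (congrArg (DQ.op (G.g0)) (congrArg (DQ.op (G.g3)) ((f58 G)))))).symm.trans ((congrArg (DQ.op (G.g2)) (congrArg (DQ.op (G.g3)) (congrArg (DQ.op (G.g0)) (congrArg (DQ.op (G.g3)) (congrArg (DQ.op (G.g2)) (((f24 G)).trans ((f37 G)))))))).symm.trans ((DQ.flip (((w33 G (P3 G)).symm.trans (DQ.comm (P33 G) (G.g3))).trans ((f146 G)))).trans ((f249 G)))))))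
theorem f287 (G : Gens α) : DQ.op (G.g2) (P68 G) = (P70 G) :=
  (DQ.flip (f286 G)).symm
theorem f288 (G : Gens α) : DQ.op (G.g2) (P55 G) = (P85 G) :=
  rfl
theorem f289 (G : Gens α) : DQ.op (G.g2) (P85 G) = (P55 G) :=
  DQ.op_op (G.g2) (P55 G)
theorem f290 (G : Gens α) : DQ.op (G.g2) (P57 G) = (P86 G) :=
  rfl
theorem f291 (G : Gens α) : DQ.op (G.g2) (P86 G) = (P57 G) :=
  DQ.op_op (G.g2) (P57 G)
theorem f292 (G : Gens α) : DQ.op (G.g0) (P60 G) = (P87 G) :=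
  rfl
theorem f293 (G : Gens α) : DQ.op (G.g0) (P87 G) = (P60 G) :=
  DQ.op_op (G.g0) (P60 G)
theorem f294 (G : Gens α) : DQ.op (G.g3) (P62 G) = (P88 G) :=
  rfl
theorem f295 (G : Gens α) : DQ.op (G.g3) (P88 G) = (P62 G) :=
  DQ.op_op (G.g3) (P62 G)
theorem f296 (G : Gens α) : DQ.op (G.g1) (P71 G) = (P89 G) :=
  rfl
theorem f297 (G : Gens α) : DQ.op (G.g1) (P89 G) = (P71 G) :=
  DQ.op_op (G.g1) (P71 G)
theorem f298 (G : Gens α) : DQ.op (G.g3) (P71 G) = (P90 G) :=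
  rfl
theorem f299 (G : Gens α) : DQ.op (G.g3) (P90 G) = (P71 G) :=
  DQ.op_op (G.g3) (P71 G)
theorem f300 (G : Gens α) : DQ.op (G.g0) (P72 G) = (P91 G) :=
  rfl
theorem f301 (G : Gens α) : DQ.op (G.g0) (P91 G) = (P72 G) :=
  DQ.op_op (G.g0) (P72 G)
theorem f302 (G : Gens α) : DQ.op (G.g3) (P72 G) = (P92 G) :=
  rfl
theorem f303 (G : Gens α) : DQ.op (G.g3) (P92 G) = (P72 G) :=
  DQ.op_op (G.g3) (P72 G)
theorem f304 (G : Gens α) : DQ.op (G.g1) (P73 G) = (P93 G) :=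
  rfl
theorem f305 (G : Gens α) : DQ.op (G.g1) (P93 G) = (P73 G) :=
  DQ.op_op (G.g1) (P73 G)
theorem f306 (G : Gens α) : DQ.op (G.g2) (P73 G) = (P94 G) :=
  rfl
theorem f307 (G : Gens α) : DQ.op (G.g2) (P94 G) = (P73 G) :=
  DQ.op_op (G.g2) (P73 G)
theorem f308 (G : Gens α) : DQ.op (G.g0) (P75 G) = (P95 G) :=
  rfl
theorem f309 (G : Gens α) : DQ.op (G.g0) (P95 G) = (P75 G) :=
  DQ.op_op (G.g0) (P75 G)
theorem f310 (G : Gens α) : DQ.op (G.g2) (P75 G) = (P96 G) :=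
  rfl
theorem f311 (G : Gens α) : DQ.op (G.g2) (P96 G) = (P75 G) :=
  DQ.op_op (G.g2) (P75 G)
theorem f312 (G : Gens α) : DQ.op (G.g2) (P76 G) = (P97 G) :=
  rfl
theorem f313 (G : Gens α) : DQ.op (G.g2) (P97 G) = (P76 G) :=
  DQ.op_op (G.g2) (P76 G)
theorem f314 (G : Gens α) : DQ.op (G.g3) (P76 G) = (P98 G) :=
  rfl
theorem f315 (G : Gens α) : DQ.op (G.g3) (P98 G) = (P76 G) :=
  DQ.op_op (G.g3) (P76 G)
theorem f316 (G : Gens α) : DQ.op (G.g0) (P77 G) = (P99 G) :=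
  rfl
theorem f317 (G : Gens α) : DQ.op (G.g0) (P99 G) = (P77 G) :=
  DQ.op_op (G.g0) (P77 G)
theorem f318 (G : Gens α) : DQ.op (G.g3) (P77 G) = (P100 G) :=
  rfl
theorem f319 (G : Gens α) : DQ.op (G.g3) (P100 G) = (P77 G) :=
  DQ.op_op (G.g3) (P77 G)
theorem f320 (G : Gens α) : DQ.op (G.g1) (P79 G) = (P101 G) :=
  rfl
theorem f321 (G : Gens α) : DQ.op (G.g1) (P101 G) = (P79 G) :=
  DQ.op_op (G.g1) (P79 G)
theorem f322 (G : Gens α) : DQ.op (G.g2) (P79 G) = (P102 G) :=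
  rfl
theorem f323 (G : Gens α) : DQ.op (G.g2) (P102 G) = (P79 G) :=
  DQ.op_op (G.g2) (P79 G)
theorem f324 (G : Gens α) : DQ.op (G.g0) (P81 G) = (P103 G) :=
  rfl
theorem f325 (G : Gens α) : DQ.op (G.g0) (P103 G) = (P81 G) :=
  DQ.op_op (G.g0) (P81 G)
theorem f326 (G : Gens α) : DQ.op (G.g1) (P81 G) = (P104 G) :=
  rfl
theorem f327 (G : Gens α) : DQ.op (G.g1) (P104 G) = (P81 G) :=
  DQ.op_op (G.g1) (P81 G)
theorem f328 (G : Gens α) : DQ.op (G.g2) (P82 G) = (P105 G) :=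
  rfl
theorem f329 (G : Gens α) : DQ.op (G.g2) (P105 G) = (P82 G) :=
  DQ.op_op (G.g2) (P82 G)
theorem f330 (G : Gens α) : DQ.op (G.g3) (P82 G) = (P106 G) :=
  rfl
theorem f331 (G : Gens α) : DQ.op (G.g3) (P106 G) = (P82 G) :=
  DQ.op_op (G.g3) (P82 G)
theorem f332 (G : Gens α) : DQ.op (G.g0) (P83 G) = (P107 G) :=
  rfl
theorem f333 (G : Gens α) : DQ.op (G.g0) (P107 G) = (P83 G) :=
  DQ.op_op (G.g0) (P83 G)
theorem f334 (G : Gens α) : DQ.op (G.g2) (P83 G) = (P108 G) :=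
  rfl
theorem f335 (G : Gens α) : DQ.op (G.g2) (P108 G) = (P83 G) :=
  DQ.op_op (G.g2) (P83 G)
theorem f336 (G : Gens α) : (P87 G) = (P85 G) :=
  ((f292 G)).symm.trans ((congrArg (DQ.op (G.g0)) ((f190 G))).symm.trans ((congrArg (DQ.op (G.g0)) (congrArg (DQ.op (G.g2)) ((congrArg (DQ.op (G.g0)) (((f173 G)).symm)).trans ((f149 G))))).symm.trans ((congrArg (DQ.op (G.g0)) (congrArg (DQ.op (G.g2)) (congrArg (DQ.op (G.g0)) (((f144 G)).trans ((f157 G)))))).symm.trans ((DQ.flip ((DQ.flip (DQ.braid6 (G.g0) (G.g2) (P33 G))).trans ((f142 G)))).trans ((f288 G))))))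
theorem f337 (G : Gens α) : (P87 G) = (P85 G) :=
  (f336 G)
theorem f338 (G : Gens α) : (P86 G) = (P88 G) :=
  ((f290 G)).symm.trans ((congrArg (DQ.op (G.g2)) ((f146 G))).symm.trans ((DQ.flip ((DQ.flip ((DQ.flip ((DQ.flip (DQ.braid6 (G.g2) (G.g3) (P33 G))).trans (((f144 G)).trans ((f157 G))))).trans ((congrArg (DQ.op (G.g3)) (((f173 G)).symm)).trans ((f159 G))))).trans ((f194 G)))).trans ((f294 G))))
theorem f339 (G : Gens α) : (P88 G) = (P86 G) :=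
  ((f338 G)).symm
theorem f340 (G : Gens α) : (P89 G) = (P105 G) :=
  ((f296 G)).symm.trans ((congrArg (DQ.op (G.g1)) ((f212 G))).symm.trans ((DQ.flip ((DQ.flip ((DQ.flip ((DQ.flip (DQ.braid6 (G.g1) (G.g2) (P40 G))).trans ((f183 G)))).trans ((f166 G)))).trans ((f234 G)))).trans ((f328 G))))
theorem f341 (G : Gens α) : (P105 G) = (P89 G) :=
  ((f340 G)).symm
theorem f342 (G : Gens α) : (P98 G) = (P93 G) :=
  ((f314 G)).symm.trans ((congrArg (DQ.op (G.g3)) ((f222 G))).symm.trans ((congrArg (DQ.op (G.g3)) (congrArg (DQ.op (G.g1)) ((f162 G)))).symm.trans ((DQ.flip ((DQ.flip ((DQ.flip (DQ.braid6 (G.g1) (G.g3) (P40 G))).trans ((f183 G)))).trans ((f216 G)))).trans ((f304 G)))))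
theorem f343 (G : Gens α) : (P98 G) = (P93 G) :=
  (f342 G)
theorem f344 (G : Gens α) : (P102 G) = (P90 G) :=
  ((f322 G)).symm.trans ((congrArg (DQ.op (G.g2)) ((f228 G))).symm.trans ((congrArg (DQ.op (G.g2)) (congrArg (DQ.op (G.g3)) ((f179 G)))).symm.trans ((congrArg (DQ.op (G.g2)) (congrArg (DQ.op (G.g3)) (congrArg (DQ.op (G.g2)) ((f162 G))))).symm.trans ((DQ.flip ((DQ.flip (DQ.braid6 (G.g2) (G.g3) (P40 G))).trans ((f212 G)))).trans ((f298 G))))))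
theorem f345 (G : Gens α) : (P102 G) = (P90 G) :=
  (f344 G)
theorem f346 (G : Gens α) : (P91 G) = (P97 G) :=
  ((f300 G)).symm.trans ((congrArg (DQ.op (G.g0)) ((f214 G))).symm.trans ((DQ.flip ((DQ.flip ((DQ.flip ((DQ.flip (DQ.braid6 (G.g0) (G.g2) (P41 G))).trans ((f189 G)))).trans (((f218 G)).trans ((f241 G))))).trans ((f270 G)))).trans ((f312 G))))
theorem f347 (G : Gens α) : (P97 G) = (P91 G) :=
  ((f346 G)).symm
theorem f348 (G : Gens α) : (P106 G) = (P95 G) :=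
  ((f330 G)).symm.trans ((congrArg (DQ.op (G.g3)) ((f282 G))).symm.trans ((congrArg (DQ.op (G.g3)) (congrArg (DQ.op (G.g0)) ((f164 G)))).symm.trans ((DQ.flip ((DQ.flip ((DQ.flip (DQ.braid6 (G.g0) (G.g3) (P41 G))).trans ((f189 G)))).trans ((f220 G)))).trans ((f308 G)))))
theorem f349 (G : Gens α) : (P106 G) = (P95 G) :=
  (f348 G)
theorem f350 (G : Gens α) : (P108 G) = (P92 G) :=
  ((f334 G)).symm.trans ((congrArg (DQ.op (G.g2)) ((f285 G))).symm.trans ((congrArg (DQ.op (G.g2)) (congrArg (DQ.op (G.g3)) ((f257 G)))).symm.trans ((congrArg (DQ.op (G.g2)) (congrArg (DQ.op (G.g3)) (congrArg (DQ.op (G.g2)) ((f164 G))))).symm.trans ((DQ.flip ((DQ.flip (DQ.braid6 (G.g2) (G.g3) (P41 G))).trans ((f214 G)))).trans ((f302 G))))))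
theorem f351 (G : Gens α) : (P108 G) = (P92 G) :=
  (f350 G)
theorem f352 (G : Gens α) : DQ.op (G.g3) (P94 G) = (P85 G) :=
  (congrArg (DQ.op (G.g3)) ((f306 G))).symm.trans ((congrArg (DQ.op (G.g3)) (congrArg (DQ.op (G.g2)) ((f216 G)))).symm.trans ((DQ.flip ((DQ.flip ((DQ.flip (DQ.braid6 (G.g2) (G.g3) (P43 G))).trans ((f166 G)))).trans ((f181 G)))).trans ((f288 G))))
theorem f353 (G : Gens α) : DQ.op (G.g3) (P85 G) = (P94 G) :=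
  (DQ.flip (f352 G)).symm
theorem f354 (G : Gens α) : (P96 G) = (P100 G) :=
  ((f310 G)).symm.trans ((congrArg (DQ.op (G.g2)) ((f220 G))).symm.trans ((DQ.flip ((DQ.flip ((DQ.flip ((DQ.flip (DQ.braid6 (G.g2) (G.g3) (P44 G))).trans (((f218 G)).trans ((f241 G))))).trans ((f263 G)))).trans ((f273 G)))).trans ((f318 G))))
theorem f355 (G : Gens α) : (P100 G) = (P96 G) :=
  ((f354 G)).symm
theorem f356 (G : Gens α) : DQ.op (G.g1) (P85 G) = (P91 G) :=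
  (congrArg (DQ.op (G.g1)) ((f288 G))).symm.trans ((congrArg (DQ.op (G.g1)) (congrArg (DQ.op (G.g2)) ((f170 G)))).symm.trans ((congrArg (DQ.op (G.g1)) (congrArg (DQ.op (G.g2)) (congrArg (DQ.op (G.g1)) ((f179 G))))).symm.trans ((DQ.flip ((DQ.flip (DQ.braid6 (G.g1) (G.g2) (P46 G))).trans ((f222 G)))).trans (((f312 G)).trans ((f347 G))))))
theorem f357 (G : Gens α) : DQ.op (G.g1) (P91 G) = (P85 G) :=
  (DQ.flip (f356 G)).symm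
theorem f358 (G : Gens α) : (P99 G) = (P89 G) :=
  ((f316 G)).symm.trans ((congrArg (DQ.op (G.g0)) ((f224 G))).symm.trans ((DQ.flip ((DQ.flip ((DQ.flip ((DQ.flip (DQ.braid6 (G.g0) (G.g1) (P48 G))).trans ((f184 G)))).trans (((f230 G)).trans ((f245 G))))).trans ((f258 G)))).trans ((f296 G))))
theorem f359 (G : Gens α) : (P99 G) = (P89 G) :=
  (f358 G)
theorem f360 (G : Gens α) : (P94 G) = (P103 G) :=
  ((f353 G)).symm.trans ((congrArg (DQ.op (G.g3)) (((f292 G)).trans ((f337 G)))).symm.trans ((congrArg (DQ.op (G.g3)) (congrArg (DQ.op (G.g0)) (((f226 G)).trans ((f243 G))))).symm.trans ((DQ.flip ((DQ.flip ((DQ.flip (DQ.braid6 (G.g0) (G.g3) (P48 G))).trans ((f184 G)))).trans ((f232 G)))).trans ((f324 G)))))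
theorem f361 (G : Gens α) : (P103 G) = (P94 G) :=
  ((f360 G)).symm
theorem f362 (G : Gens α) : DQ.op (G.g1) (P86 G) = (P96 G) :=
  (congrArg (DQ.op (G.g1)) (((f294 G)).trans ((f339 G)))).symm.trans ((congrArg (DQ.op (G.g1)) (congrArg (DQ.op (G.g3)) ((f269 G)))).symm.trans ((congrArg (DQ.op (G.g1)) (congrArg (DQ.op (G.g3)) (congrArg (DQ.op (G.g1)) (((f226 G)).trans ((f243 G)))))).symm.trans ((DQ.flip ((DQ.flip (DQ.braid6 (G.g1) (G.g3) (P48 G))).trans ((f224 G)))).trans (((f318 G)).trans ((f355 G))))))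
theorem f363 (G : Gens α) : DQ.op (G.g1) (P96 G) = (P86 G) :=
  (DQ.flip (f362 G)).symm
theorem f364 (G : Gens α) : (P101 G) = (P95 G) :=
  ((f320 G)).symm.trans ((congrArg (DQ.op (G.g1)) ((f228 G))).symm.trans ((DQ.flip ((DQ.flip ((DQ.flip ((DQ.flip (DQ.braid6 (G.g1) (G.g3) (P49 G))).trans ((f170 G)))).trans ((f180 G)))).trans ((f234 G)))).trans (((f330 G)).trans ((f349 G)))))
theorem f365 (G : Gens α) : (P101 G) = (P95 G) :=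
  (f364 G)
theorem f366 (G : Gens α) : (P104 G) = (P92 G) :=
  ((f326 G)).symm.trans ((congrArg (DQ.op (G.g1)) ((f232 G))).symm.trans ((DQ.flip ((DQ.flip ((DQ.flip ((DQ.flip (DQ.braid6 (G.g1) (G.g3) (P50 G))).trans (((f230 G)).trans ((f245 G))))).trans ((f275 G)))).trans ((f260 G)))).trans ((f302 G))))
theorem f367 (G : Gens α) : (P104 G) = (P92 G) :=
  (f366 G)
theorem f368 (G : Gens α) : (P107 G) = (P93 G) :=
  ((f332 G)).symm.trans ((congrArg (DQ.op (G.g0)) ((f236 G))).symm.trans ((DQ.flip ((DQ.flip ((DQ.flip ((DQ.flip (DQ.braid6 (G.g0) (G.g1) (P54 G))).trans ((f186 G)))).trans ((f249 G)))).trans ((f264 G)))).trans ((f304 G))))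
theorem f369 (G : Gens α) : (P107 G) = (P93 G) :=
  (f368 G)
theorem f370 (G : Gens α) : DQ.op (G.g0) (P90 G) = (P86 G) :=
  (congrArg (DQ.op (G.g0)) (((f322 G)).trans ((f345 G)))).symm.trans ((congrArg (DQ.op (G.g0)) (congrArg (DQ.op (G.g2)) ((f276 G)))).symm.trans ((congrArg (DQ.op (G.g0)) (congrArg (DQ.op (G.g2)) (congrArg (DQ.op (G.g0)) (((f238 G)).trans ((f247 G)))))).symm.trans ((DQ.flip ((DQ.flip (DQ.braid6 (G.g0) (G.g2) (P54 G))).trans ((f186 G)))).trans ((f290 G)))))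
theorem f371 (G : Gens α) : DQ.op (G.g0) (P86 G) = (P90 G) :=
  (DQ.flip (f370 G)).symm
theorem f372 (G : Gens α) : DQ.op (G.g3) (P89 G) = (P109 G) :=
  rfl
theorem f373 (G : Gens α) : DQ.op (G.g3) (P109 G) = (P89 G) :=
  DQ.op_op (G.g3) (P89 G)
theorem f374 (G : Gens α) : DQ.op (G.g1) (P90 G) = (P110 G) :=
  rfl
theorem f376 (G : Gens α) : DQ.op (G.g3) (P91 G) = (P111 G) :=
  rfl
theorem f378 (G : Gens α) : DQ.op (G.g0) (P92 G) = (P112 G) :=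
  rfl
theorem f380 (G : Gens α) : DQ.op (G.g2) (P93 G) = (P113 G) :=
  rfl
theorem f382 (G : Gens α) : DQ.op (G.g1) (P94 G) = (P114 G) :=
  rfl
theorem f383 (G : Gens α) : DQ.op (G.g1) (P114 G) = (P94 G) :=
  DQ.op_op (G.g1) (P94 G)
theorem f384 (G : Gens α) : DQ.op (G.g2) (P95 G) = (P115 G) :=
  rfl
theorem f386 (G : Gens α) : DQ.op (G.g0) (P96 G) = (P116 G) :=
  rfl
theorem f388 (G : Gens α) : DQ.op (G.g0) (P109 G) = (P117 G) :=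
  rfl
theorem f392 (G : Gens α) : DQ.op (G.g2) (P109 G) = (P119 G) :=
  rfl
theorem f393 (G : Gens α) : DQ.op (G.g2) (P119 G) = (P109 G) :=
  DQ.op_op (G.g2) (P109 G)
theorem f404 (G : Gens α) : DQ.op (G.g2) (P111 G) = (P125 G) :=
  rfl
theorem f406 (G : Gens α) : DQ.op (G.g1) (P112 G) = (P126 G) :=
  rfl
theorem f407 (G : Gens α) : DQ.op (G.g1) (P126 G) = (P112 G) :=
  DQ.op_op (G.g1) (P112 G)
theorem f414 (G : Gens α) : DQ.op (G.g1) (P113 G) = (P130 G) :=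
  rfl
theorem f416 (G : Gens α) : DQ.op (G.g3) (P113 G) = (P131 G) :=
  rfl
theorem f417 (G : Gens α) : DQ.op (G.g3) (P131 G) = (P113 G) :=
  DQ.op_op (G.g3) (P113 G)
theorem f418 (G : Gens α) : DQ.op (G.g0) (P114 G) = (P132 G) :=
  rfl
theorem f420 (G : Gens α) : DQ.op (G.g2) (P114 G) = (P133 G) :=
  rfl
theorem f421 (G : Gens α) : DQ.op (G.g2) (P133 G) = (P114 G) :=
  DQ.op_op (G.g2) (P114 G)
theorem f424 (G : Gens α) : DQ.op (G.g0) (P115 G) = (P135 G) :=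
  rfl
theorem f425 (G : Gens α) : DQ.op (G.g0) (P135 G) = (P115 G) :=
  DQ.op_op (G.g0) (P115 G)
theorem f428 (G : Gens α) : DQ.op (G.g3) (P115 G) = (P137 G) :=
  rfl
theorem f432 (G : Gens α) : DQ.op (G.g2) (P116 G) = (P139 G) :=
  rfl
theorem f434 (G : Gens α) : DQ.op (G.g3) (P116 G) = (P140 G) :=
  rfl
theorem f435 (G : Gens α) : DQ.op (G.g3) (P140 G) = (P116 G) :=
  DQ.op_op (G.g3) (P116 G)
theorem f440 (G : Gens α) : (P133 G) = (P130 G) :=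
  ((f420 G)).symm.trans ((congrArg (DQ.op (G.g2)) ((f382 G))).symm.trans ((congrArg (DQ.op (G.g2)) (congrArg (DQ.op (G.g1)) ((f306 G)))).symm.trans ((DQ.flip ((DQ.flip ((DQ.flip (DQ.braid6 (G.g1) (G.g2) (P73 G))).trans ((f304 G)))).trans ((f380 G)))).trans ((f414 G)))))
theorem f441 (G : Gens α) : (P133 G) = (P130 G) :=
  (f440 G)
theorem f442 (G : Gens α) : (P139 G) = (P135 G) :=
  ((f432 G)).symm.trans ((congrArg (DQ.op (G.g2)) ((f386 G))).symm.trans ((congrArg (DQ.op (G.g2)) (congrArg (DQ.op (G.g0)) ((f310 G)))).symm.trans ((DQ.flip ((DQ.flip ((DQ.flip (DQ.braid6 (G.g0) (G.g2) (P75 G))).trans ((f308 G)))).trans ((f384 G)))).trans ((f424 G)))))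
theorem f443 (G : Gens α) : (P139 G) = (P135 G) :=
  (f442 G)
theorem f444 (G : Gens α) : (P131 G) = (P125 G) :=
  ((f416 G)).symm.trans ((congrArg (DQ.op (G.g3)) ((f380 G))).symm.trans ((congrArg (DQ.op (G.g3)) (congrArg (DQ.op (G.g2)) (((f314 G)).trans ((f343 G))))).symm.trans ((DQ.flip ((DQ.flip ((DQ.flip (DQ.braid6 (G.g2) (G.g3) (P76 G))).trans (((f312 G)).trans ((f347 G))))).trans ((f376 G)))).trans ((f404 G)))))
theorem f445 (G : Gens α) : (P131 G) = (P125 G) :=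
  (f444 G)
theorem f446 (G : Gens α) : (P140 G) = (P117 G) :=
  ((f434 G)).symm.trans ((congrArg (DQ.op (G.g3)) ((f386 G))).symm.trans ((congrArg (DQ.op (G.g3)) (congrArg (DQ.op (G.g0)) (((f318 G)).trans ((f355 G))))).symm.trans ((DQ.flip ((DQ.flip ((DQ.flip (DQ.braid6 (G.g0) (G.g3) (P77 G))).trans (((f316 G)).trans ((f359 G))))).trans ((f372 G)))).trans ((f388 G)))))
theorem f447 (G : Gens α) : (P140 G) = (P117 G) :=
  (f446 G)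
theorem f450 (G : Gens α) : (P126 G) = (P132 G) :=
  ((f406 G)).symm.trans ((congrArg (DQ.op (G.g1)) ((f378 G))).symm.trans ((congrArg (DQ.op (G.g1)) (congrArg (DQ.op (G.g0)) (((f326 G)).trans ((f367 G))))).symm.trans ((DQ.flip ((DQ.flip ((DQ.flip (DQ.braid6 (G.g0) (G.g1) (P81 G))).trans (((f324 G)).trans ((f361 G))))).trans ((f382 G)))).trans ((f418 G)))))
theorem f451 (G : Gens α) : (P132 G) = (P126 G) :=
  ((f450 G)).symm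
theorem f452 (G : Gens α) : (P137 G) = (P119 G) :=
  ((f428 G)).symm.trans ((congrArg (DQ.op (G.g3)) ((f384 G))).symm.trans ((congrArg (DQ.op (G.g3)) (congrArg (DQ.op (G.g2)) (((f330 G)).trans ((f349 G))))).symm.trans ((DQ.flip ((DQ.flip ((DQ.flip (DQ.braid6 (G.g2) (G.g3) (P82 G))).trans (((f328 G)).trans ((f341 G))))).trans ((f372 G)))).trans ((f392 G)))))
theorem f453 (G : Gens α) : (P137 G) = (P119 G) :=
  (f452 G)
theorem f460 (G : Gens α) : (P72 G) = (P117 G) :=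
  ((f303 G)).symm.trans ((congrArg (DQ.op (G.g3)) (((f326 G)).trans ((f367 G)))).symm.trans ((congrArg (DQ.op (G.g3)) (congrArg (DQ.op (G.g1)) ((f278 G)))).symm.trans ((congrArg (DQ.op (G.g3)) (congrArg (DQ.op (G.g1)) (congrArg (DQ.op (G.g2)) ((f254 G))))).symm.trans ((congrArg (DQ.op (G.g3)) (congrArg (DQ.op (G.g1)) (congrArg (DQ.op (G.g2)) (congrArg (DQ.op (G.g0)) ((f210 G)))))).symm.trans ((congrArg (DQ.op (G.g3)) (congrArg (DQ.op (G.g1)) (congrArg (DQ.op (G.g2)) (congrArg (DQ.op (G.g0)) (congrArg (DQ.op (G.g3)) ((f209 G))))))).symm.trans ((congrArg (DQ.op (G.g3)) (congrArg (DQ.op (G.g1)) (congrArg (DQ.op (G.g2)) (congrArg (DQ.op (G.g0)) (congrArg (DQ.op (G.g3)) (congrArg (DQ.op (G.g2)) ((f261 G)))))))).symm.trans ((congrArg (DQ.op (G.g3)) (congrArg (DQ.op (G.g1)) (congrArg (DQ.op (G.g2)) (congrArg (DQ.op (G.g0)) (congrArg (DQ.op (G.g3))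 (congrArg (DQ.op (G.g2)) (congrArg (DQ.op (G.g1)) ((f301 G))))))))).symm.trans ((congrArg (DQ.op (G.g3)) (congrArg (DQ.op (G.g1)) (congrArg (DQ.op (G.g2)) (congrArg (DQ.op (G.g0)) (congrArg (DQ.op (G.g3)) (congrArg (DQ.op (G.g2)) (congrArg (DQ.op (G.g1)) (congrArg (DQ.op (G.g0)) ((f356 G)))))))))).symm.trans ((congrArg (DQ.op (G.g3)) (congrArg (DQ.op (G.g1)) (congrArg (DQ.op (G.g2)) (congrArg (DQ.op (G.g0)) (congrArg (DQ.op (G.g3)) (congrArg (DQ.op (G.g2)) (congrArg (DQ.op (G.g1)) (congrArg (DQ.op (G.g0)) (congrArg (DQ.op (G.g1)) ((f288 G))))))))))).symm.trans ((congrArg (DQ.op (G.g3)) (congrArg (DQ.op (G.g1)) (congrArg (DQ.op (G.g2)) (congrArg (DQ.op (G.g0)) (congrArg (DQ.op (G.g3)) (congrArg (DQ.op (G.g2)) (congrArg (DQ.op (G.g1)) (congrArg (DQ.op (G.g0)) (congrArg (DQ.op (G.g1)) (congrArg (DQ.op (G.g2)) ((f181 G)))))))))))).symm.trans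 ((congrArg (DQ.op (G.g3)) (congrArg (DQ.op (G.g1)) (congrArg (DQ.op (G.g2)) (congrArg (DQ.op (G.g0)) (congrArg (DQ.op (G.g3)) (congrArg (DQ.op (G.g2)) (congrArg (DQ.op (G.g1)) (congrArg (DQ.op (G.g0)) (congrArg (DQ.op (G.g1)) (congrArg (DQ.op (G.g2)) (congrArg (DQ.op (G.g3)) ((f136 G))))))))))))).symm.trans ((congrArg (DQ.op (G.g3)) (congrArg (DQ.op (G.g1)) (congrArg (DQ.op (G.g2)) (congrArg (DQ.op (G.g0)) (congrArg (DQ.op (G.g3)) (congrArg (DQ.op (G.g2)) (congrArg (DQ.op (G.g1)) (congrArg (DQ.op (G.g0)) (congrArg (DQ.op (G.g1)) (congrArg (DQ.op (G.g2)) (congrArg (DQ.op (G.g3)) (congrArg (DQ.op (G.g0)) ((f96 G)))))))))))))).symm.trans ((congrArg (DQ.op (G.g3)) (congrArg (DQ.op (G.g1)) (congrArg (DQ.op (G.g2)) (congrArg (DQ.op (G.g0)) (congrArg (DQ.op (G.g3)) (congrArg (DQ.op (G.g2)) (congrArg (DQ.op (G.g1)) (congrArg (DQ.op (G.g0)) (congrArg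 (DQ.op (G.g1)) (congrArg (DQ.op (G.g2)) (congrArg (DQ.op (G.g3)) (congrArg (DQ.op (G.g0)) (congrArg (DQ.op (G.g2)) ((f48 G))))))))))))))).symm.trans ((congrArg (DQ.op (G.g3)) (congrArg (DQ.op (G.g1)) (congrArg (DQ.op (G.g2)) (congrArg (DQ.op (G.g0)) (congrArg (DQ.op (G.g3)) (congrArg (DQ.op (G.g2)) (congrArg (DQ.op (G.g1)) (congrArg (DQ.op (G.g0)) (congrArg (DQ.op (G.g1)) (congrArg (DQ.op (G.g2)) (congrArg (DQ.op (G.g3)) (congrArg (DQ.op (G.g0)) (congrArg (DQ.op (G.g2)) (congrArg (DQ.op (G.g1)) ((f8 G)))))))))))))))).symm.trans (((w109 G (P0 G)).symm.trans (DQ.comm (P109 G) (G.g0))).trans ((f388 G)))))))))))))))))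
theorem f461 (G : Gens α) : (P117 G) = (P72 G) :=
  ((f460 G)).symm
theorem f463 (G : Gens α) : (P92 G) = (P116 G) :=
  ((f302 G).symm).trans ((congrArg (DQ.op (G.g3)) ((((f447 G)).trans (f461 G)).symm)).trans ((f435 G)))
theorem f464 (G : Gens α) : (P116 G) = (P92 G) :=
  ((f463 G)).symm
theorem f467 (G : Gens α) : (P83 G) = (P139 G) :=
  ((f335 G).symm).trans ((congrArg (DQ.op (G.g2)) (((f351 G)).trans ((f464 G)).symm)).trans ((f432 G)))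
theorem f469 (G : Gens α) : (P135 G) = (P83 G) :=
  (((f467 G)).trans ((f443 G))).symm
theorem f470 (G : Gens α) : (P107 G) = (P115 G) :=
  ((f332 G).symm).trans ((congrArg (DQ.op (G.g0)) (((f469 G)).symm)).trans ((f425 G)))
theorem f472 (G : Gens α) : (P115 G) = (P93 G) :=
  ((((f369 G)).symm).trans ((f470 G))).symm
theorem f476 (G : Gens α) : (P76 G) = (P137 G) :=
  ((f315 G).symm).trans ((congrArg (DQ.op (G.g3)) (((f343 G)).trans ((f472 G)).symm)).trans ((f428 G)))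
theorem f477 (G : Gens α) : (P119 G) = (P76 G) :=
  (((f476 G)).trans ((f453 G))).symm
theorem f478 (G : Gens α) : (P97 G) = (P109 G) :=
  ((f312 G).symm).trans ((congrArg (DQ.op (G.g2)) (((f477 G)).symm)).trans ((f393 G)))
theorem f480 (G : Gens α) : (P109 G) = (P91 G) :=
  ((((f347 G)).symm).trans ((f478 G))).symm
theorem f484 (G : Gens α) : (P111 G) = (P89 G) :=
  ((f376 G).symm).trans ((congrArg (DQ.op (G.g3)) (((f480 G)).symm)).trans ((f373 G)))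
theorem f485 (G : Gens α) : (P111 G) = (P89 G) :=
  (f484 G)
theorem f488 (G : Gens α) : (P82 G) = (P125 G) :=
  ((f329 G).symm).trans ((congrArg (DQ.op (G.g2)) (((f341 G)).trans ((f485 G)).symm)).trans ((f404 G)))
theorem f490 (G : Gens α) : (P125 G) = (P82 G) :=
  ((f488 G)).symm
theorem f492 (G : Gens α) : (P106 G) = (P113 G) :=
  ((f330 G).symm).trans ((congrArg (DQ.op (G.g3)) ((((f445 G)).trans (f490 G)).symm)).trans ((f417 G)))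
theorem f493 (G : Gens α) : (P113 G) = (P95 G) :=
  ((((f349 G)).symm).trans ((f492 G))).symm
theorem f495 (G : Gens α) : (P79 G) = (P130 G) :=
  ((f321 G).symm).trans ((congrArg (DQ.op (G.g1)) (((f365 G)).trans ((f493 G)).symm)).trans ((f414 G)))
theorem f498 (G : Gens α) : (P130 G) = (P79 G) :=
  ((f495 G)).symm
theorem f500 (G : Gens α) : (P102 G) = (P114 G) :=
  ((f322 G).symm).trans ((congrArg (DQ.op (G.g2)) ((((f441 G)).trans (f498 G)).symm)).trans ((f421 G)))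
theorem f501 (G : Gens α) : (P114 G) = (P90 G) :=
  ((((f345 G)).symm).trans ((f500 G))).symm
theorem f502 (G : Gens α) : (P86 G) = (P132 G) :=
  ((f370 G).symm).trans ((congrArg (DQ.op (G.g0)) (((f501 G)).symm)).trans ((f418 G)))
theorem f503 (G : Gens α) : (P110 G) = (P94 G) :=
  ((f374 G).symm).trans ((congrArg (DQ.op (G.g1)) (((f501 G)).symm)).trans ((f383 G)))
theorem f509 (G : Gens α) : (P110 G) = (P94 G) :=
  (f503 G)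
theorem f523 (G : Gens α) : (P126 G) = (P86 G) :=
  (((f502 G)).trans ((f451 G))).symm
theorem f525 (G : Gens α) : (P96 G) = (P112 G) :=
  ((f362 G).symm).trans ((congrArg (DQ.op (G.g1)) (((f523 G)).symm)).trans ((f407 G)))
theorem f526 (G : Gens α) : (P112 G) = (P96 G) :=
  ((f525 G)).symm

/-- The 81 points. -/
def Pl (G : Gens α) : Fin 81 → α
  | ⟨0, _⟩ => P0 G
  | ⟨1, _⟩ => P92 G
  | ⟨2, _⟩ => P96 G
  | ⟨3, _⟩ => P1 G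
  | ⟨4, _⟩ => P94 G
  | ⟨5, _⟩ => P90 G
  | ⟨6, _⟩ => P4 G
  | ⟨7, _⟩ => P86 G
  | ⟨8, _⟩ => P81 G
  | ⟨9, _⟩ => P2 G
  | ⟨10, _⟩ => P93 G
  | ⟨11, _⟩ => P95 G
  | ⟨12, _⟩ => P22 G
  | ⟨13, _⟩ => P68 G
  | ⟨14, _⟩ => P64 G
  | ⟨15, _⟩ => P18 G
  | ⟨16, _⟩ => P54 G
  | ⟨17, _⟩ => P70 G
  | ⟨18, _⟩ => P5 G
  | ⟨19, _⟩ => P75 G
  | ⟨20, _⟩ => P83 G
  | ⟨21, _⟩ => P16 G
  | ⟨22, _⟩ => P66 G
  | ⟨23, _⟩ => P57 G
  | ⟨24, _⟩ => P8 G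
  | ⟨25, _⟩ => P79 G
  | ⟨26, _⟩ => P73 G
  | ⟨27, _⟩ => P3 G
  | ⟨28, _⟩ => P91 G
  | ⟨29, _⟩ => P89 G
  | ⟨30, _⟩ => P24 G
  | ⟨31, _⟩ => P60 G
  | ⟨32, _⟩ => P67 G
  | ⟨33, _⟩ => P20 G
  | ⟨34, _⟩ => P69 G
  | ⟨35, _⟩ => P48 G
  | ⟨36, _⟩ => P26 G
  | ⟨37, _⟩ => P63 G
  | ⟨38, _⟩ => P59 G
  | ⟨39, _⟩ => P53 G
  | ⟨40, _⟩ => P42 G
  | ⟨41, _⟩ => P47 G
  | ⟨42, _⟩ => P46 G
  | ⟨43, _⟩ => P52 G
  | ⟨44, _⟩ => P27 G
  | ⟨45, _⟩ => P21 G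
  | ⟨46, _⟩ => P41 G
  | ⟨47, _⟩ => P65 G
  | ⟨48, _⟩ => P40 G
  | ⟨49, _⟩ => P25 G
  | ⟨50, _⟩ => P55 G
  | ⟨51, _⟩ => P35 G
  | ⟨52, _⟩ => P31 G
  | ⟨53, _⟩ => P29 G
  | ⟨54, _⟩ => P6 G
  | ⟨55, _⟩ => P77 G
  | ⟨56, _⟩ => P72 G
  | ⟨57, _⟩ => P17 G
  | ⟨58, _⟩ => P50 G
  | ⟨59, _⟩ => P62 G
  | ⟨60, _⟩ => P9 G
  | ⟨61, _⟩ => P71 G
  | ⟨62, _⟩ => P85 G
  | ⟨63, _⟩ => P19 G
  | ⟨64, _⟩ => P61 G
  | ⟨65, _⟩ => P44 G
  | ⟨66, _⟩ => P23 G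
  | ⟨67, _⟩ => P43 G
  | ⟨68, _⟩ => P49 G
  | ⟨69, _⟩ => P28 G
  | ⟨70, _⟩ => P33 G
  | ⟨71, _⟩ => P37 G
  | ⟨72, _⟩ => P12 G
  | ⟨73, _⟩ => P82 G
  | ⟨74, _⟩ => P76 G
  | ⟨75, _⟩ => P30 G
  | ⟨76, _⟩ => P39 G
  | ⟨77, _⟩ => P32 G
  | ⟨78, _⟩ => P34 G
  | ⟨79, _⟩ => P36 G
  | ⟨80, _⟩ => P38 G
  | ⟨_ + 81, h⟩ => absurd h (by omega)

def tab0 : List (Fin 81) := [0, 2, 1, 6, 8, 7, 3, 5, 4, 18, 20, 19, 24, 26, 25, 21, 23, 22, 9, 11, 10, 15, 17, 16, 12, 14, 13, 54, 56, 55, 60, 62, 61, 57, 59, 58, 72, 74, 73, 78, 80, 79, 75, 77, 76, 63, 65, 64, 69, 71, 70, 66, 68, 67, 27, 29, 28, 33, 35, 34, 30, 32, 31, 45, 47, 46, 51, 53, 52, 48, 50, 49, 36, 38, 37, 42, 44, 43, 39, 41, 40]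

def sg0 (s : Fin 81) : Fin 81 := tab0.getD s.val 0

theorem closed0 (G : Gens α) : ∀ s : Fin 81, DQ.op G.g0 (Pl G s) = Pl G (sg0 s)
  | ⟨0, _⟩ => (f0 G)
  | ⟨1, _⟩ => ((f378 G)).trans ((f526 G))
  | ⟨2, _⟩ => ((f386 G)).trans ((f464 G))
  | ⟨3, _⟩ => ((f10 G)).trans ((f29 G))
  | ⟨4, _⟩ => (congrArg (DQ.op (G.g0)) (((f361 G)).symm)).trans ((f325 G))
  | ⟨5, _⟩ => (f370 G)
  | ⟨6, _⟩ => (congrArg (DQ.op (G.g0)) (((f29 G)).symm)).trans ((f11 G))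
  | ⟨7, _⟩ => (f371 G)
  | ⟨8, _⟩ => ((f324 G)).trans ((f361 G))
  | ⟨9, _⟩ => ((f16 G)).trans ((f31 G))
  | ⟨10, _⟩ => (congrArg (DQ.op (G.g0)) (((f369 G)).symm)).trans ((f333 G))
  | ⟨11, _⟩ => (f309 G)
  | ⟨12, _⟩ => (f53 G)
  | ⟨13, _⟩ => (f264 G)
  | ⟨14, _⟩ => (f276 G)
  | ⟨15, _⟩ => (f74 G)
  | ⟨16, _⟩ => (f186 G)
  | ⟨17, _⟩ => (f254 G)
  | ⟨18, _⟩ => (congrArg (DQ.op (G.g0)) (((f31 G)).symm)).trans ((f17 G))
  | ⟨19, _⟩ => (f308 G)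
  | ⟨20, _⟩ => ((f332 G)).trans ((f369 G))
  | ⟨21, _⟩ => (f75 G)
  | ⟨22, _⟩ => (f255 G)
  | ⟨23, _⟩ => (f187 G)
  | ⟨24, _⟩ => (f52 G)
  | ⟨25, _⟩ => (f277 G)
  | ⟨26, _⟩ => (f265 G)
  | ⟨27, _⟩ => ((f22 G)).trans ((f33 G))
  | ⟨28, _⟩ => (f301 G)
  | ⟨29, _⟩ => (congrArg (DQ.op (G.g0)) (((f359 G)).symm)).trans ((f317 G))
  | ⟨30, _⟩ => (f57 G)
  | ⟨31, _⟩ => ((f292 G)).trans ((f337 G))
  | ⟨32, _⟩ => (f258 G)
  | ⟨33, _⟩ => (f78 G)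
  | ⟨34, _⟩ => (f252 G)
  | ⟨35, _⟩ => (f184 G)
  | ⟨36, _⟩ => (f61 G)
  | ⟨37, _⟩ => (f270 G)
  | ⟨38, _⟩ => (f282 G)
  | ⟨39, _⟩ => (congrArg (DQ.op (G.g0)) (((f173 G)).symm)).trans ((f149 G))
  | ⟨40, _⟩ => (f176 G)
  | ⟨41, _⟩ => (f174 G)
  | ⟨42, _⟩ => (f125 G)
  | ⟨43, _⟩ => (f137 G)
  | ⟨44, _⟩ => (f110 G)
  | ⟨45, _⟩ => (f80 G)
  | ⟨46, _⟩ => (f189 G)
  | ⟨47, _⟩ => (f250 G)
  | ⟨48, _⟩ => (f113 G)
  | ⟨49, _⟩ => (f106 G)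
  | ⟨50, _⟩ => (f143 G)
  | ⟨51, _⟩ => (f103 G)
  | ⟨52, _⟩ => (f130 G)
  | ⟨53, _⟩ => (f118 G)
  | ⟨54, _⟩ => (congrArg (DQ.op (G.g0)) (((f33 G)).symm)).trans ((f23 G))
  | ⟨55, _⟩ => ((f316 G)).trans ((f359 G))
  | ⟨56, _⟩ => (f300 G)
  | ⟨57, _⟩ => (f79 G)
  | ⟨58, _⟩ => (f185 G)
  | ⟨59, _⟩ => (f253 G)
  | ⟨60, _⟩ => (f56 G)
  | ⟨61, _⟩ => (f259 G)
  | ⟨62, _⟩ => (congrArg (DQ.op (G.g0)) (((f337 G)).symm)).trans ((f293 G))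
  | ⟨63, _⟩ => (f81 G)
  | ⟨64, _⟩ => (f251 G)
  | ⟨65, _⟩ => (f188 G)
  | ⟨66, _⟩ => (f102 G)
  | ⟨67, _⟩ => (f119 G)
  | ⟨68, _⟩ => (f131 G)
  | ⟨69, _⟩ => (f112 G)
  | ⟨70, _⟩ => (f142 G)
  | ⟨71, _⟩ => (f107 G)
  | ⟨72, _⟩ => (f60 G)
  | ⟨73, _⟩ => (f283 G)
  | ⟨74, _⟩ => (f271 G)
  | ⟨75, _⟩ => (f124 G)
  | ⟨76, _⟩ => (f111 G)
  | ⟨77, _⟩ => (f136 G)
  | ⟨78, _⟩ => ((f148 G)).trans ((f173 G))
  | ⟨79, _⟩ => (f175 G)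
  | ⟨80, _⟩ => (f177 G)
  | ⟨_ + 81, h⟩ => absurd h (by omega)

theorem gen0 (G : Gens α) : G.g0 = Pl G 0 := rfl


def tab1 : List (Fin 81) := [6, 8, 7, 3, 5, 4, 0, 2, 1, 24, 26, 25, 21, 23, 22, 18, 20, 19, 15, 17, 16, 12, 14, 13, 9, 11, 10, 60, 62, 61, 57, 59, 58, 54, 56, 55, 80, 79, 78, 77, 76, 75, 74, 73, 72, 70, 69, 71, 67, 66, 68, 64, 63, 65, 33, 35, 34, 30, 32, 31, 27, 29, 28, 52, 51, 53, 49, 48, 50, 46, 45, 47, 44, 43, 42, 41, 40, 39, 38, 37, 36]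

def sg1 (s : Fin 81) : Fin 81 := tab1.getD s.val 0

theorem closed1 (G : Gens α) : ∀ s : Fin 81, DQ.op G.g1 (Pl G s) = Pl G (sg1 s)
  | ⟨0, _⟩ => (f4 G)
  | ⟨1, _⟩ => (congrArg (DQ.op (G.g1)) (((f367 G)).symm)).trans ((f327 G))
  | ⟨2, _⟩ => (f363 G)
  | ⟨3, _⟩ => (f1 G)
  | ⟨4, _⟩ => ((f382 G)).trans ((f501 G))
  | ⟨5, _⟩ => ((f374 G)).trans ((f509 G))
  | ⟨6, _⟩ => (f5 G)
  | ⟨7, _⟩ => (f362 G)
  | ⟨8, _⟩ => ((f326 G)).trans ((f367 G))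
  | ⟨9, _⟩ => ((f18 G)).trans ((f35 G))
  | ⟨10, _⟩ => (f305 G)
  | ⟨11, _⟩ => (congrArg (DQ.op (G.g1)) (((f365 G)).symm)).trans ((f321 G))
  | ⟨12, _⟩ => (f64 G)
  | ⟨13, _⟩ => (f248 G)
  | ⟨14, _⟩ => (f281 G)
  | ⟨15, _⟩ => (f45 G)
  | ⟨16, _⟩ => (f236 G)
  | ⟨17, _⟩ => (f266 G)
  | ⟨18, _⟩ => (f44 G)
  | ⟨19, _⟩ => (f267 G)
  | ⟨20, _⟩ => (f237 G)
  | ⟨21, _⟩ => (f65 G)
  | ⟨22, _⟩ => (f280 G)
  | ⟨23, _⟩ => (f249 G)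
  | ⟨24, _⟩ => (congrArg (DQ.op (G.g1)) (((f35 G)).symm)).trans ((f19 G))
  | ⟨25, _⟩ => ((f320 G)).trans ((f365 G))
  | ⟨26, _⟩ => (f304 G)
  | ⟨27, _⟩ => ((f24 G)).trans ((f37 G))
  | ⟨28, _⟩ => (f357 G)
  | ⟨29, _⟩ => (f297 G)
  | ⟨30, _⟩ => (f66 G)
  | ⟨31, _⟩ => (f269 G)
  | ⟨32, _⟩ => (congrArg (DQ.op (G.g1)) (((f245 G)).symm)).trans ((f231 G))
  | ⟨33, _⟩ => (f49 G)
  | ⟨34, _⟩ => (f260 G)
  | ⟨35, _⟩ => (f224 G)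
  | ⟨36, _⟩ => (f108 G)
  | ⟨37, _⟩ => (f197 G)
  | ⟨38, _⟩ => (f151 G)
  | ⟨39, _⟩ => (f139 G)
  | ⟨40, _⟩ => (f161 G)
  | ⟨41, _⟩ => (f127 G)
  | ⟨42, _⟩ => (f222 G)
  | ⟨43, _⟩ => (f234 G)
  | ⟨44, _⟩ => (f63 G)
  | ⟨45, _⟩ => (f98 G)
  | ⟨46, _⟩ => (f115 G)
  | ⟨47, _⟩ => (f201 G)
  | ⟨48, _⟩ => (f183 G)
  | ⟨49, _⟩ => (f86 G)
  | ⟨50, _⟩ => (f171 G)
  | ⟨51, _⟩ => (f192 G)
  | ⟨52, _⟩ => (f95 G)
  | ⟨53, _⟩ => (f120 G)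
  | ⟨54, _⟩ => (f48 G)
  | ⟨55, _⟩ => (f225 G)
  | ⟨56, _⟩ => (f261 G)
  | ⟨57, _⟩ => (f67 G)
  | ⟨58, _⟩ => ((f230 G)).trans ((f245 G))
  | ⟨59, _⟩ => (f268 G)
  | ⟨60, _⟩ => (congrArg (DQ.op (G.g1)) (((f37 G)).symm)).trans ((f25 G))
  | ⟨61, _⟩ => (f296 G)
  | ⟨62, _⟩ => (f356 G)
  | ⟨63, _⟩ => (f94 G)
  | ⟨64, _⟩ => (f193 G)
  | ⟨65, _⟩ => (f121 G)
  | ⟨66, _⟩ => (f87 G)
  | ⟨67, _⟩ => (f182 G)
  | ⟨68, _⟩ => (f170 G)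
  | ⟨69, _⟩ => (f114 G)
  | ⟨70, _⟩ => (f99 G)
  | ⟨71, _⟩ => (f200 G)
  | ⟨72, _⟩ => (f62 G)
  | ⟨73, _⟩ => (f235 G)
  | ⟨74, _⟩ => (f223 G)
  | ⟨75, _⟩ => (f126 G)
  | ⟨76, _⟩ => (f160 G)
  | ⟨77, _⟩ => (f138 G)
  | ⟨78, _⟩ => (f150 G)
  | ⟨79, _⟩ => (f196 G)
  | ⟨80, _⟩ => (f109 G)
  | ⟨_ + 81, h⟩ => absurd h (by omega)

theorem gen1 (G : Gens α) : G.g1 = Pl G 3 := rfl


def tab2 : List (Fin 81) := [18, 20, 19, 24, 26, 25, 21, 23, 22, 9, 11, 10, 15, 17, 16, 12, 14, 13, 0, 2, 1, 6, 8, 7, 3, 5, 4, 72, 74, 73, 79, 78, 80, 77, 76, 75, 63, 65, 64, 70, 69, 71, 68, 67, 66, 54, 56, 55, 61, 60, 62, 59, 58, 57, 45, 47, 46, 53, 52, 51, 49, 48, 50, 36, 38, 37, 44, 43, 42, 40, 39, 41, 27, 29, 28, 35, 34, 33, 31, 30, 32]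

def sg2 (s : Fin 81) : Fin 81 := tab2.getD s.val 0

theorem closed2 (G : Gens α) : ∀ s : Fin 81, DQ.op G.g2 (Pl G s) = Pl G (sg2 s)
  | ⟨0, _⟩ => (f6 G)
  | ⟨1, _⟩ => (congrArg (DQ.op (G.g2)) (((f351 G)).symm)).trans ((f335 G))
  | ⟨2, _⟩ => (f311 G)
  | ⟨3, _⟩ => (f12 G)
  | ⟨4, _⟩ => (f307 G)
  | ⟨5, _⟩ => (congrArg (DQ.op (G.g2)) (((f345 G)).symm)).trans ((f323 G))
  | ⟨6, _⟩ => (f40 G)
  | ⟨7, _⟩ => (f291 G)
  | ⟨8, _⟩ => (f279 G)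
  | ⟨9, _⟩ => (f2 G)
  | ⟨10, _⟩ => ((f380 G)).trans ((f493 G))
  | ⟨11, _⟩ => ((f384 G)).trans ((f472 G))
  | ⟨12, _⟩ => (f68 G)
  | ⟨13, _⟩ => (f287 G)
  | ⟨14, _⟩ => (congrArg (DQ.op (G.g2)) (((f247 G)).symm)).trans ((f239 G))
  | ⟨15, _⟩ => (f69 G)
  | ⟨16, _⟩ => ((f238 G)).trans ((f247 G))
  | ⟨17, _⟩ => (f286 G)
  | ⟨18, _⟩ => (f7 G)
  | ⟨19, _⟩ => (f310 G)
  | ⟨20, _⟩ => ((f334 G)).trans ((f351 G))
  | ⟨21, _⟩ => (f41 G)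
  | ⟨22, _⟩ => (f278 G)
  | ⟨23, _⟩ => (f290 G)
  | ⟨24, _⟩ => (f13 G)
  | ⟨25, _⟩ => ((f322 G)).trans ((f345 G))
  | ⟨26, _⟩ => (f306 G)
  | ⟨27, _⟩ => ((f26 G)).trans ((f39 G))
  | ⟨28, _⟩ => (congrArg (DQ.op (G.g2)) (((f347 G)).symm)).trans ((f313 G))
  | ⟨29, _⟩ => (congrArg (DQ.op (G.g2)) (((f341 G)).symm)).trans ((f329 G))
  | ⟨30, _⟩ => (f104 G)
  | ⟨31, _⟩ => (f191 G)
  | ⟨32, _⟩ => (f205 G)
  | ⟨33, _⟩ => (f96 G)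
  | ⟨34, _⟩ => (f209 G)
  | ⟨35, _⟩ => (f129 G)
  | ⟨36, _⟩ => (f72 G)
  | ⟨37, _⟩ => (congrArg (DQ.op (G.g2)) (((f241 G)).symm)).trans ((f219 G))
  | ⟨38, _⟩ => (f257 G)
  | ⟨39, _⟩ => (congrArg (DQ.op (G.g2)) (((f157 G)).symm)).trans ((f145 G))
  | ⟨40, _⟩ => (f117 G)
  | ⟨41, _⟩ => (f169 G)
  | ⟨42, _⟩ => (f179 G)
  | ⟨43, _⟩ => (f167 G)
  | ⟨44, _⟩ => (f82 G)
  | ⟨45, _⟩ => (f51 G)
  | ⟨46, _⟩ => (f214 G)
  | ⟨47, _⟩ => (f273 G)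
  | ⟨48, _⟩ => (f212 G)
  | ⟨49, _⟩ => (f59 G)
  | ⟨50, _⟩ => (f288 G)
  | ⟨51, _⟩ => (f194 G)
  | ⟨52, _⟩ => (f132 G)
  | ⟨53, _⟩ => (f91 G)
  | ⟨54, _⟩ => (f50 G)
  | ⟨55, _⟩ => (f272 G)
  | ⟨56, _⟩ => (f215 G)
  | ⟨57, _⟩ => (f90 G)
  | ⟨58, _⟩ => (f133 G)
  | ⟨59, _⟩ => (f195 G)
  | ⟨60, _⟩ => (f58 G)
  | ⟨61, _⟩ => (f213 G)
  | ⟨62, _⟩ => (f289 G)
  | ⟨63, _⟩ => (f73 G)
  | ⟨64, _⟩ => (f256 G)
  | ⟨65, _⟩ => ((f218 G)).trans ((f241 G))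
  | ⟨66, _⟩ => (f83 G)
  | ⟨67, _⟩ => (f166 G)
  | ⟨68, _⟩ => (f178 G)
  | ⟨69, _⟩ => (f116 G)
  | ⟨70, _⟩ => ((f144 G)).trans ((f157 G))
  | ⟨71, _⟩ => (f168 G)
  | ⟨72, _⟩ => (congrArg (DQ.op (G.g2)) (((f39 G)).symm)).trans ((f27 G))
  | ⟨73, _⟩ => ((f328 G)).trans ((f341 G))
  | ⟨74, _⟩ => ((f312 G)).trans ((f347 G))
  | ⟨75, _⟩ => (f128 G)
  | ⟨76, _⟩ => (f208 G)
  | ⟨77, _⟩ => (f97 G)
  | ⟨78, _⟩ => (f190 G)
  | ⟨79, _⟩ => (f105 G)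
  | ⟨80, _⟩ => (f204 G)
  | ⟨_ + 81, h⟩ => absurd h (by omega)

theorem gen2 (G : Gens α) : G.g2 = Pl G 9 := rfl


def tab3 : List (Fin 81) := [54, 56, 55, 60, 62, 61, 57, 59, 58, 72, 74, 73, 78, 80, 79, 75, 77, 76, 63, 65, 64, 69, 71, 70, 66, 68, 67, 27, 29, 28, 33, 35, 34, 30, 32, 31, 45, 47, 46, 51, 53, 52, 48, 50, 49, 36, 38, 37, 42, 44, 43, 39, 41, 40, 0, 2, 1, 6, 8, 7, 3, 5, 4, 18, 20, 19, 24, 26, 25, 21, 23, 22, 9, 11, 10, 15, 17, 16, 12, 14, 13]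

def sg3 (s : Fin 81) : Fin 81 := tab3.getD s.val 0

theorem closed3 (G : Gens α) : ∀ s : Fin 81, DQ.op G.g3 (Pl G s) = Pl G (sg3 s)
  | ⟨0, _⟩ => (f8 G)
  | ⟨1, _⟩ => (f303 G)
  | ⟨2, _⟩ => (congrArg (DQ.op (G.g3)) (((f355 G)).symm)).trans ((f319 G))
  | ⟨3, _⟩ => (f14 G)
  | ⟨4, _⟩ => (f352 G)
  | ⟨5, _⟩ => (f299 G)
  | ⟨6, _⟩ => (f42 G)
  | ⟨7, _⟩ => (congrArg (DQ.op (G.g3)) (((f339 G)).symm)).trans ((f295 G))
  | ⟨8, _⟩ => (f233 G)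
  | ⟨9, _⟩ => (f20 G)
  | ⟨10, _⟩ => (congrArg (DQ.op (G.g3)) (((f343 G)).symm)).trans ((f315 G))
  | ⟨11, _⟩ => (congrArg (DQ.op (G.g3)) (((f349 G)).symm)).trans ((f331 G))
  | ⟨12, _⟩ => (f100 G)
  | ⟨13, _⟩ => (f207 G)
  | ⟨14, _⟩ => (f199 G)
  | ⟨15, _⟩ => (f92 G)
  | ⟨16, _⟩ => (f141 G)
  | ⟨17, _⟩ => (f211 G)
  | ⟨18, _⟩ => (f46 G)
  | ⟨19, _⟩ => (f221 G)
  | ⟨20, _⟩ => (f284 G)
  | ⟨21, _⟩ => (f88 G)
  | ⟨22, _⟩ => (f203 G)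
  | ⟨23, _⟩ => (f147 G)
  | ⟨24, _⟩ => (f54 G)
  | ⟨25, _⟩ => (f229 G)
  | ⟨26, _⟩ => (f217 G)
  | ⟨27, _⟩ => (f3 G)
  | ⟨28, _⟩ => ((f376 G)).trans ((f485 G))
  | ⟨29, _⟩ => ((f372 G)).trans ((f480 G))
  | ⟨30, _⟩ => (f70 G)
  | ⟨31, _⟩ => (congrArg (DQ.op (G.g3)) (((f243 G)).symm)).trans ((f227 G))
  | ⟨32, _⟩ => (f275 G)
  | ⟨33, _⟩ => (f71 G)
  | ⟨34, _⟩ => (f274 G)
  | ⟨35, _⟩ => ((f226 G)).trans ((f243 G))
  | ⟨36, _⟩ => (f76 G)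
  | ⟨37, _⟩ => (f263 G)
  | ⟨38, _⟩ => (f165 G)
  | ⟨39, _⟩ => (congrArg (DQ.op (G.g3)) (((f173 G)).symm)).trans ((f159 G))
  | ⟨40, _⟩ => (congrArg (DQ.op (G.g3)) (((f153 G)).symm)).trans ((f123 G))
  | ⟨41, _⟩ => (congrArg (DQ.op (G.g3)) (((f155 G)).symm)).trans ((f135 G))
  | ⟨42, _⟩ => (f163 G)
  | ⟨43, _⟩ => (f181 G)
  | ⟨44, _⟩ => (f84 G)
  | ⟨45, _⟩ => (f77 G)
  | ⟨46, _⟩ => (f164 G)
  | ⟨47, _⟩ => (f262 G)
  | ⟨48, _⟩ => (f162 G)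
  | ⟨49, _⟩ => (f85 G)
  | ⟨50, _⟩ => (f180 G)
  | ⟨51, _⟩ => ((f158 G)).trans ((f173 G))
  | ⟨52, _⟩ => ((f134 G)).trans ((f155 G))
  | ⟨53, _⟩ => ((f122 G)).trans ((f153 G))
  | ⟨54, _⟩ => (f9 G)
  | ⟨55, _⟩ => ((f318 G)).trans ((f355 G))
  | ⟨56, _⟩ => (f302 G)
  | ⟨57, _⟩ => (f43 G)
  | ⟨58, _⟩ => (f232 G)
  | ⟨59, _⟩ => ((f294 G)).trans ((f339 G))
  | ⟨60, _⟩ => (f15 G)
  | ⟨61, _⟩ => (f298 G)
  | ⟨62, _⟩ => (f353 G)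
  | ⟨63, _⟩ => (f47 G)
  | ⟨64, _⟩ => (f285 G)
  | ⟨65, _⟩ => (f220 G)
  | ⟨66, _⟩ => (f55 G)
  | ⟨67, _⟩ => (f216 G)
  | ⟨68, _⟩ => (f228 G)
  | ⟨69, _⟩ => (f89 G)
  | ⟨70, _⟩ => (f146 G)
  | ⟨71, _⟩ => (f202 G)
  | ⟨72, _⟩ => (f21 G)
  | ⟨73, _⟩ => ((f330 G)).trans ((f349 G))
  | ⟨74, _⟩ => ((f314 G)).trans ((f343 G))
  | ⟨75, _⟩ => (f93 G)
  | ⟨76, _⟩ => (f210 G)
  | ⟨77, _⟩ => (f140 G)
  | ⟨78, _⟩ => (f101 G)
  | ⟨79, _⟩ => (f198 G)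
  | ⟨80, _⟩ => (f206 G)
  | ⟨_ + 81, h⟩ => absurd h (by omega)

theorem gen3 (G : Gens α) : G.g3 = Pl G 27 := rfl

def shift1 : List ℕ := [0, 0, 0, 0, 0, 0, 0, 0, 0, 0, 0, 0, 1, 1, 1, 2, 2, 2, 0, 0, 0, 2, 2, 2, 1, 1, 1]
def shift2 : List ℕ := [0, 0, 0, 0, 0, 0, 0, 0, 0, 0, 2, 1, 0, 2, 1, 0, 2, 1, 0, 1, 2, 0, 1, 2, 0, 1, 2]
def shift3 : List ℕ := [0, 0, 0, 0, 0, 0, 0, 0, 0, 0, 0, 0, 0, 0, 0, 0, 0, 0, 0, 0, 0, 0, 0, 0, 0, 0, 0]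

end Cfsg.Agent.Screen.DQ
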