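import Cfsg.Agent.S0514
import Cfsg.Agent.TwoGroups.ExtSub
import Cfsg.Agent.Blocks.NormSum
import Cfsg.Agent.Blocks.PrincipalConst
import Cfsg.Agent.Chars2.Linear
import Mathlib.RingTheory.RootsOfUnity.Complex
import Mathlib.Tactic.LinearCombination

/-!
Brauer's order formula for a dihedral Sylow 2-subgroup and one class of involutions: products of two
involutions counted against the class function of the principal block attached to `1 - λ` on the
cyclic maximal subgroup of the Sylow subgroup.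
-/

set_option autoImplicit false
set_option linter.style.haveILetI false

namespace Cfsg.Agent.Screen.DihedralOrder

open Cfsg Cfsg.Agent
open scoped ComplexConjugate

universe u

variable {G : Type u} [Group G] [Fintype G]

/-- The data: `P = ⟨σ, τ⟩` dihedral with `σ` of order `2 k`, `k = 2 ^ e`, `e ≥ 1`. -/
structure Setup (P : Sylow 2 G) (σ τ : G) (e : ℕ) : Prop where
  epos : 1 ≤ e
  sP : σ ∈ (P : Subgroup G)
  tP : τ ∈ (P : Subgroup G)
  ord : orderOf σ = 2 * 2 ^ e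
  tord : orderOf τ = 2
  rel : τ * σ * τ⁻¹ = σ⁻¹
  gen : Subgroup.closure ({σ, τ} : Set G) = (P : Subgroup G)

namespace Setup

variable {P : Sylow 2 G} {σ τ : G} {e : ℕ} (h : Setup P σ τ e)

include h

theorem k_two : 2 ≤ 2 ^ e := le_trans (by norm_num) (Nat.pow_le_pow_right two_pos h.epos)

theorem tt : τ * τ = 1 := by rw [← pow_two, ← h.tord, pow_orderOf_eq_one]

theorem tinv : τ⁻¹ = τ := inv_eq_of_mul_eq_one_right h.tt

theorem tau_zpow (i : ℤ) : τ * σ ^ i = σ ^ (-i) * τ := by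
  rw [← mul_inv_eq_iff_eq_mul, ← conj_zpow, h.rel, inv_zpow, zpow_neg]

theorem zpow_eq (i j : ℤ) : σ ^ i = σ ^ j ↔ i ≡ j [ZMOD (2 * 2 ^ e : ℕ)] := by
  rw [zpow_eq_zpow_iff_modEq, h.ord]

theorem tau_notMem (i : ℤ) : τ ≠ σ ^ i := by
  intro he
  have h1 : τ * σ * τ⁻¹ = σ := by
    rw [he, (Commute.zpow_self σ i).eq, mul_inv_cancel_right]
  rw [h.rel] at h1
  have h2 : σ ^ 2 = 1 := by
    rw [pow_two]
    nth_rw 1 [← h1]
    exact inv_mul_cancel σ
  have h3 := Nat.le_of_dvd (by norm_num) (orderOf_dvd_of_pow_eq_one h2)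
  rw [h.ord] at h3
  have := h.k_two
  omega

theorem refl_ne (i j : ℤ) : σ ^ i * τ ≠ σ ^ j := fun he =>
  h.tau_notMem (j - i) (by rw [sub_eq_add_neg, zpow_add, (Commute.zpow_zpow_self σ j (-i)).eq, zpow_neg, ← he,
    inv_mul_cancel_left])

theorem refl_sq (i : ℤ) : σ ^ i * τ * (σ ^ i * τ) = 1 := by
  calc σ ^ i * τ * (σ ^ i * τ) = σ ^ i * (τ * σ ^ i) * τ := by group
    _ = σ ^ i * (σ ^ (-i) * τ) * τ := by rw [h.tau_zpow]
    _ = σ ^ i * σ ^ (-i) * (τ * τ) := by group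
    _ = 1 := by rw [h.tt, zpow_neg, mul_inv_cancel, one_mul]

theorem refl_mul (i j : ℤ) : σ ^ i * τ * (σ ^ j * τ) = σ ^ (i - j) := by
  calc σ ^ i * τ * (σ ^ j * τ) = σ ^ i * (τ * σ ^ j) * τ := by group
    _ = σ ^ i * (σ ^ (-j) * τ) * τ := by rw [h.tau_zpow]
    _ = σ ^ i * σ ^ (-j) * (τ * τ) := by group
    _ = σ ^ (i - j) := by rw [h.tt, mul_one, ← zpow_add, sub_eq_add_neg]

theorem conj_rot (i j : ℤ) : σ ^ i * τ * σ ^ j * (σ ^ i * τ)⁻¹ = σ ^ (-j) := by
  rw [mul_inv_eq_iff_eq_mul, mul_assoc, h.tau_zpow, ← mul_assoc, ← zpow_add, add_comm i (-j), zpow_add, mul_assoc]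

theorem conj_refl (i j : ℤ) : σ ^ j * (σ ^ i * τ) * (σ ^ j)⁻¹ = σ ^ (i + 2 * j) * τ := by
  calc σ ^ j * (σ ^ i * τ) * (σ ^ j)⁻¹ = σ ^ j * σ ^ i * (τ * σ ^ (-j)) := by rw [← zpow_neg]; group
    _ = σ ^ j * σ ^ i * (σ ^ j * τ) := by rw [h.tau_zpow, neg_neg]
    _ = σ ^ (i + 2 * j) * τ := by rw [← mul_assoc, ← zpow_add, ← zpow_add]; ring_nf

theorem mem_eq {g : G} (hg : g ∈ (P : Subgroup G)) : ∃ i : ℤ, g = σ ^ i ∨ g = σ ^ i * τ := by
  rw [← h.gen] at hg
  induction hg using Subgroup.closure_induction with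
  | mem x hx =>
    rcases hx with rfl | hx
    · exact ⟨1, Or.inl (zpow_one x).symm⟩
    · rw [Set.mem_singleton_iff] at hx
      exact ⟨0, Or.inr (by rw [hx, zpow_zero, one_mul])⟩
  | one => exact ⟨0, Or.inl (zpow_zero σ).symm⟩
  | mul a b _ _ ha hb =>
    obtain ⟨i, rfl | rfl⟩ := ha <;> obtain ⟨j, rfl | rfl⟩ := hb
    · exact ⟨i + j, Or.inl (zpow_add σ i j).symm⟩
    · exact ⟨i + j, Or.inr (by rw [← mul_assoc, ← zpow_add])⟩
    · exact ⟨i - j, Or.inr (by rw [mul_assoc, h.tau_zpow, ← mul_assoc, ← zpow_add, sub_eq_add_neg])⟩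
    · exact ⟨i - j, Or.inl (h.refl_mul i j)⟩
  | inv a _ ha =>
    obtain ⟨i, rfl | rfl⟩ := ha
    · exact ⟨-i, Or.inl (zpow_neg σ i).symm⟩
    · exact ⟨i, Or.inr (inv_eq_of_mul_eq_one_right (h.refl_sq i))⟩

theorem zpow_mem (i : ℤ) : σ ^ i ∈ (P : Subgroup G) := Subgroup.zpow_mem _ h.sP i

theorem refl_mem (i : ℤ) : σ ^ i * τ ∈ (P : Subgroup G) := Subgroup.mul_mem _ (h.zpow_mem i) h.tP

theorem card_P : Nat.card (P : Subgroup G) = 2 * (2 * 2 ^ e) := by
  classical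
  let f : Fin (2 * 2 ^ e) × Bool → (P : Subgroup G) := fun p =>
    if p.2 then ⟨σ ^ ((p.1 : ℕ) : ℤ) * τ, h.refl_mem _⟩ else ⟨σ ^ ((p.1 : ℕ) : ℤ), h.zpow_mem _⟩
  have hf : Function.Bijective f := by
    constructor
    · rintro ⟨i, b⟩ ⟨j, c⟩ heq
      have heq' := congrArg Subtype.val heq
      have key : σ ^ ((i : ℕ) : ℤ) = σ ^ ((j : ℕ) : ℤ) → i = j := by
        intro he
        rw [h.zpow_eq, Int.natCast_modEq_iff, Nat.ModEq, Nat.mod_eq_of_lt i.2, Nat.mod_eq_of_lt j.2] at he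
        exact Fin.ext he
      cases b <;> cases c <;> simp only [f, if_true, Bool.false_eq_true, if_false] at heq'
      · rw [key heq']
      · exact absurd heq'.symm (h.refl_ne _ _)
      · exact absurd heq' (h.refl_ne _ _)
      · rw [key (mul_right_cancel heq')]
    · rintro ⟨g, hg⟩
      obtain ⟨i, hi⟩ := h.mem_eq hg
      set m : ℤ := i % ((2 * 2 ^ e : ℕ) : ℤ) with hm
      have hpos : (0 : ℤ) < ((2 * 2 ^ e : ℕ) : ℤ) := by positivity
      have hm0 : 0 ≤ m := Int.emod_nonneg _ hpos.ne'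
      have hlt : m.toNat < 2 * 2 ^ e := by
        have := Int.emod_lt_of_pos i hpos
        omega
      have hz : σ ^ ((m.toNat : ℕ) : ℤ) = σ ^ i := by
        rw [Int.toNat_of_nonneg hm0, hm, h.zpow_eq]
        exact Int.mod_modEq _ _
      rcases hi with rfl | rfl
      · exact ⟨⟨⟨m.toNat, hlt⟩, false⟩, Subtype.ext (by simp only [f, Bool.false_eq_true, if_false]; exact hz)⟩
      · exact ⟨⟨⟨m.toNat, hlt⟩, true⟩, Subtype.ext (by simp only [f, if_true]; rw [hz])⟩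
  rw [← Nat.card_eq_of_bijective f hf, Nat.card_prod, Nat.card_fin, Nat.card_eq_fintype_card, Fintype.card_bool,
    mul_comm]

theorem iso_dihedral : Nonempty ((P : Subgroup G) ≃* DihedralGroup (2 * 2 ^ e)) := by
  refine TwoGroups.IsTwoExt.dihedral (x := ⟨σ, h.sP⟩) (y := ⟨τ, h.tP⟩)
    ⟨by rw [Subgroup.orderOf_mk, h.ord], h.card_P, by positivity, ?_, Subtype.ext h.tt, Subtype.ext ?_⟩
  · intro hm
    obtain ⟨i, hi⟩ := Subgroup.mem_zpowers_iff.1 hm
    exact h.tau_notMem i (by simpa using (congrArg Subtype.val hi).symm)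
  · simpa using h.rel

/-- The central involution. -/
theorem J_ord : orderOf (σ ^ 2 ^ e) = 2 := by
  rw [orderOf_pow_of_dvd (by positivity) (by rw [h.ord]; exact dvd_mul_left _ _), h.ord,
    Nat.mul_div_cancel _ (by positivity)]

theorem J_comm {g : G} (hg : g ∈ (P : Subgroup G)) : Commute g (σ ^ 2 ^ e) := by
  obtain ⟨i, hi | hi⟩ := h.mem_eq hg
  · rw [hi]; exact (Commute.zpow_self σ i).pow_right _
  · rw [hi]
    refine ((Commute.zpow_self σ i).pow_right _).mul_left ?_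
    show τ * σ ^ 2 ^ e = σ ^ 2 ^ e * τ
    rw [← zpow_natCast, h.tau_zpow, zpow_neg, zpow_natCast,
      inv_eq_of_mul_eq_one_right (show σ ^ 2 ^ e * σ ^ 2 ^ e = 1 by
        rw [← pow_add, ← two_mul, ← h.ord, pow_orderOf_eq_one])]

/-- Involutions among the rotations. -/
theorem rot_sq {i : ℤ} (hi : σ ^ i * σ ^ i = 1) : σ ^ i = 1 ∨ σ ^ i = σ ^ 2 ^ e := by
  rw [← zpow_add, ← zpow_zero σ, h.zpow_eq, Int.modEq_zero_iff_dvd] at hi
  obtain ⟨c, hc⟩ := hi
  push_cast at hc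
  have hi' : i = 2 ^ e * c := by linarith
  rcases Int.even_or_odd c with ⟨d, hd⟩ | ⟨d, hd⟩
  · left
    rw [← zpow_zero σ, h.zpow_eq, Int.modEq_zero_iff_dvd]
    exact ⟨d, by rw [hi', hd]; push_cast; ring⟩
  · right
    rw [← zpow_natCast σ (2 ^ e), h.zpow_eq]
    exact Int.modEq_iff_dvd.2 ⟨-d, by rw [hi', hd]; push_cast; ring⟩

/-- A retraction of the centralizer of the central involution onto `P`. -/
theorem exists_retraction : ∃ R : G → G,
    (∀ a b, Commute a (σ ^ 2 ^ e) → Commute b (σ ^ 2 ^ e) → R (a * b) = R a * R b) ∧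
    (∀ p ∈ (P : Subgroup G), R p = p) ∧ (∀ a, R a ∈ (P : Subgroup G)) ∧
    (∀ a, Commute a (σ ^ 2 ^ e) → (R a = 1 ↔ Odd (orderOf a))) ∧
    ∀ z : G, σ ^ 2 ^ e ∈ Subgroup.zpowers z → ∀ w, Commute w z → Odd (orderOf w) →
      w ∈ centralizerPPrimeCore 2 z := by
  classical
  haveI : Fact (Nat.Prime 2) := ⟨Nat.prime_two⟩
  set J := σ ^ 2 ^ e with hJ
  set C := Subgroup.centralizer ({J} : Set G) with hC
  obtain ⟨N, hNn, hNodd, a, hNidx⟩ := S0514.result P (2 * 2 ^ e) (by have := h.k_two; omega) h.iso_dihedral J h.J_ord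
  haveI := hNn
  have hPC : (P : Subgroup G) ≤ C := fun g hg => Subgroup.mem_centralizer_singleton_iff.2 (h.J_comm hg).eq
  let Q : Sylow 2 C := P.subtype hPC
  have hQc : Nat.card Q = Nat.card (P : Subgroup G) :=
    Nat.card_congr (Subgroup.subgroupOfEquivOfLe hPC).toEquiv
  have ha : 2 ^ a = Nat.card (P : Subgroup G) := by
    rw [← hQc, Sylow.card_eq_multiplicity, ← N.card_mul_index, hNidx,
      Nat.factorization_mul Nat.card_pos.ne' (by positivity), Finsupp.add_apply,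
      Nat.Prime.factorization_pow Nat.prime_two, Finsupp.single_eq_same,
      Nat.factorization_eq_zero_of_not_dvd (fun hd => Nat.not_even_iff_odd.2 hNodd (even_iff_two_dvd.2 hd))]
    simp
  have hodd : ∀ w : C, w ∈ N ↔ Odd (orderOf w) := by
    intro w
    constructor
    · exact fun hw => hNodd.of_dvd_nat (Subgroup.orderOf_dvd_natCard N hw)
    · intro hw
      have h1 := orderOf_map_dvd (QuotientGroup.mk' N) w
      have h2 : orderOf (QuotientGroup.mk' N w) ∣ 2 ^ a := hNidx ▸ orderOf_dvd_natCard _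
      have h3 : orderOf (QuotientGroup.mk' N w) = 1 :=
        Nat.eq_one_of_dvd_coprimes ((Nat.coprime_two_right.2 hw).pow_right a) h1 h2
      exact (QuotientGroup.eq_one_iff w).1 (orderOf_eq_one_iff.1 h3)
  set ι : (P : Subgroup G) →* C ⧸ N := (QuotientGroup.mk' N).comp (Subgroup.inclusion hPC) with hι
  have hinj : Function.Injective ι := by
    rw [← MonoidHom.ker_eq_bot_iff, Subgroup.eq_bot_iff_forall]
    intro p hp
    have h1 : Odd (orderOf (Subgroup.inclusion hPC p)) := (hodd _).1 ((QuotientGroup.eq_one_iff _).1 hp)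
    rw [orderOf_injective _ (Subgroup.inclusion_injective hPC)] at h1
    obtain ⟨j, hj⟩ := P.2 p
    obtain ⟨i, -, hi⟩ := (Nat.dvd_prime_pow Nat.prime_two).1 (orderOf_dvd_of_pow_eq_one hj)
    rw [hi] at h1
    rcases i with _ | i
    · exact orderOf_eq_one_iff.1 hi
    · exact absurd h1 (Nat.not_odd_iff_even.2 ((Nat.even_pow' (Nat.succ_ne_zero i)).2 even_two))
  have hbij : Function.Bijective ι :=
    (Nat.bijective_iff_injective_and_card ι).2 ⟨hinj, by rw [← ha, ← hNidx]; rfl⟩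
  let ψ : C →* (P : Subgroup G) := (MulEquiv.ofBijective ι hbij).symm.toMonoidHom.comp (QuotientGroup.mk' N)
  have hψp : ∀ (p : G) (hp : p ∈ (P : Subgroup G)), ψ ⟨p, hPC hp⟩ = ⟨p, hp⟩ := fun p hp =>
    (MulEquiv.ofBijective ι hbij).injective (by simp [ψ, hι]; rfl)
  have hψ1 : ∀ c : C, ψ c = 1 ↔ Odd (orderOf c) := by
    intro c
    rw [← hodd]
    show (MulEquiv.ofBijective ι hbij).symm (QuotientGroup.mk' N c) = 1 ↔ _
    rw [MulEquiv.map_eq_one_iff]
    exact QuotientGroup.eq_one_iff c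
  refine ⟨fun g => if hg : g ∈ C then (ψ ⟨g, hg⟩ : G) else 1, ?_, ?_, ?_, ?_, ?_⟩
  · intro x y hx hy
    have hx' : x ∈ C := Subgroup.mem_centralizer_singleton_iff.2 hx.eq
    have hy' : y ∈ C := Subgroup.mem_centralizer_singleton_iff.2 hy.eq
    simp only [dif_pos hx', dif_pos hy', dif_pos (C.mul_mem hx' hy')]
    rw [← Subgroup.coe_mul, ← map_mul]
    rfl
  · intro p hp
    simp only [dif_pos (hPC hp), hψp p hp]
  · intro x
    by_cases hx : x ∈ C
    · simp only [dif_pos hx]; exact (ψ ⟨x, hx⟩).2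
    · simp only [dif_neg hx]; exact one_mem _
  · intro x hx
    have hx' : x ∈ C := Subgroup.mem_centralizer_singleton_iff.2 hx.eq
    simp only [dif_pos hx']
    rw [OneMemClass.coe_eq_one, hψ1, Subgroup.orderOf_mk]
  · intro z hzJ w hw hwo
    set Cz := Subgroup.centralizer ({z} : Set G)
    have hCz : Cz ≤ C := by
      intro g hg
      obtain ⟨i, hi⟩ := Subgroup.mem_zpowers_iff.1 hzJ
      refine Subgroup.mem_centralizer_singleton_iff.2 ?_
      rw [← hi]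
      exact ((show Commute g z from Subgroup.mem_centralizer_singleton_iff.1 hg).zpow_right i).eq
    let f : Cz →* (P : Subgroup G) := ψ.comp (Subgroup.inclusion hCz)
    have hker : ∀ c : Cz, c ∈ f.ker ↔ Odd (orderOf c) := by
      intro c
      rw [MonoidHom.mem_ker, show f c = ψ (Subgroup.inclusion hCz c) from rfl, hψ1,
        orderOf_injective _ (Subgroup.inclusion_injective hCz)]
    refine Subgroup.mem_map.2 ⟨⟨w, Subgroup.mem_centralizer_singleton_iff.2 hw.eq⟩, ?_, rfl⟩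
    refine Core.le_pPrimeCore (MonoidHom.normal_ker f) ?_ ((hker _).2 (by rw [Subgroup.orderOf_mk]; exact hwo))
    refine (Nat.prime_two.coprime_iff_not_dvd.2 fun hd => ?_).symm
    obtain ⟨c, hc⟩ := exists_prime_orderOf_dvd_card' 2 hd
    have h2 := (hker c).1 c.2
    rw [Subgroup.orderOf_coe, hc] at h2
    exact Nat.not_odd_iff_even.2 even_two h2

/-- The power of `z ≠ 1` that is the central involution. -/
theorem exists_pow_J {l : ℕ} (hl : σ ^ l ≠ 1) : ∃ d : ℕ, (σ ^ l) ^ d = σ ^ 2 ^ e ∧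
    ∀ m : ℕ, orderOf (σ ^ m) = orderOf (σ ^ l) → (σ ^ m) ^ d = σ ^ 2 ^ e := by
  have h2 : 2 ∣ orderOf (σ ^ l) := by
    have hd : orderOf (σ ^ l) ∣ 2 ^ (e + 1) := by
      rw [pow_succ', ← h.ord]; exact orderOf_pow_dvd l
    obtain ⟨i, -, hi⟩ := (Nat.dvd_prime_pow Nat.prime_two).1 hd
    rcases i with _ | i
    · exact absurd (orderOf_eq_one_iff.1 hi) hl
    · exact hi ▸ dvd_pow_self 2 (Nat.succ_ne_zero i)
  have key : ∀ m : ℕ, orderOf (σ ^ m) = orderOf (σ ^ l) → (σ ^ m) ^ (orderOf (σ ^ l) / 2) = σ ^ 2 ^ e := by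
    intro m hm
    have hpos := orderOf_pos (σ ^ m)
    rw [hm] at hpos
    have ho : orderOf ((σ ^ m) ^ (orderOf (σ ^ l) / 2)) = 2 := by
      rw [orderOf_pow_of_dvd (by omega) (by rw [hm]; exact Nat.div_dvd_of_dvd h2), hm,
        Nat.div_div_self h2 hpos.ne']
    have hsq : (σ ^ m) ^ (orderOf (σ ^ l) / 2) * (σ ^ m) ^ (orderOf (σ ^ l) / 2) = 1 := by
      have h0 := pow_orderOf_eq_one ((σ ^ m) ^ (orderOf (σ ^ l) / 2))
      rwa [ho, pow_two] at h0
    rw [← pow_mul, ← zpow_natCast] at hsq ho ⊢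
    exact (h.rot_sq hsq).resolve_left fun h1 => by rw [h1, orderOf_one] at ho; omega
  exact ⟨_, key l rfl, key⟩

theorem zpow_sub_nat {l : ℕ} (hl : l ≤ 2 * 2 ^ e) : σ ^ (2 * 2 ^ e - l) = (σ ^ l)⁻¹ := by
  rw [pow_sub σ hl, ← h.ord, pow_orderOf_eq_one, one_mul]

theorem char_symm (χ : IrrCharacter G) (i : ℤ) : (χ : G → ℂ) (σ ^ (-i)) = (χ : G → ℂ) (σ ^ i) := by
  rw [← mul_inv_eq_iff_eq_mul.2 (h.tau_zpow i)]
  exact Chars.isClassFunction_irr χ (σ ^ i) τ

theorem char_real (χ : IrrCharacter G) (l : ℕ) : conj ((χ : G → ℂ) (σ ^ l)) = (χ : G → ℂ) (σ ^ l) := by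
  rw [← Chars.char_inv_eq_conj (Chars.irr_isCharacter χ), ← zpow_natCast, ← zpow_neg, h.char_symm]

theorem two_part (l : ℕ) : ∃ j : ℕ, orderOf (σ ^ l) = 2 ^ j := by
  have hd : orderOf (σ ^ l) ∣ 2 ^ (e + 1) := by rw [pow_succ', ← h.ord]; exact orderOf_pow_dvd l
  obtain ⟨i, -, hi⟩ := (Nat.dvd_prime_pow Nat.prime_two).1 hd
  exact ⟨i, hi⟩

open scoped Classical in
/-- The columns of the principal block at the rotations. -/
theorem column {M : Ideal AlgInt} [M.IsMaximal] (h2M : ((2 : ℕ) : AlgInt) ∈ M) {m l : ℕ} (hm0 : 0 < m)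
    (hm : m < 2 * 2 ^ e) (hl0 : 0 < l) (hl : l < 2 * 2 ^ e) :
    ∑ χ ∈ Finset.univ.filter (· ∈ principalBlock M G), (χ : G → ℂ) (σ ^ m) * (χ : G → ℂ) (σ ^ l) =
      ((2 * 2 ^ e : ℕ) : ℂ) * ((if l = m then 1 else 0) + (if l = 2 * 2 ^ e - m then 1 else 0)) := by
  haveI : Fact (Nat.Prime 2) := ⟨Nat.prime_two⟩
  obtain ⟨R, hRmul, hRP, hRmem, hR1, -⟩ := h.exists_retraction
  set J := σ ^ 2 ^ e with hJdef
  set z := σ ^ m with hz
  have hz1 : z ≠ 1 := fun h1 => by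
    have := Nat.le_of_dvd hm0 (orderOf_dvd_of_pow_eq_one h1)
    rw [h.ord] at this
    omega
  have hpp : ∀ j : ℕ, Blocks.ppart 2 (σ ^ j) = σ ^ j := fun j => by
    conv_lhs => rw [← mul_one (σ ^ j)]
    exact Blocks.ppart_mul (Commute.one_right _) (h.two_part j) (by rw [orderOf_one]; norm_num)
  by_cases hlm : l = m ∨ l = 2 * 2 ^ e - m
  swap
  · push Not at hlm
    rw [if_neg hlm.1, if_neg hlm.2, add_zero, mul_zero]
    have key : ¬ IsConj (Blocks.ppart 2 z) (Blocks.ppart 2 (σ ^ l)) := by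
      rw [hz, hpp, hpp]
      intro hc
      obtain ⟨g, hg⟩ := isConj_iff.1 hc
      have ho : orderOf (σ ^ l) = orderOf (σ ^ m) := by
        rw [← hg]; exact orderOf_injective (MulAut.conj g).toMonoidHom (MulAut.conj g).injective _
      obtain ⟨d, hd, hd'⟩ := h.exists_pow_J (l := m) hz1
      have hgJ : Commute g J := by
        refine mul_inv_eq_iff_eq_mul.1 ?_
        rw [hJdef, ← hd, ← conj_pow, hg, hd' l ho, hd]
      have hσJ : ∀ j : ℕ, Commute (σ ^ j) J := fun j => h.J_comm (Subgroup.pow_mem _ h.sP j)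
      have hg' : g * σ ^ m = σ ^ l * g := mul_inv_eq_iff_eq_mul.1 hg
      have hR := congrArg R hg'
      rw [hRmul _ _ hgJ (hσJ m), hRmul _ _ (hσJ l) hgJ, hRP _ (Subgroup.pow_mem _ h.sP m),
        hRP _ (Subgroup.pow_mem _ h.sP l)] at hR
      have hR' : R g * σ ^ m * (R g)⁻¹ = σ ^ l := mul_inv_eq_iff_eq_mul.2 hR
      rw [← zpow_natCast σ m, ← zpow_natCast σ l] at hR'
      obtain ⟨i, hi | hi⟩ := h.mem_eq (hRmem g)
      · rw [hi, (Commute.zpow_zpow_self σ i (m : ℤ)).eq, mul_inv_cancel_right, h.zpow_eq,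
          Int.natCast_modEq_iff, Nat.ModEq, Nat.mod_eq_of_lt hm, Nat.mod_eq_of_lt hl] at hR'
        exact hlm.1 hR'.symm
      · rw [hi, h.conj_rot, h.zpow_eq, Int.modEq_iff_dvd, sub_neg_eq_add] at hR'
        obtain ⟨c, hc⟩ := hR'
        rcases lt_trichotomy c 1 with hc1 | hc1 | hc1
        · have : ((2 * 2 ^ e : ℕ) : ℤ) * c ≤ 0 := mul_nonpos_of_nonneg_of_nonpos (Int.natCast_nonneg _) (by omega)
          omega
        · subst hc1
          rw [mul_one] at hc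
          exact hlm.2 (by omega)
        · have : ((2 * 2 ^ e : ℕ) : ℤ) * 2 ≤ ((2 * 2 ^ e : ℕ) : ℤ) * c :=
            mul_le_mul_of_nonneg_left (by omega) (Int.natCast_nonneg _)
          omega
    refine Eq.trans (Finset.sum_congr rfl fun χ _ => ?_)
      (Blocks.block_orth h2M Blocks.isPBlock_principal key)
    rw [h.char_real]
  have hsame : ∀ χ : IrrCharacter G, (χ : G → ℂ) (σ ^ l) = (χ : G → ℂ) z := by
    intro χ
    rcases hlm with rfl | rfl
    · rfl
    · rw [h.zpow_sub_nat hm.le, ← zpow_natCast, ← zpow_neg, h.char_symm, zpow_natCast]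
  -- the centralizer of the rotation
  set Cz := Subgroup.centralizer ({z} : Set G) with hCz
  letI : Fintype Cz := Fintype.ofFinite _
  obtain ⟨d, hd, -⟩ := h.exists_pow_J (l := m) hz1
  have hcJ : ∀ c : Cz, Commute (c : G) J := fun c => by
    rw [hJdef, ← hd]
    exact (show Commute (c : G) z from Subgroup.mem_centralizer_singleton_iff.1 c.2).pow_right d
  let f : Cz →* G := MonoidHom.mk' (fun c => R c) (fun a b => by
    rw [Subgroup.coe_mul]; exact hRmul _ _ (hcJ a) (hcJ b))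
  have hker : ¬ 2 ∣ Nat.card f.ker := fun hd2 => by
    obtain ⟨c, hc⟩ := exists_prime_orderOf_dvd_card' 2 hd2
    have h2 := (hR1 _ (hcJ c.1)).1 (MonoidHom.mem_ker.1 c.2)
    rw [Subgroup.orderOf_coe, Subgroup.orderOf_coe, hc] at h2
    exact Nat.not_odd_iff_even.2 even_two h2
  have hcomm : ∀ c : Cz, R c * z = z * R c := fun c => by
    have hzJ : Commute z J := h.J_comm (Subgroup.pow_mem _ h.sP m)
    have := congrArg R (Subgroup.mem_centralizer_singleton_iff.1 c.2)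
    rwa [hRmul _ _ (hcJ c) hzJ, hRmul _ _ hzJ (hcJ c), hRP z (Subgroup.pow_mem _ h.sP m)] at this
  have hrange : ∃ k : ℕ, f.ker.index = 2 ^ k ∧ ((2 : ℂ) ^ k) =
      ((2 * 2 ^ e : ℕ) : ℂ) * ((if l = m then 1 else 0) + (if l = 2 * 2 ^ e - m then 1 else 0)) := by
    by_cases hmk : m = 2 ^ e
    · refine ⟨e + 2, ?_, ?_⟩
      · have hr : f.range = (P : Subgroup G) := by
          refine le_antisymm ?_ fun g hg => ⟨⟨g, Subgroup.mem_centralizer_singleton_iff.2 ?_⟩, hRP g hg⟩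
          · rintro _ ⟨c, rfl⟩; exact hRmem _
          · rw [hz, hmk]; exact (h.J_comm hg).eq
        rw [Subgroup.index_ker, hr, h.card_P, pow_add]
        ring
      · have : l = m := by omega
        rw [if_pos this, if_pos (by omega)]
        push_cast
        ring
    · refine ⟨e + 1, ?_, ?_⟩
      · have hr : f.range = Subgroup.zpowers σ := by
          refine le_antisymm ?_ ?_
          · rintro _ ⟨c, rfl⟩
            obtain ⟨i, hi | hi⟩ := h.mem_eq (hRmem (c : G))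
            · exact Subgroup.mem_zpowers_iff.2 ⟨i, hi.symm⟩
            · exfalso
              have h1 := mul_inv_eq_iff_eq_mul.2 (hcomm c)
              rw [hi, hz, ← zpow_natCast, h.conj_rot, h.zpow_eq, Int.modEq_iff_dvd, sub_neg_eq_add] at h1
              obtain ⟨w, hw⟩ := h1
              rcases lt_trichotomy w 1 with hc1 | hc1 | hc1
              · have : ((2 * 2 ^ e : ℕ) : ℤ) * w ≤ 0 :=
                  mul_nonpos_of_nonneg_of_nonpos (Int.natCast_nonneg _) (by omega)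
                omega
              · subst hc1
                omega
              · have : ((2 * 2 ^ e : ℕ) : ℤ) * 2 ≤ ((2 * 2 ^ e : ℕ) : ℤ) * w :=
                  mul_le_mul_of_nonneg_left (by omega) (Int.natCast_nonneg _)
                omega
          · intro g hg
            obtain ⟨i, rfl⟩ := Subgroup.mem_zpowers_iff.1 hg
            exact ⟨⟨σ ^ i, Subgroup.mem_centralizer_singleton_iff.2 ((Commute.zpow_self σ i).pow_right m).eq⟩,
              hRP _ (h.zpow_mem i)⟩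
        rw [Subgroup.index_ker, hr, Nat.card_zpowers, h.ord, pow_succ']
      · rcases hlm with hl' | hl'
        · rw [if_pos hl', if_neg (by omega)]
          push_cast; ring
        · rw [if_neg (by omega), if_pos hl']
          push_cast; ring
  obtain ⟨k, hk, hk'⟩ := hrange
  rw [← hk']
  have h1 := Blocks.norm_sum_principal (M := M) h2M (z := z) (h.two_part m) (y := 1)
    (by rw [orderOf_one]; norm_num)
  rw [(Blocks.sum_sq_principal (M := M) (G := Cz) h2M hker hk (y := 1) (by rw [orderOf_one]; norm_num)).1] at h1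
  simp only [OneMemClass.coe_one, mul_one, Nat.cast_ofNat] at h1
  rw [← h1]
  refine Finset.sum_congr rfl fun χ _ => ?_
  rw [hsame χ, hz, h.char_real]

/-- Two-elements of the centralizer are conjugate inside it into `P`. -/
theorem exists_conj {z : G} (hz : Commute z (σ ^ 2 ^ e)) (h2 : ∃ j : ℕ, orderOf z = 2 ^ j) :
    ∃ d p : G, Commute d (σ ^ 2 ^ e) ∧ p ∈ (P : Subgroup G) ∧ z = d * p * d⁻¹ := by
  haveI : Fact (Nat.Prime 2) := ⟨Nat.prime_two⟩
  set C := Subgroup.centralizer ({σ ^ 2 ^ e} : Set G) with hC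
  have hPC : (P : Subgroup G) ≤ C := fun g hg => Subgroup.mem_centralizer_singleton_iff.2 (h.J_comm hg).eq
  let Q : Sylow 2 C := P.subtype hPC
  have hzC : z ∈ C := Subgroup.mem_centralizer_singleton_iff.2 hz.eq
  obtain ⟨j, hj⟩ := h2
  have hQ : IsPGroup 2 (Subgroup.zpowers (⟨z, hzC⟩ : C)) :=
    IsPGroup.of_card (n := j) (by rw [Nat.card_zpowers, Subgroup.orderOf_mk, hj])
  obtain ⟨T, hT⟩ := hQ.exists_le_sylow
  obtain ⟨d, hd⟩ := MulAction.exists_smul_eq C Q T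
  have hzT : (⟨z, hzC⟩ : C) ∈ ((d • Q : Sylow 2 C) : Subgroup C) := hd.symm ▸ hT (Subgroup.mem_zpowers _)
  obtain ⟨p, hp, hpz⟩ := hzT
  exact ⟨d, p, Subgroup.mem_centralizer_singleton_iff.1 d.2, hp, (congrArg Subtype.val hpz).symm⟩

theorem conj_refl' (i j : ℤ) : σ ^ j * τ * (σ ^ i * τ) * (σ ^ j * τ)⁻¹ = σ ^ (2 * j - i) * τ := by
  rw [inv_eq_of_mul_eq_one_right (h.refl_sq j), h.refl_mul, ← mul_assoc, ← zpow_add]
  ring_nf

/-- Conjugation by `P` preserves the parity of a reflection. -/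
theorem conj_refl_parity {x : G} (hx : x ∈ (P : Subgroup G)) (i : ℤ) :
    ∃ j : ℤ, x * (σ ^ i * τ) * x⁻¹ = σ ^ j * τ ∧ (2 : ℤ) ∣ j - i := by
  obtain ⟨l, hl | hl⟩ := h.mem_eq hx
  · exact ⟨i + 2 * l, by rw [hl, h.conj_refl], ⟨l, by ring⟩⟩
  · exact ⟨2 * l - i, by rw [hl, h.conj_refl'], ⟨l - i, by ring⟩⟩

open scoped Classical in
/-- Involutions commuting with the central involution, other than itself. -/
noncomputable def refl (_h : Setup P σ τ e) : Finset G :=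
  Finset.univ.filter fun u => orderOf u = 2 ∧ Commute u (σ ^ 2 ^ e) ∧ u ≠ σ ^ 2 ^ e

theorem mem_refl {u : G} : u ∈ h.refl ↔ orderOf u = 2 ∧ Commute u (σ ^ 2 ^ e) ∧ u ≠ σ ^ 2 ^ e := by
  classical
  simp [refl]

theorem refl_conj {u : G} (hu : u ∈ h.refl) : ∃ d : G, Commute d (σ ^ 2 ^ e) ∧
    (u = d * τ * d⁻¹ ∨ u = d * (σ * τ) * d⁻¹) := by
  obtain ⟨hu2, huJ, hne⟩ := h.mem_refl.1 hu
  obtain ⟨d, p, hd, hp, rfl⟩ := h.exists_conj huJ ⟨1, by rw [hu2, pow_one]⟩
  have hpo : orderOf p = 2 := by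
    rw [← hu2]; exact (orderOf_injective (MulAut.conj d).toMonoidHom (MulAut.conj d).injective p).symm
  obtain ⟨i, hi | hi⟩ := h.mem_eq hp
  · exfalso
    have hsq : σ ^ i * σ ^ i = 1 := by rw [← hi, ← pow_two, ← hpo, pow_orderOf_eq_one]
    rcases h.rot_sq hsq with h1 | h1
    · rw [hi, h1, orderOf_one] at hpo; omega
    · exact hne (by rw [hi, h1, hd.eq, mul_inv_cancel_right])
  · rcases Int.even_or_odd i with ⟨j, hj⟩ | ⟨j, hj⟩
    · refine ⟨d * σ ^ j, hd.mul_left (h.J_comm (h.zpow_mem j)), Or.inl ?_⟩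
      have e1 := h.conj_refl 0 j
      rw [zpow_zero, one_mul] at e1
      rw [hi, show i = 0 + 2 * j by omega, ← e1]
      group
    · refine ⟨d * σ ^ j, hd.mul_left (h.J_comm (h.zpow_mem j)), Or.inr ?_⟩
      have e1 := h.conj_refl 1 j
      rw [zpow_one] at e1
      rw [hi, show i = 1 + 2 * j by omega, ← e1]
      group

theorem conj_refl_mem {a d : G} (ha : a ∈ (P : Subgroup G)) (hd : Commute d (σ ^ 2 ^ e)) {i : ℤ}
    (hai : a = σ ^ i * τ) : d * a * d⁻¹ ∈ h.refl := by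
  refine h.mem_refl.2 ⟨?_, (hd.mul_left (h.J_comm ha)).mul_left hd.inv_left, fun he => ?_⟩
  · refine (orderOf_injective (MulAut.conj d).toMonoidHom (MulAut.conj d).injective a).trans
      (orderOf_eq_prime (by rw [pow_two, hai, h.refl_sq]) fun h1 => h.refl_ne i 0 ?_)
    rw [← hai, h1, zpow_zero]
  · apply h.refl_ne i (2 ^ e : ℕ)
    rw [← hai, zpow_natCast]
    calc a = d⁻¹ * (d * a * d⁻¹) * d := by group
      _ = d⁻¹ * σ ^ 2 ^ e * d := by rw [he]
      _ = σ ^ 2 ^ e := by rw [mul_assoc, ← hd.eq, inv_mul_cancel_left]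

theorem R_refl {R : G → G}
    (hRmul : ∀ a b, Commute a (σ ^ 2 ^ e) → Commute b (σ ^ 2 ^ e) → R (a * b) = R a * R b)
    (hRP : ∀ p ∈ (P : Subgroup G), R p = p) (hRmem : ∀ a, R a ∈ (P : Subgroup G))
    {d : G} (hd : Commute d (σ ^ 2 ^ e)) (i : ℤ) :
    ∃ j : ℤ, R (d * (σ ^ i * τ) * d⁻¹) = σ ^ j * τ ∧ (2 : ℤ) ∣ j - i := by
  obtain ⟨j, hj, hp⟩ := h.conj_refl_parity (hRmem d) i
  refine ⟨j, ?_, hp⟩
  have hinv : R d⁻¹ = (R d)⁻¹ := by
    refine eq_inv_of_mul_eq_one_right ?_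
    rw [← hRmul _ _ hd hd.inv_left, mul_inv_cancel, hRP 1 (one_mem _)]
  rw [hRmul _ _ (hd.mul_left (h.J_comm (h.refl_mem i))) hd.inv_left, hRmul _ _ hd (h.J_comm (h.refl_mem i)),
    hRP _ (h.refl_mem i), hinv, hj]

open scoped Classical in
theorem card_class (a : G) :
    ((Finset.univ.filter fun d : G => Commute d (σ ^ 2 ^ e)).image fun d => d * a * d⁻¹).card *
      Nat.card (Subgroup.centralizer ({σ ^ 2 ^ e, a} : Set G)) =
      Nat.card (Subgroup.centralizer ({σ ^ 2 ^ e} : Set G)) := by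
  set D := Finset.univ.filter fun d : G => Commute d (σ ^ 2 ^ e) with hD
  have hcen : ∀ w : G, w ∈ Subgroup.centralizer ({σ ^ 2 ^ e, a} : Set G) ↔
      Commute w (σ ^ 2 ^ e) ∧ Commute w a := by
    intro w
    simp only [Subgroup.mem_centralizer_iff, Set.mem_insert_iff, Set.mem_singleton_iff, forall_eq_or_imp,
      forall_eq]
    exact ⟨fun hw => ⟨hw.1.symm, hw.2.symm⟩, fun hw => ⟨hw.1.eq.symm, hw.2.eq.symm⟩⟩
  have hD' : D.card = Nat.card (Subgroup.centralizer ({σ ^ 2 ^ e} : Set G)) := by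
    rw [hD, ← Fintype.card_subtype, ← Nat.card_eq_fintype_card]
    exact Nat.card_congr (Equiv.subtypeEquivRight fun d => Subgroup.mem_centralizer_singleton_iff.symm)
  rw [← hD', Finset.card_eq_sum_card_image (fun d => d * a * d⁻¹) D, Finset.sum_const_nat]
  intro v hv
  obtain ⟨d₀, hd₀, rfl⟩ := Finset.mem_image.1 hv
  have hd₀' : Commute d₀ (σ ^ 2 ^ e) := (Finset.mem_filter.1 hd₀).2
  rw [Nat.card_eq_fintype_card, Fintype.card_subtype]
  refine Finset.card_bij' (fun d _ => d₀⁻¹ * d) (fun w _ => d₀ * w) ?_ ?_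
    (fun d _ => mul_inv_cancel_left d₀ d) (fun w _ => inv_mul_cancel_left d₀ w)
  · intro d hd
    simp only [hD, Finset.mem_filter, Finset.mem_univ, true_and] at hd ⊢
    refine (hcen _).2 ⟨hd₀'.inv_left.mul_left hd.1, ?_⟩
    show d₀⁻¹ * d * a = a * (d₀⁻¹ * d)
    calc d₀⁻¹ * d * a = d₀⁻¹ * (d * a * d⁻¹) * d := by group
      _ = a * (d₀⁻¹ * d) := by rw [hd.2]; group
  · intro w hw
    simp only [hD, Finset.mem_filter, Finset.mem_univ, true_and] at hw ⊢
    obtain ⟨h1, h2⟩ := (hcen _).1 hw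
    refine ⟨hd₀'.mul_left h1, ?_⟩
    calc d₀ * w * a * (d₀ * w)⁻¹ = d₀ * (w * a) * w⁻¹ * d₀⁻¹ := by group
      _ = d₀ * a * d₀⁻¹ := by rw [h2.eq]; group

theorem card_refl : (h.refl.card : ℚ) =
    (Nat.card (Subgroup.centralizer ({σ ^ 2 ^ e} : Set G)) : ℚ) *
      (1 / (Nat.card (Subgroup.centralizer ({σ ^ 2 ^ e, τ} : Set G)) : ℚ) +
        1 / (Nat.card (Subgroup.centralizer ({σ ^ 2 ^ e, σ * τ} : Set G)) : ℚ)) := by
  classical
  obtain ⟨R, hRmul, hRP, hRmem, -, -⟩ := h.exists_retraction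
  set D := Finset.univ.filter fun d : G => Commute d (σ ^ 2 ^ e) with hD
  have hset : h.refl = (D.image fun d => d * τ * d⁻¹) ∪ D.image fun d => d * (σ * τ) * d⁻¹ := by
    ext u
    constructor
    · intro hu
      obtain ⟨d, hd, hu' | hu'⟩ := h.refl_conj hu
      · exact Finset.mem_union_left _ (Finset.mem_image.2 ⟨d, Finset.mem_filter.2 ⟨Finset.mem_univ _, hd⟩, hu'.symm⟩)
      · exact Finset.mem_union_right _ (Finset.mem_image.2 ⟨d, Finset.mem_filter.2 ⟨Finset.mem_univ _, hd⟩, hu'.symm⟩)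
    · intro hu
      rcases Finset.mem_union.1 hu with hu | hu <;> obtain ⟨d, hd, rfl⟩ := Finset.mem_image.1 hu
      · exact h.conj_refl_mem h.tP (Finset.mem_filter.1 hd).2 (i := 0) (by rw [zpow_zero, one_mul])
      · exact h.conj_refl_mem (Subgroup.mul_mem _ h.sP h.tP) (Finset.mem_filter.1 hd).2 (i := 1) (by rw [zpow_one])
  have hdisj : Disjoint (D.image fun d => d * τ * d⁻¹) (D.image fun d => d * (σ * τ) * d⁻¹) := by
    rw [Finset.disjoint_left]
    intro u h1 h2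
    obtain ⟨d, hd, rfl⟩ := Finset.mem_image.1 h1
    obtain ⟨d', hd', he⟩ := Finset.mem_image.1 h2
    obtain ⟨i, hi, hi2⟩ := h.R_refl hRmul hRP hRmem (Finset.mem_filter.1 hd).2 0
    obtain ⟨j, hj, hj2⟩ := h.R_refl hRmul hRP hRmem (Finset.mem_filter.1 hd').2 1
    rw [zpow_zero, one_mul] at hi
    rw [zpow_one, he, hi, mul_left_inj, h.zpow_eq, Int.modEq_iff_dvd] at hj
    obtain ⟨c, hc⟩ := hj
    push_cast at hc
    obtain ⟨w, hw⟩ := hi2
    obtain ⟨w', hw'⟩ := hj2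
    have : (2 : ℤ) * (2 ^ e * c) = 2 ^ e * c * 2 := by ring
    rw [mul_assoc] at hc
    omega
  rw [hset, Finset.card_union_of_disjoint hdisj]
  push_cast
  have e1 : ((D.image fun d => d * τ * d⁻¹).card : ℚ) *
      (Nat.card (Subgroup.centralizer ({σ ^ 2 ^ e, τ} : Set G)) : ℚ) =
      (Nat.card (Subgroup.centralizer ({σ ^ 2 ^ e} : Set G)) : ℚ) := by exact_mod_cast h.card_class τ
  have e2 : ((D.image fun d => d * (σ * τ) * d⁻¹).card : ℚ) *
      (Nat.card (Subgroup.centralizer ({σ ^ 2 ^ e, σ * τ} : Set G)) : ℚ) =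
      (Nat.card (Subgroup.centralizer ({σ ^ 2 ^ e} : Set G)) : ℚ) := by exact_mod_cast h.card_class (σ * τ)
  have n1 : (Nat.card (Subgroup.centralizer ({σ ^ 2 ^ e, τ} : Set G)) : ℚ) ≠ 0 := Nat.cast_ne_zero.2 Nat.card_pos.ne'
  have n2 : (Nat.card (Subgroup.centralizer ({σ ^ 2 ^ e, σ * τ} : Set G)) : ℚ) ≠ 0 := Nat.cast_ne_zero.2 Nat.card_pos.ne'
  rw [mul_add, mul_one_div, mul_one_div]
  nth_rw 1 [← e1]
  rw [← e2, mul_div_cancel_right₀ _ n1, mul_div_cancel_right₀ _ n2]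

/-- The coefficient of a character: the multiplicity difference `⟨χ, 1⟩ - ⟨χ, λ⟩` on `⟨σ⟩`. -/
noncomputable def coef (_h : Setup P σ τ e) (ζ : ℂ) (χ : IrrCharacter G) : ℂ :=
  ((2 * 2 ^ e : ℕ) : ℂ)⁻¹ * ∑ l ∈ Finset.range (2 * 2 ^ e), (1 - ζ ^ l) * (χ : G → ℂ) (σ ^ l)

open scoped Classical in
/-- The class function of the principal block. -/
noncomputable def phiFun (h : Setup P σ τ e) (M : Ideal AlgInt) (ζ : ℂ) (g : G) : ℂ :=
  ∑ χ ∈ Finset.univ.filter (· ∈ principalBlock M G), h.coef ζ χ * (χ : G → ℂ) g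

theorem phiFun_conj (M : Ideal AlgInt) (ζ : ℂ) (k g : G) : h.phiFun M ζ (k * g * k⁻¹) = h.phiFun M ζ g := by
  refine Finset.sum_congr rfl fun χ _ => ?_
  rw [Chars.isClassFunction_irr χ g k]

theorem coef_int {ζ : ℂ} (hζ : IsPrimitiveRoot ζ (2 * 2 ^ e)) (χ : IrrCharacter G) :
    ∃ a : ℤ, h.coef ζ χ = (a : ℂ) := by
  classical
  set K := Subgroup.zpowers σ
  letI : Fintype K := Fintype.ofFinite _
  have hgen : ∀ x : K, x ∈ Subgroup.zpowers (⟨σ, Subgroup.mem_zpowers σ⟩ : K) := by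
    rintro ⟨x, hx⟩
    obtain ⟨i, rfl⟩ := Subgroup.mem_zpowers_iff.1 hx
    exact ⟨i, Subtype.ext (by simp)⟩
  have hζ0 : ζ ≠ 0 := hζ.ne_zero (by positivity)
  have hz : orderOf (Units.mk0 ζ hζ0) ∣ orderOf (⟨σ, Subgroup.mem_zpowers σ⟩ : K) := by
    rw [Subgroup.orderOf_mk, h.ord]
    exact orderOf_dvd_of_pow_eq_one (Units.ext (by simpa using hζ.pow_eq_one))
  set φ : K →* ℂˣ := monoidHomOfForallMemZpowers hgen hz
  have hφ : ∀ l : ℕ, (φ ⟨σ ^ l, Subgroup.pow_mem _ (Subgroup.mem_zpowers σ) l⟩ : ℂ) = ζ ^ l := by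
    intro l
    rw [show (⟨σ ^ l, Subgroup.pow_mem _ (Subgroup.mem_zpowers σ) l⟩ : K) = (⟨σ, Subgroup.mem_zpowers σ⟩ : K) ^ l from
      Subtype.ext (by simp), map_pow, monoidHomOfForallMemZpowers_apply_gen]
    simp
  have hR := Chars.isCharacter_restrict (Chars.irr_isCharacter χ) K
  obtain ⟨m₁, hm₁⟩ := Chars.exists_classInner_eq_nat (Chars2.linFun_isCharacter (1 : K →* ℂˣ)).1 hR
  obtain ⟨m₂, hm₂⟩ := Chars.exists_classInner_eq_nat (Chars2.linFun_isCharacter φ).1 hR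
  refine ⟨(m₁ : ℤ) - m₂, ?_⟩
  have hsum : ∀ F : K → ℂ, ∑ x, F x =
      ∑ l ∈ Finset.range (2 * 2 ^ e), F ⟨σ ^ l, Subgroup.pow_mem _ (Subgroup.mem_zpowers σ) l⟩ := by
    intro F
    rw [Finset.sum_range]
    refine (Fintype.sum_bijective (fun l : Fin (2 * 2 ^ e) =>
      (⟨σ ^ (l : ℕ), Subgroup.pow_mem _ (Subgroup.mem_zpowers σ) l⟩ : K)) ?_ _ _ fun l => rfl).symm
    rw [Fintype.bijective_iff_injective_and_card]
    refine ⟨fun a b hab => ?_, by rw [Fintype.card_fin, ← Nat.card_eq_fintype_card, Nat.card_zpowers, h.ord]⟩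
    refine Fin.ext (pow_injOn_Iio_orderOf (x := σ) ?_ ?_ (congrArg Subtype.val hab))
    · rw [Set.mem_Iio, h.ord]; exact a.2
    · rw [Set.mem_Iio, h.ord]; exact b.2
  have hKc : Nat.card K = 2 * 2 ^ e := by rw [Nat.card_zpowers, h.ord]
  rw [Chars.classInner_def, hsum, hKc] at hm₁ hm₂
  push_cast
  rw [← hm₁, ← hm₂, coef, ← mul_sub, ← Finset.sum_sub_distrib]
  congr 1
  refine Finset.sum_congr rfl fun l _ => ?_
  simp only [Chars2.linFun_apply, hφ, MonoidHom.one_apply, Units.val_one, h.char_real]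
  ring

theorem phiFun_odd {M : Ideal AlgInt} [M.IsMaximal] (h2M : ((2 : ℕ) : AlgInt) ∈ M) (ζ : ℂ) {g : G}
    (hg : ¬ 2 ∣ orderOf g) : h.phiFun M ζ g = 0 := by
  classical
  haveI : Fact (Nat.Prime 2) := ⟨Nat.prime_two⟩
  simp only [phiFun, coef, Finset.mul_sum, Finset.sum_mul]
  rw [Finset.sum_comm]
  refine Finset.sum_eq_zero fun l hl => ?_
  by_cases h1 : σ ^ l = 1
  · refine Finset.sum_eq_zero fun χ _ => ?_
    have : ζ ^ l = 1 ∨ True := Or.inr trivial
    have hl0 : l = 0 := by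
      by_contra hne
      have := Nat.le_of_dvd (Nat.pos_of_ne_zero hne) (orderOf_dvd_of_pow_eq_one h1)
      rw [h.ord] at this
      have := Finset.mem_range.1 hl
      omega
    rw [hl0]; simp
  · have hev : 2 ∣ orderOf (σ ^ l) := by
      obtain ⟨j, hj⟩ := h.two_part l
      rw [hj]
      refine dvd_pow_self 2 fun hj0 => h1 (orderOf_eq_one_iff.1 (by rw [hj, hj0, pow_zero]))
    have horth := Blocks.block_orth_weak (M := M) h2M Blocks.isPBlock_principal hg hev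
    simp only [h.char_real] at horth
    calc _ = ((2 * 2 ^ e : ℕ) : ℂ)⁻¹ * (1 - ζ ^ l) * ∑ χ ∈ Finset.univ.filter (· ∈ principalBlock M G),
          (χ : G → ℂ) g * (χ : G → ℂ) (σ ^ l) := by
          rw [Finset.mul_sum]; exact Finset.sum_congr rfl fun χ _ => by ring
      _ = 0 := by rw [horth, mul_zero]

theorem phiFun_rot {M : Ideal AlgInt} [M.IsMaximal] (h2M : ((2 : ℕ) : AlgInt) ∈ M) {ζ : ℂ}
    (hζ : IsPrimitiveRoot ζ (2 * 2 ^ e)) {m : ℕ} (hm0 : 0 < m) (hm : m < 2 * 2 ^ e) :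
    h.phiFun M ζ (σ ^ m) = 2 - ζ ^ (m : ℤ) - ζ ^ (-(m : ℤ)) := by
  classical
  simp only [phiFun, coef, Finset.mul_sum, Finset.sum_mul]
  rw [Finset.sum_comm, Finset.sum_congr rfl (g := fun l => (1 - ζ ^ l) * ((if l = m then 1 else 0) +
    (if l = 2 * 2 ^ e - m then 1 else 0))) (fun l hl => ?_)]
  · simp only [mul_add, mul_ite, mul_one, mul_zero, Finset.sum_add_distrib, Finset.sum_ite_eq',
      Finset.mem_range, hm, show 2 * 2 ^ e - m < 2 * 2 ^ e by omega, if_true]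
    rw [zpow_natCast, zpow_neg, zpow_natCast, pow_sub₀ ζ (hζ.ne_zero (by positivity)) hm.le, hζ.pow_eq_one, one_mul]
    ring
  · rcases Nat.eq_zero_or_pos l with rfl | hl0
    · simp
    · have hcol := h.column (M := M) h2M hm0 hm hl0 (Finset.mem_range.1 hl)
      calc _ = ((2 * 2 ^ e : ℕ) : ℂ)⁻¹ * (1 - ζ ^ l) * ∑ χ ∈ Finset.univ.filter (· ∈ principalBlock M G),
            (χ : G → ℂ) (σ ^ m) * (χ : G → ℂ) (σ ^ l) := by
            rw [Finset.mul_sum]; exact Finset.sum_congr rfl fun χ _ => by ring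
        _ = _ := by
            rw [hcol]
            calc ((2 * 2 ^ e : ℕ) : ℂ)⁻¹ * (1 - ζ ^ l) * (((2 * 2 ^ e : ℕ) : ℂ) *
                  ((if l = m then 1 else 0) + (if l = 2 * 2 ^ e - m then 1 else 0)))
                = (((2 * 2 ^ e : ℕ) : ℂ)⁻¹ * ((2 * 2 ^ e : ℕ) : ℂ)) * ((1 - ζ ^ l) *
                  ((if l = m then 1 else 0) + (if l = 2 * 2 ^ e - m then 1 else 0))) := by ring
              _ = _ := by rw [inv_mul_cancel₀ (Nat.cast_ne_zero.2 (by positivity)), one_mul]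

theorem phiFun_section {M : Ideal AlgInt} [M.IsMaximal] (h2M : ((2 : ℕ) : AlgInt) ∈ M) {ζ : ℂ}
    (hζ : IsPrimitiveRoot ζ (2 * 2 ^ e)) {R : G → G}
    (hRmul : ∀ a b, Commute a (σ ^ 2 ^ e) → Commute b (σ ^ 2 ^ e) → R (a * b) = R a * R b)
    (hRP : ∀ p ∈ (P : Subgroup G), R p = p) (hRmem : ∀ a, R a ∈ (P : Subgroup G))
    (hR1 : ∀ a, Commute a (σ ^ 2 ^ e) → (R a = 1 ↔ Odd (orderOf a)))
    (hcore : ∀ z : G, σ ^ 2 ^ e ∈ Subgroup.zpowers z → ∀ w, Commute w z → Odd (orderOf w) →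
      w ∈ centralizerPPrimeCore 2 z)
    {g : G} (hg : Commute g (σ ^ 2 ^ e)) {i : ℤ} (hi : R g = σ ^ i) :
    h.phiFun M ζ g = 2 - ζ ^ i - ζ ^ (-i) := by
  classical
  haveI : Fact (Nat.Prime 2) := ⟨Nat.prime_two⟩
  by_cases hi1 : σ ^ i = 1
  · rw [hi1, hR1 g hg] at hi
    rw [h.phiFun_odd h2M ζ (fun h2 => Nat.not_even_iff_odd.2 hi (even_iff_two_dvd.2 h2))]
    have : ζ ^ i = 1 := by
      rw [hζ.zpow_eq_one_iff_dvd]
      rw [← zpow_zero σ, h.zpow_eq, Int.modEq_zero_iff_dvd] at hi1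
      exact hi1
    rw [zpow_neg, this, inv_one]; ring
  set z := Blocks.ppart 2 g with hzdef
  have hzJ : Commute z (σ ^ 2 ^ e) := hg.pow_left _
  obtain ⟨w, hgw, hzw, hzo, hwo⟩ := Blocks.isPPart_ppart (p := 2) g
  have hwodd : Odd (orderOf w) := Nat.odd_iff.2 (by omega)
  have hwJ : Commute w (σ ^ 2 ^ e) := by
    have hw : w = z⁻¹ * g := by rw [← hgw, inv_mul_cancel_left]
    rw [hw]; exact hzJ.inv_left.mul_left hg
  have hRz : R z = σ ^ i := by
    rw [← hgw, hRmul _ _ hzJ hwJ, (hR1 w hwJ).2 hwodd, mul_one] at hi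
    exact hi
  obtain ⟨d, p, hd, hp, hdp⟩ := h.exists_conj hzJ hzo
  have hinv : R d⁻¹ = (R d)⁻¹ := by
    refine eq_inv_of_mul_eq_one_right ?_
    rw [← hRmul _ _ hd hd.inv_left, mul_inv_cancel, hRP 1 (one_mem _)]
  have hRdp : R d * p * (R d)⁻¹ = σ ^ i := by
    rw [hdp, hRmul _ _ (hd.mul_left (h.J_comm hp)) hd.inv_left, hRmul _ _ hd (h.J_comm hp), hRP p hp, hinv] at hRz
    exact hRz
  obtain ⟨j, hpj, hφ⟩ : ∃ j : ℤ, p = σ ^ j ∧ 2 - ζ ^ i - ζ ^ (-i) = 2 - ζ ^ j - ζ ^ (-j) := by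
    have hp' : p = (R d)⁻¹ * σ ^ i * R d := by rw [← hRdp]; group
    obtain ⟨l, hl | hl⟩ := h.mem_eq (hRmem d)
    · exact ⟨i, by rw [hp', hl]; group, rfl⟩
    · refine ⟨-i, ?_, by rw [neg_neg]; ring⟩
      rw [hp', hl, ← h.conj_rot l i, inv_eq_of_mul_eq_one_right (h.refl_sq l)]
  set m := (j % ((2 * 2 ^ e : ℕ) : ℤ)).toNat with hm
  have hq : (0 : ℤ) < ((2 * 2 ^ e : ℕ) : ℤ) := by positivity
  have hm0 := Int.emod_nonneg j hq.ne'
  have hmlt := Int.emod_lt_of_pos j hq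
  have hmj : (m : ℤ) ≡ j [ZMOD ((2 * 2 ^ e : ℕ) : ℤ)] := by
    rw [hm, Int.toNat_of_nonneg hm0]; exact Int.mod_modEq _ _
  have hσm : σ ^ m = p := by rw [hpj, ← zpow_natCast, h.zpow_eq]; exact hmj
  have hmpos : 0 < m := by
    by_contra h0
    rw [show m = 0 by omega, pow_zero] at hσm
    exact hi1 (by rw [← hRdp, ← hσm, mul_one, mul_inv_cancel])
  have hζ0 : ζ ≠ 0 := hζ.ne_zero (by positivity)
  have hζm : ζ ^ (m : ℤ) = ζ ^ j := by
    rw [← mul_inv_eq_one₀ (zpow_ne_zero j hζ0), ← zpow_neg, ← zpow_add₀ hζ0, hζ.zpow_eq_one_iff_dvd]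
    have := hmj.symm.dvd
    rwa [← sub_eq_add_neg]
  rw [hφ, zpow_neg, ← hζm, ← zpow_neg, ← h.phiFun_rot h2M hζ hmpos (by omega), ← hgw, ← hzdef, hdp,
    show d * p * d⁻¹ * w = d * (p * (d⁻¹ * w * d)) * d⁻¹ by group, h.phiFun_conj, ← hσm]
  have hσm1 : σ ^ m ≠ 1 := fun h1 => by
    have := Nat.le_of_dvd hmpos (orderOf_dvd_of_pow_eq_one h1)
    rw [h.ord] at this
    omega
  obtain ⟨a, ha, -⟩ := h.exists_pow_J hσm1
  have hw' : d⁻¹ * w * d ∈ centralizerPPrimeCore 2 (σ ^ m) := by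
    refine hcore _ (ha ▸ Subgroup.pow_mem _ (Subgroup.mem_zpowers _) a) _ ?_ ?_
    · show d⁻¹ * w * d * σ ^ m = σ ^ m * (d⁻¹ * w * d)
      rw [hσm]
      calc d⁻¹ * w * d * p = d⁻¹ * (w * (d * p * d⁻¹)) * d := by group
        _ = d⁻¹ * (d * p * d⁻¹ * w) * d := by rw [← hdp, hzw.eq]
        _ = p * (d⁻¹ * w * d) := by group
    · rw [show orderOf (d⁻¹ * w * d) = orderOf w by
        simpa using orderOf_injective (MulAut.conj d⁻¹).toMonoidHom (MulAut.conj d⁻¹).injective w]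
      exact hwodd
  refine Finset.sum_congr rfl fun χ hχ => ?_
  rw [Blocks.apply_mul_centralizerPPrimeCore h2M (h.two_part m) hw' (Finset.mem_filter.1 hχ).2]

theorem formula {M : Ideal AlgInt} [M.IsMaximal] (h2M : ((2 : ℕ) : AlgInt) ∈ M)
    (hone : ∀ u : G, orderOf u = 2 → IsConj (σ ^ 2 ^ e) u) {χ₁ : IrrCharacter G}
    (hχ₁ : χ₁ ∈ principalBlock M G) (h1 : (χ₁ : G → ℂ) ≠ fun _ => 1) {δ : ℤ} (hδ : δ = 1 ∨ δ = -1)
    (hval : ∀ l : ℕ, 0 < l → l < 2 * 2 ^ e → (χ₁ : G → ℂ) (σ ^ l) = δ) :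
    (charDegree (χ₁ : G → ℂ) : ℤ) ≠ δ ∧
      (Nat.card G : ℚ) * ((charDegree (χ₁ : G → ℂ) : ℚ) - δ) ^ 2 =
        2 * (charDegree (χ₁ : G → ℂ) : ℚ) * ((charDegree (χ₁ : G → ℂ) : ℚ) + δ) *
          (Nat.card (Subgroup.centralizer ({σ ^ 2 ^ e} : Set G)) : ℚ) ^ 3 *
          (1 / (Nat.card (Subgroup.centralizer ({σ ^ 2 ^ e, τ} : Set G)) : ℚ) +
            1 / (Nat.card (Subgroup.centralizer ({σ ^ 2 ^ e, σ * τ} : Set G)) : ℚ)) ^ 2 := by
  classical
  haveI : Fact (Nat.Prime 2) := ⟨Nat.prime_two⟩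
  obtain ⟨R, hRmul, hRP, hRmem, hR1, hcore⟩ := h.exists_retraction
  obtain ⟨ζ, hζ⟩ : ∃ ζ : ℂ, IsPrimitiveRoot ζ (2 * 2 ^ e) :=
    ⟨_, Complex.isPrimitiveRoot_exp _ (by positivity)⟩
  have hζ0 : ζ ≠ 0 := hζ.ne_zero (by positivity)
  set q := 2 * 2 ^ e with hq
  have hk2 := h.k_two
  set J := σ ^ 2 ^ e with hJ
  set S := Finset.univ.filter (· ∈ principalBlock M G) with hS
  choose A hA using h.coef_int hζ
  set Φ := h.phiFun M ζ with hΦ
  have hζpow : ∀ a : ℕ, 0 < a → a < q → ζ ^ a ≠ 1 := fun a h0 ha h1 => by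
    have := Nat.le_of_dvd h0 ((hζ.pow_eq_one_iff_dvd a).1 h1)
    omega
  have hgeom : ∀ x : ℂ, x ^ q = 1 → x ≠ 1 → ∑ l ∈ Finset.range q, x ^ l = 0 := fun x hx hx1 => by
    rw [geom_sum_eq hx1, hx, sub_self, zero_div]
  have g1 : ∑ l ∈ Finset.range q, ζ ^ l = 0 :=
    hgeom ζ hζ.pow_eq_one (by simpa using hζpow 1 one_pos (by omega))
  have gm : ∑ l ∈ Finset.range q, (ζ⁻¹) ^ l = 0 :=
    hgeom _ (by rw [inv_pow, hζ.pow_eq_one, inv_one]) (fun h' => hζpow 1 one_pos (by omega) (by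
      rw [pow_one]; simpa using congrArg (fun x : ℂ => x⁻¹) h'))
  have g2 : ∑ l ∈ Finset.range q, (ζ ^ 2) ^ l = 0 :=
    hgeom _ (by rw [← pow_mul, mul_comm, pow_mul, hζ.pow_eq_one, one_pow]) (hζpow 2 two_pos (by omega))
  have hq0 : (q : ℂ) ≠ 0 := Nat.cast_ne_zero.2 (by omega)
  -- coefficients
  have hA1 : A (Blocks.oneChar G) = 1 := by
    have e1 := hA (Blocks.oneChar G)
    simp only [coef, Blocks.coe_oneChar, mul_one, Finset.sum_sub_distrib, Finset.sum_const, Finset.card_range,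
      nsmul_eq_mul, ← hq, g1, sub_zero, inv_mul_cancel₀ hq0] at e1
    exact_mod_cast e1.symm
  have hAχ : A χ₁ = δ := by
    have e1 := hA χ₁
    rw [coef, Finset.sum_congr rfl (g := fun l => (1 - ζ ^ l) * (δ : ℂ)) (fun l hl => ?_), ← Finset.sum_mul,
      Finset.sum_sub_distrib, Finset.sum_const, Finset.card_range, nsmul_eq_mul, mul_one, ← hq, g1, sub_zero,
      inv_mul_cancel_left₀ hq0] at e1
    · exact_mod_cast e1.symm
    · rcases Nat.eq_zero_or_pos l with rfl | hl0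
      · simp
      · rw [hval l hl0 (Finset.mem_range.1 hl)]
  have hone1 : Blocks.oneChar G ∈ S := Finset.mem_filter.2 ⟨Finset.mem_univ _, Blocks.one_mem_principal⟩
  have hne : χ₁ ≠ Blocks.oneChar G := fun he => h1 (by rw [he]; rfl)
  have h1S : χ₁ ∈ S.erase (Blocks.oneChar G) :=
    Finset.mem_erase.2 ⟨hne, Finset.mem_filter.2 ⟨Finset.mem_univ _, hχ₁⟩⟩
  -- the norm
  have hnorm : ∑ χ ∈ S, ((A χ : ℂ)) * (A χ : ℂ) = 3 := by
    have e1 : ∀ χ : IrrCharacter G, (A χ : ℂ) * (A χ : ℂ) = (A χ : ℂ) * h.coef ζ χ := fun χ => by rw [hA]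
    rw [Finset.sum_congr rfl fun χ _ => e1 χ]
    simp only [coef, Finset.mul_sum, ← hq]
    rw [Finset.sum_comm, Finset.sum_congr rfl (g := fun l => (q : ℂ)⁻¹ * (3 - 3 * ζ ^ l - (ζ⁻¹) ^ l + (ζ ^ 2) ^ l))
      (fun l hl => ?_)]
    · simp only [← Finset.mul_sum, Finset.sum_add_distrib, Finset.sum_sub_distrib, Finset.sum_const,
        Finset.card_range, nsmul_eq_mul, g1, gm, g2, mul_zero, sub_zero, add_zero]
      rw [← mul_assoc, inv_mul_cancel₀ hq0, one_mul]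
    · rcases Nat.eq_zero_or_pos l with rfl | hl0
      · simp
      · have e2 : ∑ χ ∈ S, (A χ : ℂ) * (χ : G → ℂ) (σ ^ l) = 2 - ζ ^ (l : ℤ) - ζ ^ (-(l : ℤ)) := by
          rw [← h.phiFun_rot h2M hζ hl0 (Finset.mem_range.1 hl)]
          exact Finset.sum_congr rfl fun χ _ => by rw [hA]
        have hl1 : ζ ^ l * ζ⁻¹ ^ l = 1 := by rw [← mul_pow, mul_inv_cancel₀ hζ0, one_pow]
        calc _ = (q : ℂ)⁻¹ * (1 - ζ ^ l) * ∑ χ ∈ S, (A χ : ℂ) * (χ : G → ℂ) (σ ^ l) := by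
              rw [Finset.mul_sum]; exact Finset.sum_congr rfl fun χ _ => by ring
          _ = _ := by
              rw [e2, zpow_natCast, zpow_neg, zpow_natCast, ← inv_pow, ← pow_mul, mul_comm 2 l, pow_mul]
              linear_combination (q : ℂ)⁻¹ * hl1
  have hnormZ : ∑ χ ∈ S, A χ * A χ = 3 := by exact_mod_cast hnorm
  set T := (S.erase (Blocks.oneChar G)).erase χ₁ with hT
  have hT1 : ∑ χ ∈ T, A χ * A χ = 1 := by
    rw [← Finset.add_sum_erase S _ hone1, ← Finset.add_sum_erase _ _ h1S, hA1, hAχ] at hnormZ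
    rcases hδ with hd | hd <;> rw [hd] at hnormZ <;> linarith
  obtain ⟨χ', hχ'T, hχ'0⟩ : ∃ χ ∈ T, A χ ≠ 0 := by
    by_contra hc
    push Not at hc
    rw [Finset.sum_eq_zero fun χ hχ => by rw [hc χ hχ, mul_zero]] at hT1
    norm_num at hT1
  rw [← Finset.add_sum_erase T _ hχ'T] at hT1
  have hrest0 : 0 ≤ ∑ χ ∈ T.erase χ', A χ * A χ := Finset.sum_nonneg fun χ _ => mul_self_nonneg _
  have hsq : A χ' * A χ' = 1 := by
    have : 1 ≤ A χ' * A χ' := by
      have := mul_self_pos.2 hχ'0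
      omega
    omega
  have hz : ∀ χ ∈ T.erase χ', A χ = 0 := fun χ hχ => mul_self_eq_zero.1
    ((Finset.sum_eq_zero_iff_of_nonneg fun χ _ => mul_self_nonneg (A χ)).1 (by omega) χ hχ)
  have hsplit : ∀ F : IrrCharacter G → ℂ, ∑ χ ∈ S, (A χ : ℂ) * F χ =
      F (Blocks.oneChar G) + (δ : ℂ) * F χ₁ + (A χ' : ℂ) * F χ' := by
    intro F
    rw [← Finset.add_sum_erase S _ hone1, ← Finset.add_sum_erase _ _ h1S, ← Finset.add_sum_erase T _ hχ'T,
      Finset.sum_eq_zero (s := T.erase χ') (fun χ hχ => by rw [hz χ hχ]; simp), hA1, hAχ]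
    push_cast; ring
  have hΦeq : ∀ g, Φ g = ∑ χ ∈ S, (A χ : ℂ) * (χ : G → ℂ) g := fun g =>
    Finset.sum_congr rfl fun χ _ => by rw [hA]
  obtain ⟨hx, hxpos⟩ := Blocks.charDegree_eq χ₁.2
  obtain ⟨hy, hypos⟩ := Blocks.charDegree_eq χ'.2
  set x := charDegree (χ₁ : G → ℂ)
  set y := charDegree (χ' : G → ℂ)
  have hdeg : 1 + (δ : ℂ) * x + (A χ' : ℂ) * y = 0 := by
    have e1 := h.phiFun_odd (M := M) h2M ζ (g := 1) (by rw [orderOf_one]; norm_num)
    rw [← hΦ, hΦeq, hsplit, Blocks.coe_oneChar, hx, hy] at e1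
    exact e1
  have hδJ : (χ₁ : G → ℂ) J = δ := hval _ (by positivity) (by omega)
  have hδ2 : (δ : ℂ) * δ = 1 := by rcases hδ with hd | hd <;> simp [hd]
  have hJval : (A χ' : ℂ) * (χ' : G → ℂ) J = 2 := by
    have e1 := h.phiFun_rot (M := M) h2M hζ (m := 2 ^ e) (by positivity) (by omega)
    have e2 : ζ ^ (2 ^ e : ℕ) = -1 := by
      have : ζ ^ (2 ^ e : ℕ) * ζ ^ (2 ^ e : ℕ) = 1 := by rw [← pow_add, ← two_mul, hζ.pow_eq_one]
      exact (mul_self_eq_one_iff.1 this).resolve_left (hζpow _ (by positivity) (by omega))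
    rw [← hΦ, ← hJ, hΦeq, hsplit, Blocks.coe_oneChar, hδJ, zpow_neg, zpow_natCast, e2, hδ2] at e1
    norm_num at e1
    linear_combination e1
  -- involutions
  set I := Finset.univ.filter fun u : G => orderOf u = 2 with hI
  have hinvo : ∀ u : G, orderOf u = 2 → u * u = 1 := fun u hu => by rw [← pow_two, ← hu, pow_orderOf_eq_one]
  have hJ2 : orderOf J = 2 := h.J_ord
  let W : G → Finset (G × G) := fun z => Finset.univ.filter fun p : G × G =>
    orderOf p.1 = 2 ∧ orderOf p.2 = 2 ∧ 2 ∣ orderOf (p.1 * p.2) ∧ (p.1 * p.2) ^ (orderOf (p.1 * p.2) / 2) = z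
  let ev : G → ℂ := fun u => if hu : ∃ i : ℤ, R u = σ ^ i * τ then ζ ^ hu.choose else 0
  have hev : ∀ (u : G) (i : ℤ), R u = σ ^ i * τ → ev u = ζ ^ i := by
    intro u i hu
    have hex : ∃ i : ℤ, R u = σ ^ i * τ := ⟨i, hu⟩
    simp only [ev, dif_pos hex]
    have e1 := hex.choose_spec.symm.trans hu
    rw [mul_left_inj, h.zpow_eq] at e1
    rw [← mul_inv_eq_one₀ (zpow_ne_zero i hζ0), ← zpow_neg, ← zpow_add₀ hζ0, hζ.zpow_eq_one_iff_dvd, ← sub_eq_add_neg]
    exact e1.symm.dvd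
  have hrefl : ∀ u ∈ h.refl, ∃ i : ℤ, R u = σ ^ i * τ := by
    intro u hu
    obtain ⟨d, hd, hu' | hu'⟩ := h.refl_conj hu
    · obtain ⟨i, hi, -⟩ := h.R_refl hRmul hRP hRmem hd 0
      rw [zpow_zero, one_mul, ← hu'] at hi
      exact ⟨i, hi⟩
    · obtain ⟨i, hi, -⟩ := h.R_refl hRmul hRP hRmem hd 1
      rw [zpow_one, ← hu'] at hi
      exact ⟨i, hi⟩
  have hev0 : ∑ u ∈ h.refl, ev u = 0 := by
    have hσJ : Commute σ J := h.J_comm h.sP
    have hinv : ∀ u ∈ h.refl, ev (σ * u * σ⁻¹) = ζ ^ 2 * ev u := by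
      intro u hu
      obtain ⟨i, hi⟩ := hrefl u hu
      have huJ := (h.mem_refl.1 hu).2.1
      have hRs : R (σ * u * σ⁻¹) = σ ^ (i + 2 * 1) * τ := by
        rw [hRmul _ _ (hσJ.mul_left huJ) hσJ.inv_left, hRmul _ _ hσJ huJ, hRP σ h.sP,
          hRP σ⁻¹ (Subgroup.inv_mem _ h.sP), hi, ← h.conj_refl, zpow_one]
      rw [hev u i hi, hev _ _ hRs, mul_one, zpow_add₀ hζ0, mul_comm]
      rfl
    have hshift : ∑ u ∈ h.refl, ev (σ * u * σ⁻¹) = ∑ u ∈ h.refl, ev u := by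
      refine Finset.sum_equiv (MulAut.conj σ).toEquiv (fun u => ?_) (fun u _ => rfl)
      simp only [h.mem_refl, MulEquiv.toEquiv_eq_coe, MulEquiv.coe_toEquiv, MulEquiv.orderOf_eq]
      have hJc : J = MulAut.conj σ J := by rw [MulAut.conj_apply, hσJ.eq, mul_inv_cancel_right]
      conv_rhs => rw [← hJ, hJc]
      simp only [Commute, SemiconjBy, ← map_mul, (MulAut.conj σ).injective.eq_iff, ne_eq, hJ]
    rw [Finset.sum_congr rfl hinv, ← Finset.mul_sum] at hshift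
    have : (ζ ^ 2 - 1) * ∑ u ∈ h.refl, ev u = 0 := by rw [sub_mul, hshift, one_mul, sub_self]
    exact (mul_eq_zero.1 this).resolve_left (sub_ne_zero.2 (hζpow 2 two_pos (by omega)))
  have hpair : ∀ p ∈ h.refl ×ˢ h.refl, ∃ i : ℤ, R (p.1 * p.2) = σ ^ i ∧
      Φ (p.1 * p.2) = 2 - ev p.1 * (ev p.2)⁻¹ - ev p.2 * (ev p.1)⁻¹ := by
    intro p hp
    obtain ⟨hu, hv⟩ := Finset.mem_product.1 hp
    obtain ⟨i, hi⟩ := hrefl _ hu
    obtain ⟨j, hj⟩ := hrefl _ hv
    have huJ := (h.mem_refl.1 hu).2.1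
    have hvJ := (h.mem_refl.1 hv).2.1
    have hR : R (p.1 * p.2) = σ ^ (i - j) := by rw [hRmul _ _ huJ hvJ, hi, hj, h.refl_mul]
    refine ⟨_, hR, ?_⟩
    rw [hΦ, h.phiFun_section h2M hζ hRmul hRP hRmem hR1 hcore (huJ.mul_left hvJ) hR, hev _ i hi, hev _ j hj,
      neg_sub, zpow_sub₀ hζ0, zpow_sub₀ hζ0]
    rfl
  have hWJ : ∑ p ∈ W J, Φ (p.1 * p.2) = 2 * (h.refl.card : ℂ) ^ 2 := by
    have hsub : W J ⊆ h.refl ×ˢ h.refl := by
      intro p hp
      obtain ⟨hu, hv, hev2, hpw⟩ := (Finset.mem_filter.1 hp).2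
      set k := orderOf (p.1 * p.2) / 2
      have hgJ : Commute (p.1 * p.2) J := hpw ▸ Commute.self_pow _ k
      have hconj : p.1 * (p.1 * p.2) * p.1⁻¹ = (p.1 * p.2)⁻¹ := by
        rw [mul_inv_rev, inv_eq_of_mul_eq_one_right (hinvo _ hu), inv_eq_of_mul_eq_one_right (hinvo _ hv),
          ← mul_assoc, hinvo _ hu, one_mul]
      have huJ : Commute p.1 J := by
        have : p.1 * J * p.1⁻¹ = J := by
          rw [← hpw, ← conj_pow, hconj, inv_pow, hpw, inv_eq_of_mul_eq_one_right (hinvo J hJ2)]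
        exact mul_inv_eq_iff_eq_mul.1 this
      have hvJ : Commute p.2 J := by
        have := huJ.inv_left.mul_left hgJ
        rwa [inv_mul_cancel_left] at this
      have hbad : ∀ v : G, orderOf v = 2 → Commute v J → orderOf (J * v) ∣ 2 := fun v hv' hc => by
        refine orderOf_dvd_of_pow_eq_one ?_
        rw [hc.symm.mul_pow, pow_two, pow_two, hinvo J hJ2, hinvo v hv', one_mul]
      refine Finset.mem_product.2 ⟨h.mem_refl.2 ⟨hu, huJ, fun he => ?_⟩, h.mem_refl.2 ⟨hv, hvJ, fun he => ?_⟩⟩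
      · have hd := hbad _ hv hvJ
        rw [hJ, ← he] at hd
        have hk : k = 1 := by
          have := Nat.le_of_dvd (by norm_num) hd
          have := orderOf_pos (p.1 * p.2)
          have : 2 ≤ orderOf (p.1 * p.2) := Nat.le_of_dvd this hev2
          omega
        rw [hk, pow_one, he, hJ, mul_eq_left] at hpw
        rw [hpw, orderOf_one] at hv
        omega
      · have hd := hbad _ hu huJ
        rw [← huJ.eq, hJ, ← he] at hd
        have hk : k = 1 := by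
          have := Nat.le_of_dvd (by norm_num) hd
          have := orderOf_pos (p.1 * p.2)
          have : 2 ≤ orderOf (p.1 * p.2) := Nat.le_of_dvd this hev2
          omega
        rw [hk, pow_one, he, hJ, mul_eq_right] at hpw
        rw [hpw, orderOf_one] at hu
        omega
    have hzero : ∀ p ∈ h.refl ×ˢ h.refl, p ∉ W J → Φ (p.1 * p.2) = 0 := by
      intro p hp hnp
      obtain ⟨i, hi, -⟩ := hpair p hp
      obtain ⟨hu, hv⟩ := Finset.mem_product.1 hp
      by_cases heven : 2 ∣ orderOf (p.1 * p.2)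
      swap
      · exact h.phiFun_odd h2M ζ heven
      exfalso
      refine hnp (Finset.mem_filter.2 ⟨Finset.mem_univ _, (h.mem_refl.1 hu).1, (h.mem_refl.1 hv).1, heven, ?_⟩)
      set k := orderOf (p.1 * p.2) / 2
      have hgc : Commute (p.1 * p.2) J := ((h.mem_refl.1 hu).2.1).mul_left ((h.mem_refl.1 hv).2.1)
      have hx2 : orderOf ((p.1 * p.2) ^ k) = 2 := by
        rw [orderOf_pow_of_dvd (by have := orderOf_pos (p.1 * p.2); omega) (Nat.div_dvd_of_dvd heven),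
          Nat.div_div_self heven (orderOf_pos _).ne']
      by_contra hne'
      obtain ⟨j, hj⟩ := hrefl _ (h.mem_refl.2 ⟨hx2, hgc.pow_left k, hne'⟩)
      have hRpow : ∀ l : ℕ, R ((p.1 * p.2) ^ l) = σ ^ (i * l) := by
        intro l
        induction l with
        | zero => rw [pow_zero, hRP 1 (one_mem _)]; simp
        | succ l ih =>
          rw [pow_succ, hRmul _ _ (hgc.pow_left l) hgc, ih, hi, ← zpow_add]
          push_cast; ring_nf
      exact h.refl_ne j _ (hj.symm.trans (hRpow k))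
    rw [Finset.sum_subset hsub hzero, Finset.sum_congr rfl (fun p hp => (hpair p hp).choose_spec.2)]
    simp only [Finset.sum_sub_distrib, Finset.sum_const, Finset.card_product, nsmul_eq_mul]
    rw [Finset.sum_product, Finset.sum_product]
    simp only [← Finset.mul_sum, ← Finset.sum_mul, hev0, zero_mul, mul_zero, sub_zero, Finset.sum_const_zero]
    push_cast
    ring
  have hWz : ∀ z ∈ I, ∑ p ∈ W z, Φ (p.1 * p.2) = ∑ p ∈ W J, Φ (p.1 * p.2) := by
    intro z hz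
    obtain ⟨k, hk⟩ := isConj_iff.1 (hone z (Finset.mem_filter.1 hz).2)
    have hzc : z = MulAut.conj k J := by rw [MulAut.conj_apply, ← hJ] at *; exact hk.symm
    refine (Finset.sum_equiv ((MulAut.conj k).toEquiv.prodCongr (MulAut.conj k).toEquiv) (fun p => ?_) fun p _ => ?_).symm
    · simp only [W]
      rw [Finset.mem_filter, Finset.mem_filter, hzc]
      simp only [Finset.mem_univ, true_and, Equiv.prodCongr_apply, Prod.map_fst, Prod.map_snd,
        MulEquiv.toEquiv_eq_coe, MulEquiv.coe_toEquiv, MulEquiv.orderOf_eq, ← map_mul, ← map_pow,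
        (MulAut.conj k).injective.eq_iff]
    · simp only [Equiv.prodCongr_apply, Prod.map_fst, Prod.map_snd, MulEquiv.toEquiv_eq_coe, MulEquiv.coe_toEquiv,
        ← map_mul, MulAut.conj_apply]
      rw [show k * p.1 * k⁻¹ * (k * p.2 * k⁻¹) = k * (p.1 * p.2) * k⁻¹ by group]
      exact (h.phiFun_conj M ζ k _).symm
  have htotal : ∑ p ∈ I ×ˢ I, Φ (p.1 * p.2) = (I.card : ℂ) * (2 * (h.refl.card : ℂ) ^ 2) := by
    rw [← Finset.sum_filter_add_sum_filter_not (I ×ˢ I) (fun p : G × G => 2 ∣ orderOf (p.1 * p.2)),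
      Finset.sum_eq_zero (s := (I ×ˢ I).filter fun p : G × G => ¬ 2 ∣ orderOf (p.1 * p.2))
        (fun p hp => h.phiFun_odd h2M ζ (Finset.mem_filter.1 hp).2), add_zero,
      show ((I ×ˢ I).filter fun p : G × G => 2 ∣ orderOf (p.1 * p.2)) = I.biUnion W from ?_, Finset.sum_biUnion,
      Finset.sum_congr rfl hWz, Finset.sum_const, hWJ, nsmul_eq_mul]
    · intro z _ z' _ hne'
      rw [Function.onFun, Finset.disjoint_left]
      intro p hp hp'
      exact hne' ((Finset.mem_filter.1 hp).2.2.2.2.symm.trans (Finset.mem_filter.1 hp').2.2.2.2)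
    · ext p
      simp only [W, hI, Finset.mem_filter, Finset.mem_product, Finset.mem_univ, true_and, Finset.mem_biUnion]
      constructor
      · rintro ⟨⟨hu, hv⟩, he⟩
        refine ⟨_, ?_, hu, hv, he, rfl⟩
        rw [orderOf_pow_of_dvd (by have := orderOf_pos (p.1 * p.2); have := Nat.le_of_dvd this he; omega)
          (Nat.div_dvd_of_dvd he), Nat.div_div_self he (orderOf_pos _).ne']
      · rintro ⟨z, -, hu, hv, he, -⟩
        exact ⟨⟨hu, hv⟩, he⟩
  set f : G → ℂ := fun g => if g ∈ I then 1 else 0 with hf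
  have hfc : IsClassFunction G f := by
    intro g c
    have : orderOf (c * g * c⁻¹) = orderOf g :=
      orderOf_injective (MulAut.conj c).toMonoidHom (MulAut.conj c).injective g
    simp [hf, hI, this]
  have hsum : ∀ χ : IrrCharacter G, ∑ p ∈ I ×ˢ I, (χ : G → ℂ) (p.1 * p.2) =
      ((I.card : ℂ) * (χ : G → ℂ) J) ^ 2 / (χ : G → ℂ) 1 := by
    intro χ
    have h0 : (χ : G → ℂ) 1 ≠ 0 := Chars.irr_apply_one_ne_zero χ.2
    have h1 := Blocks.omega_conv χ.2 hfc hfc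
    have h2 : Blocks.omega (χ : G → ℂ) f = (I.card : ℂ) * (χ : G → ℂ) J / (χ : G → ℂ) 1 := by
      unfold Blocks.omega
      congr 1
      simp only [hf, ite_mul, one_mul, zero_mul]
      rw [← Finset.sum_filter, Finset.filter_univ_mem,
        Finset.sum_congr rfl (g := fun _ => (χ : G → ℂ) J) (fun g hg => ?_), Finset.sum_const, nsmul_eq_mul]
      exact Blocks.isClassFunction_eq (Chars.isClassFunction_irr χ) (hone g (Finset.mem_filter.1 hg).2)
    have h3 : ∑ g, Blocks.conv f f g * (χ : G → ℂ) g = ∑ p ∈ I ×ˢ I, (χ : G → ℂ) (p.1 * p.2) := by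
      simp only [Blocks.conv, Finset.sum_mul]
      rw [Finset.sum_comm, Finset.sum_product, ← Finset.sum_subset (Finset.subset_univ I)
        (fun x _ hx => Finset.sum_eq_zero fun y _ => by simp [hf, hx])]
      refine Finset.sum_congr rfl fun x hx => ?_
      rw [← Fintype.sum_equiv (Equiv.mulLeft x) (fun y => f y * (χ : G → ℂ) (x * y))
        (fun g => f x * f (x⁻¹ * g) * (χ : G → ℂ) g) (fun y => by simp [hf, hx])]
      simp only [hf, ite_mul, one_mul, zero_mul]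
      rw [← Finset.sum_filter, Finset.filter_univ_mem]
    rw [h2] at h1
    unfold Blocks.omega at h1
    rw [div_eq_iff h0, h3] at h1
    rw [h1]
    field_simp
  simp only [hΦeq] at htotal
  rw [Finset.sum_comm] at htotal
  simp only [← Finset.mul_sum, hsum] at htotal
  rw [hsplit, Blocks.coe_oneChar, hx, hy, hδJ] at htotal
  have hIC : I.card * Nat.card (Subgroup.centralizer ({J} : Set G)) = Nat.card G := by
    have e1 := Blocks.omega_clsFun (Chars.isClassFunction_irr (Blocks.oneChar G)) J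
    simp only [Blocks.omega, centralChar, Blocks.coe_oneChar, mul_one, div_one] at e1
    have e2 : (I.card : ℂ) = ((Subgroup.centralizer ({J} : Set G)).index : ℂ) := by
      rw [← e1, hI, Finset.card_filter, Nat.cast_sum]
      refine Finset.sum_congr rfl fun y _ => ?_
      by_cases hy' : IsConj J y
      · rw [Blocks.clsFun_of_conj hy', if_pos, Nat.cast_one]
        obtain ⟨k, rfl⟩ := isConj_iff.1 hy'
        exact (orderOf_injective (MulAut.conj k).toMonoidHom (MulAut.conj k).injective J).trans hJ2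
      · rw [Blocks.clsFun_of_not hy', if_neg (fun h2 => hy' (hone y h2)), Nat.cast_zero]
    rw [Nat.cast_injective e2, mul_comm]
    exact Subgroup.card_mul_index _
  have hI0 : (I.card : ℂ) ≠ 0 := Nat.cast_ne_zero.2 (fun h0 => by
    rw [h0, zero_mul] at hIC; exact Nat.card_pos.ne hIC)
  have hx0 : (x : ℂ) ≠ 0 := Nat.cast_ne_zero.2 hxpos.ne'
  have hy0 : (y : ℂ) ≠ 0 := Nat.cast_ne_zero.2 hypos.ne'
  have hAsq : (A χ' : ℂ) * A χ' = 1 := by exact_mod_cast hsq
  field_simp at htotal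
  -- the identity
  have key : (I.card : ℂ) * ((x : ℂ) - δ) ^ 2 = 2 * (h.refl.card : ℂ) ^ 2 * ((x : ℂ) * (x + δ)) := by
    have hy' : (y : ℂ) = -((A χ' : ℂ) * (1 + (δ : ℂ) * x)) := by
      linear_combination (A χ' : ℂ) * hdeg - (y : ℂ) * hAsq
    have hv : (χ' : G → ℂ) J = 2 * (A χ' : ℂ) := by
      linear_combination (A χ' : ℂ) * hJval - (χ' : G → ℂ) J * hAsq
    rw [hy', hv] at htotal
    rcases hδ with hd | hd <;> rcases mul_self_eq_one_iff.1 hsq with ha | ha <;>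
      rw [hd, ha] at htotal <;> rw [hd] <;> push_cast at htotal ⊢ <;>
      first
        | linear_combination htotal
        | linear_combination -htotal
  have keyQ : (I.card : ℚ) * ((x : ℚ) - δ) ^ 2 = 2 * (h.refl.card : ℚ) ^ 2 * ((x : ℚ) * (x + δ)) := by
    refine Rat.cast_injective (α := ℂ) ?_
    push_cast
    exact key
  refine ⟨fun hxe => ?_, ?_⟩
  · have hxq : (x : ℚ) = δ := by exact_mod_cast hxe
    rw [hxq, sub_self, zero_pow two_ne_zero, mul_zero] at keyQ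
    have hδ1 : δ = 1 := by rcases hδ with hd | hd <;> omega
    rw [hδ1] at keyQ
    push_cast at keyQ
    have : (h.refl.card : ℚ) ^ 2 = 0 := by linarith
    rw [pow_eq_zero_iff two_ne_zero, Nat.cast_eq_zero, Finset.card_eq_zero] at this
    have hmem : τ ∈ h.refl := by
      have := h.conj_refl_mem h.tP (Commute.one_left (σ ^ 2 ^ e)) (i := 0) (by rw [zpow_zero, one_mul])
      simpa using this
    rw [this] at hmem
    exact absurd hmem (Finset.notMem_empty τ)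
  · rw [← hIC, Nat.cast_mul]
    have := h.card_refl
    rw [← hJ] at this
    rw [this] at keyQ
    linear_combination (Nat.card (Subgroup.centralizer ({J} : Set G)) : ℚ) * keyQ

end Setup

end Cfsg.Agent.Screen.DihedralOrder
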