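import Cfsg.Agent.Screen.TwoGroupNormal
import Cfsg.Agent.Screen.SylowAux
import Cfsg.Agent.Blocks.ZStarFinal
import Cfsg.Agent.S0111
import Cfsg.Agent.Screen.ThreeTransp

/-! Non-abelian simple groups with an involution whose centralizer has at most three involutions. -/

set_option autoImplicit false
open Cfsg

namespace Cfsg.Agent.Screen

variable {G : Type*} [Group G] [Finite G]

/-- The involutions commuting with `x`. -/
def invCent (x : G) : Set G := {u | orderOf u = 2 ∧ Commute u x}

theorem orderOf_conj (g x : G) : orderOf (g * x * g⁻¹) = orderOf x :=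
  orderOf_injective (MulAut.conj g).toMonoidHom (MulAut.conj g).injective x

theorem invCent_conj (g x : G) :
    (invCent (g * x * g⁻¹)).ncard = (invCent x).ncard := by
  have h : invCent (g * x * g⁻¹) = (MulAut.conj g).toEquiv '' invCent x := by
    ext u
    constructor
    · rintro ⟨hu, hc⟩
      refine ⟨g⁻¹ * u * g, ⟨?_, ?_⟩, show g * (g⁻¹ * u * g) * g⁻¹ = u by group⟩
      · have h1 := orderOf_conj g⁻¹ u
        rw [inv_inv] at h1
        exact h1.trans hu
      · have h1 := hc.map (MulAut.conj g⁻¹).toMonoidHom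
        simpa [mul_assoc] using h1
    · rintro ⟨v, ⟨hv, hc⟩, rfl⟩
      exact ⟨(orderOf_conj g v).trans hv, hc.map (MulAut.conj g).toMonoidHom⟩
  rw [h, Set.ncard_image_of_injective _ (MulAut.conj g).toEquiv.injective]

theorem not_isolated_of_simple [IsSimpleGroup G] (hna : ∃ a b : G, a * b ≠ b * a) (z : G) :
    ¬ IsIsolatedInvolution z := by
  intro hz
  have hcomm := fun g => Cfsg.Agent.Blocks.glauberman_zstar hz g
  rcases (inferInstance : (oddCore G).Normal).eq_bot_or_eq_top with hb | ht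
  · have hc : ∀ g : G, z * g = g * z := fun g => by
      have h := hcomm g
      rw [hb, Subgroup.mem_bot, mul_inv_eq_one, mul_inv_eq_iff_eq_mul] at h
      exact h
    rcases (inferInstance : (Subgroup.center G).Normal).eq_bot_or_eq_top with hb' | ht'
    · have h1 : z ∈ Subgroup.center G := Subgroup.mem_center_iff.2 fun g => (hc g).symm
      rw [hb', Subgroup.mem_bot] at h1
      have := hz.1
      rw [h1, orderOf_one] at this
      omega
    · obtain ⟨a, b, hab⟩ := hna
      exact hab (Subgroup.mem_center_iff.1 (ht' ▸ Subgroup.mem_top b : b ∈ Subgroup.center G) a)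
  · have hodd := Cfsg.Agent.Blocks.odd_card_oddCore G
    rw [ht, Subgroup.card_top] at hodd
    have h2 := orderOf_dvd_natCard z
    rw [hz.1] at h2
    obtain ⟨r, hr⟩ := hodd
    omega

/-- Thompson transfer in a simple non-abelian group. -/
theorem exists_conj_mem_of_index_two [IsSimpleGroup G] (hna : ∃ a b : G, a * b ≠ b * a) (S : Sylow 2 G)
    (A : Subgroup (S : Subgroup G)) (hA : A.index = 2) {x : G} (hx : orderOf x = 2)
    (hxS : x ∈ (S : Subgroup G)) (hxA : (⟨x, hxS⟩ : (S : Subgroup G)) ∉ A) :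
    ∃ (g : G) (a : (S : Subgroup G)), a ∈ A ∧ g * x * g⁻¹ = (a : G) := by
  rcases Cfsg.Agent.S0111.result S (A.map (S : Subgroup G).subtype) (Subgroup.map_subtype_le A)
    (by rw [Subgroup.relIndex, Subgroup.subgroupOf, Subgroup.comap_map_eq_self_of_injective (S : Subgroup G).subtype_injective]; exact hA) x hx hxS
    (fun h => by
      obtain ⟨b, hb, hbe⟩ := Subgroup.mem_map.1 h
      exact hxA ((Subtype.ext hbe : b = ⟨x, hxS⟩) ▸ hb)) with ⟨M, hM, hM2, -⟩ | ⟨g, hg⟩
  · exfalso
    rcases hM.eq_bot_or_eq_top with hb | ht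
    · rw [hb, Subgroup.index_bot] at hM2
      obtain ⟨a, b, hab⟩ := hna
      haveI : IsCyclic G := isCyclic_of_prime_card (p := 2) hM2
      letI := IsCyclic.commGroup (α := G)
      exact hab (mul_comm a b)
    · rw [ht, Subgroup.index_top] at hM2
      omega
  · obtain ⟨a, ha, hae⟩ := Subgroup.mem_map.1 hg
    exact ⟨g, a, ha, hae.symm⟩

/-- The case of a normal four-group. -/
theorem no_normal_case [IsSimpleGroup G] (hna : ∃ a b : G, a * b ≠ b * a) (S : Sylow 2 G) {z y : G}
    (hz : orderOf z = 2) (hzS : z ∈ (S : Subgroup G)) (hzc : ∀ s ∈ (S : Subgroup G), s * z = z * s)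
    (huniq : ∀ c ∈ (S : Subgroup G), orderOf c = 2 → (∀ s ∈ (S : Subgroup G), s * c = c * s) → c = z)
    (hy : orderOf y = 2) (hyS : y ∈ (S : Subgroup G)) (hyz : ∀ g : G, g * y * g⁻¹ ≠ z)
    (hcard : (invCent y).ncard ≤ 3)
    (hnorm : ∀ s ∈ (S : Subgroup G), s * y * s⁻¹ = y ∨ s * y * s⁻¹ = y * z) : False := by
  haveI : Fact (Nat.Prime 2) := ⟨Nat.prime_two⟩
  have zz : z * z = 1 := by rw [← pow_two, ← hz, pow_orderOf_eq_one]
  have yy : y * y = 1 := by rw [← pow_two, ← hy, pow_orderOf_eq_one]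
  have hyz' : y ≠ z := fun h => hyz 1 (by rw [h]; simp)
  have hz1 : z ≠ 1 := fun e => by rw [e, orderOf_one] at hz; omega
  have hy1 : y ≠ 1 := fun e => by rw [e, orderOf_one] at hy; omega
  have hcyz : Commute y z := hzc y hyS
  have hyz2 : orderOf (y * z) = 2 := orderOf_eq_prime (by rw [hcyz.mul_pow, pow_two, pow_two, yy, zz, one_mul])
    (fun h => hyz' (by rw [eq_inv_of_mul_eq_one_left h, inv_eq_of_mul_eq_one_left zz]))
  obtain ⟨t, htS, ht⟩ : ∃ t ∈ (S : Subgroup G), t * y * t⁻¹ = y * z := by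
    by_contra hcon
    push Not at hcon
    exact hyz' (huniq y hyS hy fun s hs => mul_inv_eq_iff_eq_mul.1 ((hnorm s hs).resolve_right (hcon s hs)))
  -- the involutions commuting with `y`
  have hinv : ∀ c : G, orderOf c = 2 → Commute c y → c = y ∨ c = z ∨ c = y * z := by
    intro c hc hcy
    by_contra hcon
    push Not at hcon
    have hsub : ({y, z, y * z, c} : Set G) ⊆ invCent y := by
      rintro u (rfl | rfl | rfl | rfl)
      · exact ⟨hy, Commute.refl _⟩
      · exact ⟨hz, hcyz.symm⟩
      · exact ⟨hyz2, (Commute.refl y).mul_left hcyz.symm⟩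
      · exact ⟨hc, hcy⟩
    have h4 : ({y, z, y * z, c} : Set G).ncard = 4 := by
      rw [Set.ncard_insert_of_notMem, Set.ncard_insert_of_notMem, Set.ncard_insert_of_notMem,
        Set.ncard_singleton]
      · simp only [Set.mem_singleton_iff]; exact hcon.2.2.symm
      · simp only [Set.mem_insert_iff, Set.mem_singleton_iff, not_or]
        exact ⟨fun h => hy1 (mul_eq_right.1 h.symm), hcon.2.1.symm⟩
      · simp only [Set.mem_insert_iff, Set.mem_singleton_iff, not_or]
        exact ⟨hyz', fun h => hz1 (mul_eq_left.1 h.symm), hcon.1.symm⟩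
    have := Set.ncard_le_ncard hsub (Set.toFinite _)
    omega
  -- a conjugate of `z` in `S` other than `z`
  obtain ⟨d, g, hgd, hdS, hdz⟩ : ∃ d g : G, g * z * g⁻¹ = d ∧ d ∈ (S : Subgroup G) ∧ d ≠ z := by
    by_contra hcon
    push Not at hcon
    exact not_isolated_of_simple hna z (Cfsg.Agent.Blocks.isIsolatedInvolution_of_sylow (P := S) hz
      fun g hg => hcon _ g rfl hg)
  have hd2 : orderOf d = 2 := by rw [← hgd, orderOf_conj]; exact hz
  have dd : d * d = 1 := by rw [← pow_two, ← hd2, pow_orderOf_eq_one]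
  have hdy : ¬ Commute d y := by
    intro hc
    rcases hinv d hd2 hc with h | h | h
    · exact hyz g⁻¹ (by rw [← h, ← hgd]; group)
    · exact hdz h
    · exact hyz (g⁻¹ * t) (by
        calc g⁻¹ * t * y * (g⁻¹ * t)⁻¹ = g⁻¹ * (t * y * t⁻¹) * g := by group
          _ = z := by rw [ht, ← h, ← hgd]; group)
  -- conjugate `C_S(d)` into `S` sending `d` to `z`
  have hT : ((g • S : Sylow 2 G) : Subgroup G) ≤ Subgroup.centralizer ({d} : Set G) := by
    rintro _ ⟨s, hs, rfl⟩
    refine Subgroup.mem_centralizer_singleton_iff.2 ?_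
    show g * s * g⁻¹ * d = d * (g * s * g⁻¹)
    rw [← hgd]
    calc g * s * g⁻¹ * (g * z * g⁻¹) = g * (s * z) * g⁻¹ := by group
      _ = g * z * g⁻¹ * (g * s * g⁻¹) := by rw [hzc s hs]; group
  obtain ⟨m, hm, hmR⟩ := exists_conj_mem_sylow _ (g • S) hT
    (IsPGroup.to_le S.2 inf_le_left :
      IsPGroup 2 ↥((S : Subgroup G) ⊓ Subgroup.centralizer ({d} : Set G)))
    inf_le_right
  set k := g⁻¹ * m with hk
  have hkd : k * d * k⁻¹ = z := by
    calc k * d * k⁻¹ = g⁻¹ * (m * d * m⁻¹) * g := by rw [hk]; group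
      _ = z := by
        rw [Subgroup.mem_centralizer_singleton_iff.1 hm, mul_inv_cancel_right, ← hgd]
        group
  have hkS : ∀ r ∈ (S : Subgroup G), Commute r d → k * r * k⁻¹ ∈ (S : Subgroup G) := by
    intro r hr hrd
    obtain ⟨s, hs, hse⟩ := Subgroup.mem_map.1
      (hmR r (Subgroup.mem_inf.2 ⟨hr, Subgroup.mem_centralizer_singleton_iff.2 hrd.eq⟩))
    have hse' : g * s * g⁻¹ = m * r * m⁻¹ := hse
    have : k * r * k⁻¹ = s := by
      calc k * r * k⁻¹ = g⁻¹ * (m * r * m⁻¹) * g := by rw [hk]; group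
        _ = s := by rw [← hse']; group
    rw [this]; exact hs
  have hsq : ∀ s ∈ (S : Subgroup G), Commute (s * s) y := by
    intro s hs
    show s * s * y = y * (s * s)
    rw [← mul_inv_eq_iff_eq_mul]
    have h2 : s * z * s⁻¹ = z := by rw [hzc s hs, mul_inv_cancel_right]
    calc s * s * y * (s * s)⁻¹ = s * (s * y * s⁻¹) * s⁻¹ := by group
      _ = y := by
        rcases hnorm s hs with h | h
        · rw [h, h]
        · rw [h, show s * (y * z) * s⁻¹ = s * y * s⁻¹ * (s * z * s⁻¹) by group, h, h2,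
            mul_assoc, zz, mul_one]
  -- no element of order four of `C_S(y)` commutes with `d`
  have hR : ∀ r ∈ (S : Subgroup G), Commute r y → Commute r d → r * r = 1 := by
    intro r hr hry hrd
    by_contra hr2
    obtain ⟨n, hn⟩ := (IsPGroup.iff_orderOf.1 S.2) ⟨r, hr⟩
    rw [← Subgroup.orderOf_coe] at hn
    have hn2 : 2 ≤ n := by
      by_contra hh
      refine hr2 ?_
      rw [← pow_two, ← orderOf_dvd_iff_pow_eq_one, show orderOf r = 2 ^ n from hn]
      exact (pow_dvd_pow 2 (by omega : n ≤ 1)).trans (by norm_num)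
    set r' := r ^ 2 ^ (n - 2) with hr'
    have hr4 : orderOf r' = 4 := by
      rw [hr', orderOf_pow, show orderOf r = 2 ^ n from hn, Nat.gcd_eq_right (pow_dvd_pow 2 (by omega)),
        Nat.pow_div (by omega) (by norm_num), show n - (n - 2) = 2 by omega]
    have hr'2 : orderOf (r' * r') = 2 := by
      rw [← pow_two, orderOf_pow, hr4]; norm_num
    have hr'S : r' ∈ (S : Subgroup G) := pow_mem hr _
    have hr'z : r' * r' = z := by
      rcases hinv _ hr'2 ((hry.pow_left _).mul_left (hry.pow_left _)) with h | h | h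
      · exact absurd (show Commute d y from h ▸ ((hrd.pow_left _).mul_left (hrd.pow_left _)).symm) hdy
      · exact h
      · exfalso
        have h1 : Commute d (y * z) := h ▸ ((hrd.pow_left _).mul_left (hrd.pow_left _)).symm
        have h2 : Commute d z := hzc d hdS
        have h3 := h1.mul_right h2
        rw [mul_assoc, zz, mul_one] at h3
        exact hdy h3
    have he2 : orderOf (k * z * k⁻¹) = 2 := by rw [orderOf_conj]; exact hz
    have hesq : k * r' * k⁻¹ * (k * r' * k⁻¹) = k * z * k⁻¹ := by rw [← hr'z]; group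
    have hey := hsq _ (hkS r' hr'S (hrd.pow_left _))
    rw [hesq] at hey
    rcases hinv _ he2 hey with h | h | h
    · exact hyz k⁻¹ (by rw [← h]; group)
    · refine hdz (mul_left_cancel (mul_right_cancel (?_ : k * d * k⁻¹ = k * z * k⁻¹)))
      rw [hkd, h]
    · exact hyz (k⁻¹ * t) (by
        calc k⁻¹ * t * y * (k⁻¹ * t)⁻¹ = k⁻¹ * (t * y * t⁻¹) * k := by group
          _ = z := by rw [ht, ← h]; group)
  have hdyd : d * y * d⁻¹ = y * z := (hnorm d hdS).resolve_left fun h => hdy (mul_inv_eq_iff_eq_mul.1 h)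
  -- `C_S(y)` is the four-group
  have hV : ∀ r ∈ (S : Subgroup G), Commute r y → r = 1 ∨ r = y ∨ r = z ∨ r = y * z := by
    by_contra hcon
    push Not at hcon
    obtain ⟨r₀, hr₀S, hr₀y, hr₀⟩ := hcon
    let P := (S : Subgroup G)
    let y' : P := ⟨y, hyS⟩
    let z' : P := ⟨z, hzS⟩
    let S0 : Subgroup P := Subgroup.centralizer ({y'} : Set P)
    let V : Subgroup P := Subgroup.closure {y', z'}
    have hVmem : ∀ v ∈ V, (v : G) = 1 ∨ (v : G) = y ∨ (v : G) = z ∨ (v : G) = y * z := by
      intro v hv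
      induction hv using Subgroup.closure_induction with
      | mem u hu =>
        rcases hu with rfl | rfl
        · exact Or.inr (Or.inl rfl)
        · exact Or.inr (Or.inr (Or.inl rfl))
      | one => exact Or.inl rfl
      | mul u v _ _ hu hv =>
        have e1 : y * (y * z) = z := by rw [← mul_assoc, yy, one_mul]
        have e2 : z * y = y * z := hcyz.eq.symm
        have e3 : z * (y * z) = y := by rw [← mul_assoc, e2, mul_assoc, zz, mul_one]
        have e4 : y * z * y = z := by rw [mul_assoc, e2, e1]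
        have e5 : y * z * z = y := by rw [mul_assoc, zz, mul_one]
        have e6 : y * z * (y * z) = 1 := by rw [← mul_assoc, e4, zz]
        show (u : G) * (v : G) = 1 ∨ (u : G) * (v : G) = y ∨ (u : G) * (v : G) = z ∨ (u : G) * (v : G) = y * z
        rcases hu with h | h | h | h <;> rcases hv with h' | h' | h' | h' <;> rw [h, h'] <;>
          simp [e1, e2, e3, e4, e5, e6, yy, zz]
      | inv u _ hu =>
        show (u : G)⁻¹ = 1 ∨ (u : G)⁻¹ = y ∨ (u : G)⁻¹ = z ∨ (u : G)⁻¹ = y * z
        rcases hu with h | h | h | h <;> rw [h]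
        · simp
        · exact Or.inr (Or.inl (inv_eq_of_mul_eq_one_left yy))
        · exact Or.inr (Or.inr (Or.inl (inv_eq_of_mul_eq_one_left zz)))
        · refine Or.inr (Or.inr (Or.inr ?_))
          rw [mul_inv_rev, inv_eq_of_mul_eq_one_left zz, inv_eq_of_mul_eq_one_left yy, hcyz.eq]
    haveI : V.Normal := ⟨fun v hv s => by
      have hz' : z' ∈ V := Subgroup.subset_closure (by simp)
      have hy' : y' ∈ V := Subgroup.subset_closure (by simp)
      have hle : V.map (MulAut.conj s).toMonoidHom ≤ V := by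
        rw [MonoidHom.map_closure, Subgroup.closure_le]
        rintro _ ⟨u, hu | hu, rfl⟩
        · subst hu
          rcases hnorm s s.2 with h | h
          · have : s * y' * s⁻¹ = y' := Subtype.ext h
            show s * y' * s⁻¹ ∈ V
            rw [this]; exact hy'
          · have : s * y' * s⁻¹ = y' * z' := Subtype.ext h
            show s * y' * s⁻¹ ∈ V
            rw [this]; exact V.mul_mem hy' hz'
        · obtain rfl := Set.mem_singleton_iff.1 hu
          have : s * z' * s⁻¹ = z' := Subtype.ext (by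
            show (s : G) * z * (s : G)⁻¹ = z
            rw [hzc s s.2, mul_inv_cancel_right])
          show s * z' * s⁻¹ ∈ V
          rw [this]; exact hz'
      exact hle (Subgroup.mem_map.2 ⟨v, hv, rfl⟩)⟩
    haveI : S0.Normal := ⟨fun c hc s => by
      rw [Subgroup.mem_centralizer_singleton_iff] at hc ⊢
      have hcy : Commute (c : G) y := congrArg Subtype.val hc
      refine Subtype.ext ?_
      show (s : G) * c * (s : G)⁻¹ * y = y * ((s : G) * c * (s : G)⁻¹)
      have hcv : Commute (c : G) ((s : G)⁻¹ * y * s) := by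
        have := hnorm ((s : G)⁻¹) ((S : Subgroup G).inv_mem s.2)
        rw [inv_inv] at this
        rcases this with h | h <;> rw [h]
        · exact hcy
        · exact hcy.mul_right (hzc c c.2)
      calc (s : G) * c * (s : G)⁻¹ * y = s * (c * ((s : G)⁻¹ * y * s)) * (s : G)⁻¹ := by group
        _ = y * ((s : G) * c * (s : G)⁻¹) := by rw [hcv.eq]; group⟩
    obtain ⟨c, hc, hcV, hcs⟩ := exists_central_mod S.2 S0 V (fun hle => by
      rcases hVmem _ (hle (show (⟨r₀, hr₀S⟩ : P) ∈ S0 from
        Subgroup.mem_centralizer_singleton_iff.2 (Subtype.ext hr₀y.eq))) with h | h | h | h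
      · exact hr₀.1 h
      · exact hr₀.2.1 h
      · exact hr₀.2.2.1 h
      · exact hr₀.2.2.2 h)
    have hcy : Commute (c : G) y := congrArg Subtype.val (Subgroup.mem_centralizer_singleton_iff.1 hc)
    have hv := hVmem _ (hcs ⟨d, hdS⟩)
    set v : G := d * c * d⁻¹ * (c : G)⁻¹ with hvdef
    have hv' : v = 1 ∨ v = y ∨ v = z ∨ v = y * z := hv
    have hdc : d * c * d⁻¹ = v * c := by rw [hvdef, inv_mul_cancel_right]
    have hdinv : d⁻¹ = d := inv_eq_of_mul_eq_one_left dd
    have hvd : d * v * d⁻¹ * v = 1 := by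
      have h2 : d * (d * c * d⁻¹) * d⁻¹ = c := by
        rw [hdinv]; simp only [mul_assoc, mul_mul_self_cancel dd, dd, mul_one]
      rw [hdc, show d * (v * c) * d⁻¹ = d * v * d⁻¹ * (d * c * d⁻¹) by group, hdc, ← mul_assoc] at h2
      exact mul_eq_right.1 h2
    have hdz' : d * z * d⁻¹ = z := by rw [hzc d hdS, mul_inv_cancel_right]
    have hfix : ∀ r : G, r ∈ (S : Subgroup G) → Commute r y → d * r * d⁻¹ = r →
        r = 1 ∨ r = y ∨ r = z ∨ r = y * z := by
      intro r hr hry hrd
      have hrd' : Commute r d := (mul_inv_eq_iff_eq_mul.1 hrd : d * r = r * d).symm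
      by_cases hr1 : r = 1
      · exact Or.inl hr1
      · exact Or.inr (hinv r (orderOf_eq_prime (by rw [pow_two]; exact hR r hr hry hrd') hr1) hry)
    have hnotin : ∀ r : G, (r = 1 ∨ r = y ∨ r = z ∨ r = y * z) → r = (c : G) → False := by
      intro r hr hrc
      have hz'' : z' ∈ V := Subgroup.subset_closure (by simp)
      have hy'' : y' ∈ V := Subgroup.subset_closure (by simp)
      rcases hr with rfl | rfl | rfl | rfl
      · exact hcV ((Subtype.ext hrc : (1 : P) = c) ▸ V.one_mem)
      · exact hcV ((Subtype.ext hrc : y' = c) ▸ hy'')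
      · exact hcV ((Subtype.ext hrc : z' = c) ▸ hz'')
      · exact hcV ((Subtype.ext hrc : y' * z' = c) ▸ V.mul_mem hy'' hz'')
    rcases hv' with h | h | h | h
    · rw [h, one_mul] at hdc
      exact hnotin c (hfix c c.2 hcy hdc) rfl
    · rw [h, hdyd, mul_assoc, ← hcyz.eq, ← mul_assoc, yy, one_mul] at hvd
      exact hz1 hvd
    · rw [h] at hdc
      have hf := hfix (y * c) (mul_mem hyS c.2) ((Commute.refl y).mul_left hcy) (by
        rw [show d * (y * c) * d⁻¹ = d * y * d⁻¹ * (d * c * d⁻¹) by group, hdyd, hdc, mul_assoc,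
          mul_mul_self_cancel zz])
      refine hnotin (y * (y * c)) ?_ (mul_mul_self_cancel yy _)
      rcases hf with e | e | e | e <;> rw [e]
      · simp
      · simp [yy]
      · exact Or.inr (Or.inr (Or.inr rfl))
      · simp [mul_mul_self_cancel yy]
    · rw [h, show d * (y * z) * d⁻¹ = d * y * d⁻¹ * (d * z * d⁻¹) by group, hdyd, hdz',
        mul_assoc y z z, zz, mul_one, ← mul_assoc, yy, one_mul] at hvd
      exact hz1 hvd
  -- the dihedral group of order eight
  set a := d * y with ha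
  have haS : a ∈ (S : Subgroup G) := mul_mem hdS hyS
  have haa : a * a = z := by
    calc a * a = d * y * d⁻¹ * y := by rw [ha, inv_eq_of_mul_eq_one_left dd]; simp only [mul_assoc]
      _ = z := by rw [hdyd, mul_assoc, ← hcyz.eq, ← mul_assoc, yy, one_mul]
  let A : Subgroup (S : Subgroup G) := Subgroup.zpowers ⟨a, haS⟩
  have hAmem : ∀ b : (S : Subgroup G), b ∈ A ↔
      (b : G) = 1 ∨ (b : G) = a ∨ (b : G) = z ∨ (b : G) = a * z := by
    intro b
    constructor
    · intro hb
      obtain ⟨i, rfl⟩ := Subgroup.mem_zpowers_iff.1 hb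
      show a ^ i = 1 ∨ a ^ i = a ∨ a ^ i = z ∨ a ^ i = a * z
      rcases Int.even_or_odd i with ⟨l, rfl⟩ | ⟨l, rfl⟩
      · rcases Int.even_or_odd l with ⟨e, rfl⟩ | ⟨e, rfl⟩
        · left; rw [← two_mul, zpow_mul, zpow_two, haa, ← two_mul, zpow_mul, zpow_two, zz, one_zpow]
        · right; right; left
          rw [← two_mul, zpow_mul, zpow_two, haa, zpow_add, zpow_mul, zpow_two, zz, one_zpow, one_mul, zpow_one]
      · rcases Int.even_or_odd l with ⟨e, rfl⟩ | ⟨e, rfl⟩
        · right; left
          rw [zpow_add, zpow_mul, zpow_two, haa, ← two_mul, zpow_mul, zpow_two, zz, one_zpow, one_mul, zpow_one]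
        · right; right; right
          rw [zpow_add, zpow_mul, zpow_two, haa, zpow_add, zpow_mul, zpow_two, zz, one_zpow, one_mul,
            zpow_one, zpow_one]
          exact (hzc a haS).symm
    · intro hb
      rcases hb with h | h | h | h
      · rw [show b = 1 from Subtype.ext h]; exact A.one_mem
      · rw [show b = ⟨a, haS⟩ from Subtype.ext h]; exact Subgroup.mem_zpowers _
      · rw [show b = ⟨a, haS⟩ * ⟨a, haS⟩ from Subtype.ext (by rw [h, ← haa]; rfl)]
        exact A.mul_mem (Subgroup.mem_zpowers _) (Subgroup.mem_zpowers _)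
      · rw [show b = ⟨a, haS⟩ * (⟨a, haS⟩ * ⟨a, haS⟩) from Subtype.ext (by rw [h, ← haa]; rfl)]
        exact A.mul_mem (Subgroup.mem_zpowers _) (A.mul_mem (Subgroup.mem_zpowers _) (Subgroup.mem_zpowers _))
  have hay : ¬ Commute a y := fun hc => hdy (by
    have := hc.mul_left (Commute.refl y)
    rwa [ha, mul_assoc, yy, mul_one] at this)
  have hyA : (⟨y, hyS⟩ : (S : Subgroup G)) ∉ A := by
    intro h
    rcases (hAmem _).1 h with h | h | h | h
    · exact hy1 h
    · exact hay (h ▸ Commute.refl y)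
    · exact hyz' h
    · refine hay ?_
      have h' : a = y * z := by
        show a = _
        rw [show y = a * z from h, mul_assoc, zz, mul_one]
      rw [h']
      exact (Commute.refl y).mul_left hcyz.symm
  have hindex : A.index = 2 := by
    refine Subgroup.index_eq_two_iff.2 ⟨⟨y, hyS⟩, fun b => ?_⟩
    by_cases hb : b ∈ A
    · exact Or.inr ⟨hb, fun h => hyA ((A.mul_mem_cancel_left hb).1 h)⟩
    · refine Or.inl ⟨?_, hb⟩
      rw [hAmem]
      show (b : G) * y = 1 ∨ (b : G) * y = a ∨ (b : G) * y = z ∨ (b : G) * y = a * z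
      rcases hnorm b b.2 with h | h
      · rcases hV b b.2 (mul_inv_eq_iff_eq_mul.1 h) with e | e | e | e
        · exact absurd ((hAmem b).2 (Or.inl e)) hb
        · left; rw [e, yy]
        · exact absurd ((hAmem b).2 (Or.inr (Or.inr (Or.inl e)))) hb
        · right; right; left; rw [e, mul_assoc, ← hcyz.eq, ← mul_assoc, yy, one_mul]
      · have hcb : Commute (d * (b : G)) y := by
          show d * b * y = y * (d * b)
          rw [← mul_inv_eq_iff_eq_mul]
          calc d * (b : G) * y * (d * (b : G))⁻¹ = d * ((b : G) * y * (b : G)⁻¹) * d⁻¹ := by group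
            _ = d * y * d⁻¹ * (d * z * d⁻¹) := by rw [h]; group
            _ = y := by rw [hdyd, hzc d hdS, mul_inv_cancel_right, mul_assoc, zz, mul_one]
        have hb' : (b : G) = d * (d * b) := (mul_mul_self_cancel dd _).symm
        rcases hV (d * b) (mul_mem hdS b.2) hcb with e | e | e | e <;> rw [e] at hb'
        · right; left; rw [hb', mul_one]
        · refine absurd ((hAmem b).2 (Or.inr (Or.inl ?_))) hb; rw [hb']
        · right; right; right; rw [hb', mul_assoc, ← hcyz.eq, ← mul_assoc]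
        · refine absurd ((hAmem b).2 (Or.inr (Or.inr (Or.inr ?_)))) hb; rw [hb', ha, mul_assoc]
  obtain ⟨g', b, hb, hgb⟩ := exists_conj_mem_of_index_two hna S A hindex hy hyS hyA
  have hb2 : orderOf (b : G) = 2 := by rw [← hgb, orderOf_conj]; exact hy
  rcases (hAmem b).1 hb with h | h | h | h
  · rw [h, orderOf_one] at hb2; omega
  · have h2 : (b : G) ^ 2 = 1 := orderOf_dvd_iff_pow_eq_one.1 hb2.dvd
    rw [h, pow_two, haa] at h2
    exact hz1 h2
  · exact hyz g' (hgb.trans h)
  · have h2 : (b : G) ^ 2 = 1 := orderOf_dvd_iff_pow_eq_one.1 hb2.dvd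
    rw [h, (show Commute a z from hzc a haS).mul_pow, pow_two, pow_two, haa, zz, mul_one] at h2
    exact hz1 h2

/-- An involution with at most three involutions in its centralizer is central in a Sylow
2-subgroup. -/
theorem central_of_three [IsSimpleGroup G] (hna : ∃ a b : G, a * b ≠ b * a) {x : G} (hx : orderOf x = 2)
    (h3 : (invCent x).ncard ≤ 3) :
    ∃ S : Sylow 2 G, (S : Subgroup G) ≤ Subgroup.centralizer ({x} : Set G) := by
  haveI : Fact (Nat.Prime 2) := ⟨Nat.prime_two⟩
  have hp : IsPGroup 2 (Subgroup.zpowers x) :=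
    IsPGroup.of_card (n := 1) (by rw [Nat.card_zpowers, hx, pow_one])
  obtain ⟨S, hS⟩ := hp.exists_le_sylow
  have hxS : x ∈ (S : Subgroup G) := hS (Subgroup.mem_zpowers x)
  by_contra hcon
  push Not at hcon
  have hno : ∀ g : G, ¬ ∀ s ∈ (S : Subgroup G), s * (g * x * g⁻¹) = g * x * g⁻¹ * s := by
    intro g hg
    refine hcon (g⁻¹ • S) ?_
    rintro _ ⟨s, hs, rfl⟩
    refine Subgroup.mem_centralizer_singleton_iff.2 ?_
    show g⁻¹ * s * g⁻¹⁻¹ * x = x * (g⁻¹ * s * g⁻¹⁻¹)
    calc g⁻¹ * s * g⁻¹⁻¹ * x = g⁻¹ * (s * (g * x * g⁻¹)) * g := by group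
      _ = x * (g⁻¹ * s * g⁻¹⁻¹) := by rw [hg s hs]; group
  haveI : Nontrivial (S : Subgroup G) :=
    ⟨⟨x, hxS⟩, 1, fun h => by
      have hh : x = 1 := congrArg Subtype.val h
      rw [hh, orderOf_one] at hx; omega⟩
  haveI : Nontrivial (Subgroup.center (S : Subgroup G)) := S.2.center_nontrivial
  obtain ⟨n, hn, hcard⟩ :=
    (S.2.to_subgroup (Subgroup.center (S : Subgroup G))).nontrivial_iff_card.1 inferInstance
  obtain ⟨z₀, hz₀⟩ := exists_prime_orderOf_dvd_card' 2
    (hcard ▸ dvd_pow_self 2 (by omega) : 2 ∣ Nat.card (Subgroup.center (S : Subgroup G)))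
  set z : G := ((z₀ : (S : Subgroup G)) : G) with hzdef
  have hz : orderOf z = 2 := by rw [hzdef, Subgroup.orderOf_coe, Subgroup.orderOf_coe, hz₀]
  have hzS : z ∈ (S : Subgroup G) := (z₀ : (S : Subgroup G)).2
  have hzc : ∀ s ∈ (S : Subgroup G), s * z = z * s := fun s hs =>
    congrArg Subtype.val (Subgroup.mem_center_iff.1 z₀.2 ⟨s, hs⟩)
  have zz : z * z = 1 := by rw [← pow_two, ← hz, pow_orderOf_eq_one]
  have hxz : ∀ g : G, g * x * g⁻¹ ≠ z := fun g hg => hno g (hg.symm ▸ hzc)
  have hxz' : x ≠ z := fun h => hxz 1 (by rw [h]; simp)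
  have hinv : ∀ c : G, orderOf c = 2 → Commute c x → c = x ∨ c = z ∨ c = x * z := by
    intro c hc hcx
    by_contra hcon'
    push Not at hcon'
    have xx : x * x = 1 := by rw [← pow_two, ← hx, pow_orderOf_eq_one]
    have hcxz : Commute x z := hzc x hxS
    have hz1 : z ≠ 1 := fun e => by rw [e, orderOf_one] at hz; omega
    have hx1 : x ≠ 1 := fun e => by rw [e, orderOf_one] at hx; omega
    have hsub : ({x, z, x * z, c} : Set G) ⊆ invCent x := by
      rintro u (rfl | rfl | rfl | rfl)
      · exact ⟨hx, Commute.refl _⟩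
      · exact ⟨hz, hcxz.symm⟩
      · exact ⟨orderOf_eq_prime (by rw [hcxz.mul_pow, pow_two, pow_two, xx, zz, one_mul])
          (fun h => hxz' (by rw [eq_inv_of_mul_eq_one_left h, inv_eq_of_mul_eq_one_left zz])),
          (Commute.refl x).mul_left hcxz.symm⟩
      · exact ⟨hc, hcx⟩
    have h4 : ({x, z, x * z, c} : Set G).ncard = 4 := by
      rw [Set.ncard_insert_of_notMem, Set.ncard_insert_of_notMem, Set.ncard_insert_of_notMem,
        Set.ncard_singleton]
      · simp only [Set.mem_singleton_iff]; exact hcon'.2.2.symm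
      · simp only [Set.mem_insert_iff, Set.mem_singleton_iff, not_or]
        exact ⟨fun h => hx1 (mul_eq_right.1 h.symm), hcon'.2.1.symm⟩
      · simp only [Set.mem_insert_iff, Set.mem_singleton_iff, not_or]
        exact ⟨hxz', fun h => hz1 (mul_eq_left.1 h.symm), hcon'.1.symm⟩
    have := Set.ncard_le_ncard hsub (Set.toFinite _)
    omega
  have huniq : ∀ c ∈ (S : Subgroup G), orderOf c = 2 → (∀ s ∈ (S : Subgroup G), s * c = c * s) → c = z := by
    intro c _ hc2 hcc
    rcases hinv c hc2 (show Commute c x from (hcc x hxS).symm) with h | h | h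
    · exact absurd hcc (fun hh => hno 1 (by rw [h] at hh; simpa using hh))
    · exact h
    · refine absurd (fun s hs => ?_) (hno 1)
      have h1 : Commute s c := hcc s hs
      have h2 : Commute s z := hzc s hs
      have h3 := h1.mul_right h2
      rw [h, mul_assoc, zz, mul_one] at h3
      simpa using h3.eq
  by_cases hW : ∃ w ∈ (S : Subgroup G), orderOf w = 2 ∧ w ≠ z ∧
      ∀ s ∈ (S : Subgroup G), s * w * s⁻¹ = w ∨ s * w * s⁻¹ = w * z
  · obtain ⟨w, hwS, hw, hwz, hwn⟩ := hW
    have ww : w * w = 1 := by rw [← pow_two, ← hw, pow_orderOf_eq_one]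
    have hcwz : Commute w z := hzc w hwS
    have hflip : ∀ u, u = w * z → ∀ s ∈ (S : Subgroup G), s * u * s⁻¹ = u ∨ s * u * s⁻¹ = u * z := by
      rintro u rfl s hs
      have h2 : s * z * s⁻¹ = z := by rw [hzc s hs, mul_inv_cancel_right]
      rw [show s * (w * z) * s⁻¹ = s * w * s⁻¹ * (s * z * s⁻¹) by group, h2]
      rcases hwn s hs with h | h
      · exact Or.inl (by rw [h])
      · exact Or.inr (by rw [h])
    by_cases hwx : Commute w x
    · rcases hinv w hw hwx with h | h | h
      · subst h; exact no_normal_case hna S hz hzS hzc huniq hx hxS hxz h3 hwn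
      · exact hwz h
      · refine no_normal_case hna S hz hzS hzc huniq hx hxS hxz h3 (hflip x ?_)
        rw [h, mul_assoc, zz, mul_one]
    -- transfer: a conjugate of `x` centralizes `w`
    obtain ⟨t, htS, ht⟩ : ∃ t ∈ (S : Subgroup G), t * w * t⁻¹ = w * z := by
      by_contra hcon'
      push Not at hcon'
      exact hwz (huniq w hwS hw fun s hs => mul_inv_eq_iff_eq_mul.1 ((hwn s hs).resolve_right (hcon' s hs)))
    let K : Subgroup (S : Subgroup G) := (Subgroup.centralizer ({w} : Set G)).subgroupOf (S : Subgroup G)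
    have hKmem : ∀ b : (S : Subgroup G), b ∈ K ↔ (b : G) * w * (b : G)⁻¹ = w := by
      intro b
      rw [Subgroup.mem_subgroupOf, Subgroup.mem_centralizer_singleton_iff, mul_inv_eq_iff_eq_mul]
    have hxK : (⟨x, hxS⟩ : (S : Subgroup G)) ∉ K := fun h =>
      hwx (Subgroup.mem_centralizer_singleton_iff.1 (Subgroup.mem_subgroupOf.1 h)).symm
    have hK : K.index = 2 := by
      refine Subgroup.index_eq_two_iff.2 ⟨⟨x, hxS⟩, fun b => ?_⟩
      by_cases hb : b ∈ K
      · exact Or.inr ⟨hb, fun h => hxK ((K.mul_mem_cancel_left hb).1 h)⟩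
      · refine Or.inl ⟨?_, hb⟩
        rw [hKmem]
        have h1 := (hwn b b.2).resolve_left (fun h => hb ((hKmem b).2 h))
        have h2 := (hwn x hxS).resolve_left (fun h => hwx (mul_inv_eq_iff_eq_mul.1 h).symm)
        show (b : G) * x * w * ((b : G) * x)⁻¹ = w
        calc (b : G) * x * w * ((b : G) * x)⁻¹ = b * (x * w * x⁻¹) * (b : G)⁻¹ := by group
          _ = b * w * (b : G)⁻¹ * (b * z * (b : G)⁻¹) := by rw [h2]; group
          _ = w := by rw [h1, hzc b b.2, mul_inv_cancel_right, mul_assoc, zz, mul_one]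
    obtain ⟨g, k, hk, hgk⟩ := exists_conj_mem_of_index_two hna S K hK hx hxS hxK
    have hkw : Commute (k : G) w := Subgroup.mem_centralizer_singleton_iff.1 (Subgroup.mem_subgroupOf.1 hk)
    have hk3 : (invCent (k : G)).ncard ≤ 3 := by rw [← hgk, invCent_conj]; exact h3
    have hk2 : orderOf (k : G) = 2 := by rw [← hgk, orderOf_conj]; exact hx
    have hkz : ∀ g' : G, g' * (k : G) * g'⁻¹ ≠ z := fun g' h => hxz (g' * g) (by rw [← h, ← hgk]; group)
    have hkwz : (k : G) = w ∨ (k : G) = w * z := by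
      by_contra hcon'
      push Not at hcon'
      have hwz2 : orderOf (w * z) = 2 := orderOf_eq_prime
        (by rw [hcwz.mul_pow, pow_two, pow_two, ww, zz, one_mul])
        (fun h => hwz (by rw [eq_inv_of_mul_eq_one_left h, inv_eq_of_mul_eq_one_left zz]))
      have hsub : ({(k : G), w, z, w * z} : Set G) ⊆ invCent (k : G) := by
        rintro u (rfl | rfl | rfl | rfl)
        · exact ⟨hk2, Commute.refl _⟩
        · exact ⟨hw, hkw.symm⟩
        · exact ⟨hz, (hzc k k.2).symm⟩
        · exact ⟨hwz2, hkw.symm.mul_left (hzc k k.2).symm⟩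
      have h4 : ({(k : G), w, z, w * z} : Set G).ncard = 4 := by
        rw [Set.ncard_insert_of_notMem, Set.ncard_insert_of_notMem, Set.ncard_insert_of_notMem,
          Set.ncard_singleton]
        · simp only [Set.mem_singleton_iff]
          intro h; have := mul_eq_right.1 h.symm; rw [this, orderOf_one] at hw; omega
        · simp only [Set.mem_insert_iff, Set.mem_singleton_iff, not_or]
          refine ⟨hwz, fun h => ?_⟩
          have := mul_eq_left.1 h.symm; rw [this, orderOf_one] at hz; omega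
        · simp only [Set.mem_insert_iff, Set.mem_singleton_iff, not_or]
          exact ⟨hcon'.1, fun h => hkz 1 (by rw [h]; simp), hcon'.2⟩
      have := Set.ncard_le_ncard hsub (Set.toFinite _)
      omega
    rcases hkwz with h | h
    · refine no_normal_case hna S hz hzS hzc huniq hk2 k.2 hkz hk3 ?_
      intro s hs; rw [h]; exact hwn s hs
    · exact no_normal_case hna S hz hzS hzc huniq hk2 k.2 hkz hk3 (hflip _ h)
  · -- a cyclic subgroup of index two
    push Not at hW
    obtain ⟨A, hA, hxA, hAz⟩ := exists_cyclic_index_two S.2 (z := ⟨z, hzS⟩) (x := ⟨x, hxS⟩)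
      (by rw [← Subgroup.orderOf_coe]; exact hz)
      (fun s => Subtype.ext (hzc s s.2))
      (fun c hc hcc => Subtype.ext (huniq c c.2 (by rw [Subgroup.orderOf_coe]; exact hc)
        fun s hs => congrArg Subtype.val (hcc ⟨s, hs⟩)))
      (fun w hw hwz => by
        obtain ⟨s, hs, h1, h2⟩ := hW w w.2 (by rw [Subgroup.orderOf_coe]; exact hw)
          (fun h => hwz (Subtype.ext h))
        exact ⟨⟨s, hs⟩, fun h => h1 (congrArg Subtype.val h), fun h => h2 (congrArg Subtype.val h)⟩)
      (by rw [← Subgroup.orderOf_coe]; exact hx) (fun h => hxz' (congrArg Subtype.val h))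
    obtain ⟨g, a, ha, hga⟩ := exists_conj_mem_of_index_two hna S A hA hx hxS hxA
    refine hxz g ?_
    rw [hga]
    exact congrArg Subtype.val (hAz a ha (by rw [← Subgroup.orderOf_coe, ← hga, orderOf_conj]; exact hx))

/-- All involutions are then conjugate. -/
theorem one_class_of_three [IsSimpleGroup G] (hna : ∃ a b : G, a * b ≠ b * a) {x : G} (hx : orderOf x = 2)
    (h3 : (invCent x).ncard ≤ 3) {u v : G} (hu : orderOf u = 2) (hv : orderOf v = 2) : IsConj u v := by
  haveI : Fact (Nat.Prime 2) := ⟨Nat.prime_two⟩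
  obtain ⟨S, hS⟩ := central_of_three hna hx h3
  have hinS : ∀ w : G, orderOf w = 2 → ∃ g : G, g * w * g⁻¹ ∈ (S : Subgroup G) := by
    intro w hw
    have hp : IsPGroup 2 (Subgroup.zpowers w) :=
      IsPGroup.of_card (n := 1) (by rw [Nat.card_zpowers, hw, pow_one])
    obtain ⟨T, hT⟩ := hp.exists_le_sylow
    obtain ⟨g, hg⟩ := MulAction.exists_smul_eq G T S
    exact ⟨g, hg ▸ Subgroup.mem_map.2 ⟨w, hT (Subgroup.mem_zpowers w), rfl⟩⟩
  set J : Set G := {w | orderOf w = 2 ∧ w ∈ (S : Subgroup G)} with hJ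
  have hJsub : J ⊆ invCent x := fun w hw =>
    ⟨hw.1, Subgroup.mem_centralizer_singleton_iff.1 (hS hw.2)⟩
  have hJ3 : J.ncard ≤ 3 := (Set.ncard_le_ncard hJsub (Set.toFinite _)).trans h3
  have hpair : ∀ w ∈ J, ∃ w' ∈ J, w' ≠ w ∧ IsConj w w' := by
    intro w hw
    by_contra hcon
    push Not at hcon
    refine not_isolated_of_simple hna w (Cfsg.Agent.Blocks.isIsolatedInvolution_of_sylow (P := S) hw.1 ?_)
    intro g hg
    by_contra hne
    exact hcon (g * w * g⁻¹) ⟨(orderOf_conj g w).trans hw.1, hg⟩ hne (isConj_iff.2 ⟨g, rfl⟩)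
  suffices h : ∀ w ∈ J, ∀ w' ∈ J, IsConj w w' by
    obtain ⟨g, hg⟩ := hinS u hu
    obtain ⟨g', hg'⟩ := hinS v hv
    have h1 : IsConj u (g * u * g⁻¹) := isConj_iff.2 ⟨g, rfl⟩
    have h2 : IsConj v (g' * v * g'⁻¹) := isConj_iff.2 ⟨g', rfl⟩
    exact (h1.trans (h _ ⟨(orderOf_conj g u).trans hu, hg⟩ _ ⟨(orderOf_conj g' v).trans hv, hg'⟩)).trans h2.symm
  intro w hw w' hw'
  by_contra hne
  obtain ⟨w₁, hw₁, hw₁w, hc₁⟩ := hpair w hw
  obtain ⟨w₂, hw₂, hw₂w, hc₂⟩ := hpair w' hw'
  have hsub : ({w, w₁, w', w₂} : Set G) ⊆ J := by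
    rintro t (rfl | rfl | rfl | rfl) <;> assumption
  have h4 : ({w, w₁, w', w₂} : Set G).ncard = 4 := by
    rw [Set.ncard_insert_of_notMem, Set.ncard_insert_of_notMem, Set.ncard_insert_of_notMem,
      Set.ncard_singleton]
    · simp only [Set.mem_singleton_iff]; exact hw₂w.symm
    · simp only [Set.mem_insert_iff, Set.mem_singleton_iff, not_or]
      exact ⟨fun h => hne (h ▸ hc₁), fun h => hne (hc₁.trans (h ▸ hc₂.symm))⟩
    · simp only [Set.mem_insert_iff, Set.mem_singleton_iff, not_or]
      exact ⟨hw₁w.symm, fun h => hne (h ▸ IsConj.refl w), fun h => hne ((h ▸ hc₂ : IsConj w' w).symm)⟩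
  have := Set.ncard_le_ncard hsub (Set.toFinite _)
  omega

end Cfsg.Agent.Screen
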